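import Cfsg.Agent.Lib.Classical.PslBin.Forms
import Cfsg.Agent.Lib.Perm.Dickson.Borel
import Cfsg.Agent.Lib.Perm.Dickson.Icosa

/-!
# Tori of `PGL(2)` and lifts of their elements
-/

set_option autoImplicit false

namespace CfsgLib.Classical.PslBin

open Matrix
open CfsgLib.Perm.Dickson

variable {F : Type*} [Field F]

/-- A non-trivial element determines the torus containing it. -/
theorem pairFix_eq {a b c d : P2 (Kc F)} (hab : a ≠ b) (hcd : c ≠ d) {e : G2 F} (he : e ≠ 1)
    (h1 : e ∈ pairFix a b) (h2 : e ∈ pairFix c d) : pairFix c d = pairFix a b := by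
  obtain ⟨ha, hb⟩ := mem_pairFix.1 h1
  obtain ⟨hc, hd⟩ := mem_pairFix.1 h2
  have hne : mapG (iF F) e ≠ 1 := fun h => he ((map_eq_one_iff _ (mapG_injective _)).1 h)
  have key : ∀ z, mapG (iF F) e • z = z → z = a ∨ z = b := fun z hz => by
    by_contra hcon
    push Not at hcon
    exact hne (eq_one_of_three hab hcon.1.symm hcon.2.symm ha hb hz)
  rcases key c hc with rfl | rfl <;> rcases key d hd with rfl | rfl
  · exact absurd rfl hcd
  · rfl
  · ext g; simp only [mem_pairFix, and_comm]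
  · exact absurd rfl hcd

theorem mem_pairFix_conj {u g : G2 F} {a b : P2 (Kc F)} :
    u⁻¹ * g * u ∈ pairFix a b ↔ g ∈ pairFix (mapG (iF F) u • a) (mapG (iF F) u • b) := by
  simp only [mem_pairFix, map_mul, map_inv, mul_smul, inv_smul_eq_iff]

theorem mem_pairSet_conj {u g : G2 F} {a b : P2 (Kc F)} :
    u⁻¹ * g * u ∈ pairSet a b ↔ g ∈ pairSet (mapG (iF F) u • a) (mapG (iF F) u • b) := by
  simp only [mem_pairSet, map_mul, map_inv, mul_smul, inv_smul_eq_iff]

theorem pairFix_comm [Finite F] {a b : P2 (Kc F)} (hab : a ≠ b) {g h : G2 F} (hg : g ∈ pairFix a b)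
    (hh : h ∈ pairFix a b) : g * h = h * g := by
  haveI := isCyclic_pairFix (F := F) hab
  letI := IsCyclic.commGroup (α := pairFix a b)
  exact congrArg Subtype.val (mul_comm (⟨g, hg⟩ : pairFix a b) ⟨h, hh⟩)

/-- A swap inverts the torus. -/
theorem inv_of_swap {a b : P2 (Kc F)} (hab : a ≠ b) {s x : G2 F} (hs : s ∈ pairSet a b) (hsn : s ∉ pairFix a b)
    (hx : x ∈ pairFix a b) : s * x = x⁻¹ * s := by
  have h1 := sq_of_swap hab hs hsn
  have h2 := sq_of_swap hab ((pairSet a b).mul_mem hs (pairFix_le_pairSet a b hx))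
    (fun h => hsn ((Subgroup.mul_mem_cancel_right _ hx).1 h))
  symm
  calc x⁻¹ * s = x⁻¹ * (s * ((s * x) * (s * x))) := by rw [h2, mul_one]
    _ = x⁻¹ * ((s * s) * x * (s * x)) := by group
    _ = s * x := by rw [h1, one_mul, inv_mul_cancel_left]

/-- A torus has at most one involution. -/
theorem invol_unique [Finite F] {a b : P2 (Kc F)} (hab : a ≠ b) {i j : G2 F} (hi : i ∈ pairFix a b)
    (hj : j ∈ pairFix a b) (hi2 : i * i = 1) (hj2 : j * j = 1) (hi1 : i ≠ 1) (hj1 : j ≠ 1) : i = j := by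
  classical
  haveI := finite_G2 (F := F)
  haveI := isCyclic_pairFix (F := F) hab
  haveI : Fintype (pairFix a b) := Fintype.ofFinite _
  by_contra hij
  have h := IsCyclic.card_pow_eq_one_le (α := pairFix a b) (n := 2) two_pos
  have hsub : ({1, ⟨i, hi⟩, ⟨j, hj⟩} : Finset (pairFix a b)) ⊆ Finset.univ.filter fun g => g ^ 2 = 1 := by
    intro g hg
    simp only [Finset.mem_insert, Finset.mem_singleton] at hg
    rcases hg with rfl | rfl | rfl <;> simp [pow_two, Subtype.ext_iff, hi2, hj2]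
  have h3 := Finset.card_le_card hsub
  rw [Finset.card_insert_of_notMem (by simp [Subtype.ext_iff, Ne.symm hi1, Ne.symm hj1]),
    Finset.card_pair (by simpa [Subtype.ext_iff] using hij)] at h3
  omega

/-! ### Lifts -/

theorem sl_sq (X : Matrix.SpecialLinearGroup (Fin 2) F) :
    (X : Matrix (Fin 2) (Fin 2) F) * X = (X : Matrix (Fin 2) (Fin 2) F).trace • (X : Matrix (Fin 2) (Fin 2) F) - 1 := by
  rw [mat_sq, Matrix.trace_fin_two, X.2, one_smul]

/-- Equality of matrices is equality in `SL`. -/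
theorem sl_eq {A B : Matrix.SpecialLinearGroup (Fin 2) F}
    (h : (A : Matrix (Fin 2) (Fin 2) F) = (B : Matrix (Fin 2) (Fin 2) F)) : A = B := Subtype.ext h

theorem sl_eq_iff {A B : Matrix.SpecialLinearGroup (Fin 2) F} :
    A = B ↔ (A : Matrix (Fin 2) (Fin 2) F) = (B : Matrix (Fin 2) (Fin 2) F) := ⟨fun h => by rw [h], sl_eq⟩

theorem sl_neg_one : ((-1 : Matrix.SpecialLinearGroup (Fin 2) F) : Matrix (Fin 2) (Fin 2) F) = -1 := rfl

theorem sl_mul (A B : Matrix.SpecialLinearGroup (Fin 2) F) :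
    ((A * B : Matrix.SpecialLinearGroup (Fin 2) F) : Matrix (Fin 2) (Fin 2) F) =
      (A : Matrix (Fin 2) (Fin 2) F) * B := rfl

theorem sl_inv (A : Matrix.SpecialLinearGroup (Fin 2) F) :
    ((A⁻¹ : Matrix.SpecialLinearGroup (Fin 2) F) : Matrix (Fin 2) (Fin 2) F) =
      !![A.1 1 1, -A.1 0 1; -A.1 1 0, A.1 0 0] :=
  (show _ = Matrix.adjugate A.1 from rfl).trans (Matrix.adjugate_fin_two A.1)

theorem sl_neg (A : Matrix.SpecialLinearGroup (Fin 2) F) :
    ((-A : Matrix.SpecialLinearGroup (Fin 2) F) : Matrix (Fin 2) (Fin 2) F) = -(A : Matrix (Fin 2) (Fin 2) F) := rfl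

theorem sl_one : ((1 : Matrix.SpecialLinearGroup (Fin 2) F) : Matrix (Fin 2) (Fin 2) F) = 1 := rfl

theorem pj_sq_of_trace_zero {X : Matrix.SpecialLinearGroup (Fin 2) F}
    (h : (X : Matrix (Fin 2) (Fin 2) F).trace = 0) : pj X * pj X = 1 := by
  rw [← map_mul, pj_eq_one]
  exact Or.inr (sl_eq (by rw [sl_mul, sl_sq, h, zero_smul, zero_sub, sl_neg_one]))

theorem trace_zero_of_sq {X : Matrix.SpecialLinearGroup (Fin 2) F} (h1 : pj X ≠ 1) (h2 : pj X * pj X = 1) :
    (X : Matrix (Fin 2) (Fin 2) F).trace = 0 := by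
  rw [← map_mul, pj_eq_one] at h2
  have hX : ∀ c : F, (X : Matrix (Fin 2) (Fin 2) F) = c • 1 → False := fun c hc =>
    h1 (mk_eq_one_of_scalar _ c hc)
  set t := (X : Matrix (Fin 2) (Fin 2) F).trace with ht
  by_contra h0
  rcases h2 with e | e <;> rw [sl_eq_iff] at e <;>
    simp only [sl_mul, sl_one, sl_neg_one, sl_sq, ← ht] at e
  · exact hX (t⁻¹ * 2) (by
      rw [sub_eq_iff_eq_add] at e
      rw [mul_smul, two_smul, ← e, smul_smul, inv_mul_cancel₀ h0, one_smul])
  · rw [sub_eq_neg_self, smul_eq_zero] at e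
    exact hX 0 (by rw [e.resolve_left h0, zero_smul])

theorem pj_cube_of_trace {X : Matrix.SpecialLinearGroup (Fin 2) F}
    (h : (X : Matrix (Fin 2) (Fin 2) F).trace ^ 2 = 1) : pj X ^ 3 = 1 :=
  pow_three_eq_one _ (by
    show (X.1 0 0 + X.1 1 1) ^ 2 = X.1.det
    rw [← Matrix.trace_fin_two, h, X.2])

theorem pj_four_of_trace {X : Matrix.SpecialLinearGroup (Fin 2) F}
    (h : (X : Matrix (Fin 2) (Fin 2) F).trace ^ 2 = 2) : pj X ^ 4 = 1 := by
  set t := (X : Matrix (Fin 2) (Fin 2) F).trace with ht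
  rw [show (4 : ℕ) = 2 + 2 from rfl, pow_add, pow_two, ← map_mul, ← map_mul, pj_eq_one]
  refine Or.inr (sl_eq ?_)
  rw [sl_mul, sl_mul, sl_sq, ← ht, sl_neg_one]
  simp only [sub_mul, mul_sub, smul_mul_assoc, mul_smul_comm, one_mul, mul_one, smul_smul, sl_sq, ← ht]
  match_scalars <;> first | linear_combination h | linear_combination t * h | linear_combination (-t) * h | linear_combination -h | ring

theorem pj_comm_iff {A B : Matrix.SpecialLinearGroup (Fin 2) F} :
    pj A * pj B = pj B * pj A ↔ (A : Matrix (Fin 2) (Fin 2) F) * B = (B : Matrix (Fin 2) (Fin 2) F) * A ∨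
      (A : Matrix (Fin 2) (Fin 2) F) * B = -((B : Matrix (Fin 2) (Fin 2) F) * A) := by
  rw [← map_mul, ← map_mul, pj_eq_iff]
  simp only [sl_eq_iff, SpecialLinearGroup.coe_neg, sl_mul]

/-- A non-trivial element of a torus has lifts with trace other than `±2`. -/
theorem exists_lift_trace [Finite F] {a b : P2 (Kc F)} (hg : GoodPair a b) {x : G2 F} (hx : x ∈ psl F)
    (hxT : x ∈ pairFix a b) (h1 : x ≠ 1) :
    ∃ X, pj X = x ∧ (X : Matrix (Fin 2) (Fin 2) F).trace ^ 2 - 4 ≠ 0 := by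
  obtain ⟨X, rfl⟩ := exists_lift hx
  refine ⟨X, rfl, fun h4 => ?_⟩
  obtain ⟨p, _⟩ := CharP.exists F
  have hp : p.Prime := (CharP.char_is_prime_or_zero F p).resolve_right (CharP.char_ne_zero_of_finite F p)
  haveI := Fact.mk hp
  set t := (X : Matrix (Fin 2) (Fin 2) F).trace with ht
  obtain ⟨ε, hε, hεt⟩ : ∃ ε : F, ε ^ 2 = 1 ∧ t = ε + ε := by
    have h' : (t - 2) * (t + 2) = 0 := by linear_combination h4
    rcases mul_eq_zero.1 h' with h | h
    · exact ⟨1, one_pow _, by linear_combination h⟩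
    · exact ⟨-1, by ring, by linear_combination h⟩
  have hnil : ((X : Matrix (Fin 2) (Fin 2) F) - ε • 1) ^ 2 = 0 := by
    rw [pow_two]
    simp only [sub_mul, mul_sub, smul_mul_assoc, mul_smul_comm, one_mul, mul_one, smul_smul, sl_sq, ← ht, hεt]
    match_scalars <;> first | linear_combination hε | linear_combination -hε | ring
  have hpow := pow_eq_zero_of_le hp.two_le hnil
  rw [sub_pow_expChar_of_commute (p := p) ((Commute.one_right _).smul_right ε), smul_pow, one_pow, sub_eq_zero]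
    at hpow
  have hxp : pj X ^ p = 1 := by
    rw [← map_pow, pj_eq_one]
    rcases sq_eq_one_iff.1 hε with rfl | rfl
    · exact Or.inl (sl_eq (by simpa using hpow))
    · rcases neg_one_pow_eq_or F p with e | e <;> rw [e] at hpow
      · exact Or.inl (sl_eq (by simpa using hpow))
      · exact Or.inr (sl_eq (by simpa [sl_neg_one] using hpow))
  have hord : orderOf (pj X) = p :=
    orderOf_eq_prime hxp h1
  refine not_p_dvd_torus p hg ?_
  rw [← hord, show orderOf (pj X) = orderOf (⟨pj X, hxT⟩ : pairFix a b) from Subgroup.orderOf_coe (⟨pj X, hxT⟩ : pairFix a b)]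
  exact orderOf_dvd_natCard _

end CfsgLib.Classical.PslBin
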