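import Cfsg.Agent.Lib.Classical.PslBin.TwoTrans
import Cfsg.Agent.Lib.Classical.PslBin.Pairs
import Cfsg.Agent.Lib.Perm.Dickson.KleinUniq
import Cfsg.Agent.Lib.Perm.Dickson.Maximal

/-!
# Tetrahedral subgroups
-/

set_option autoImplicit false

namespace CfsgLib.Classical.PslBin

open Matrix
open CfsgLib.Perm.Dickson

theorem a4_cent_three : ∀ x y : alternatingGroup (Fin 4), x * x * x = 1 → x ≠ 1 → y * x * y⁻¹ = x →
    (y = 1 ∨ y = x ∨ y = x * x) := by decide +kernel

theorem a4_not_inv : ∀ x y : alternatingGroup (Fin 4), x * x * x = 1 → x ≠ 1 → y * x * y⁻¹ ≠ x * x := by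
  decide +kernel

theorem a4_norm_three (x y : alternatingGroup (Fin 4)) (h3 : x * x * x = 1) (h1 : x ≠ 1)
    (h : y * x * y⁻¹ = x ∨ y * x * y⁻¹ = x * x) : y = 1 ∨ y = x ∨ y = x * x :=
  h.elim (a4_cent_three x y h3 h1) fun e => absurd e (a4_not_inv x y h3 h1)

theorem a4_has_invol : ∃ y : alternatingGroup (Fin 4), y * y = 1 ∧ y ≠ 1 := by decide

theorem a4_has_three : ∃ y : alternatingGroup (Fin 4), y * y * y = 1 ∧ y ≠ 1 := by decide

theorem a4_invol_comm : ∀ x y : alternatingGroup (Fin 4), x * x = 1 → y * y = 1 → x * y = y * x := by decide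

theorem s4_cent_three : ∀ x y : Equiv.Perm (Fin 4), x * x * x = 1 → x ≠ 1 → x * y = y * x →
    (y = 1 ∨ y = x ∨ y = x * x) := by decide

theorem s4_inv_three : ∀ x : Equiv.Perm (Fin 4), x * x * x = 1 → ∃ s, s * x * s⁻¹ = x⁻¹ ∧ Equiv.Perm.sign s = -1 := by
  decide

theorem a5_cent_three : ∀ x y : alternatingGroup (Fin 5), x * x * x = 1 → x ≠ 1 → x * y = y * x →
    (y = 1 ∨ y = x ∨ y = x * x) := by decide +kernel

theorem a5_inv_three : ∀ x : alternatingGroup (Fin 5), x * x * x = 1 → ∃ s, s * x * s⁻¹ = x⁻¹ ∧ s ≠ 1 ∧ s * s = 1 := by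
  decide +kernel

/-- `A4` acting on the cosets of a subgroup of order three. -/
theorem not_bin_a4_three {G : Type*} [Group G] [Finite G] {M K : Subgroup G} (e : M ≃* alternatingGroup (Fin 4))
    (hKM : K ≤ M) (h3 : Nat.card K = 3) : ¬ BinIn M K := by
  haveI : Fact (Nat.Prime 3) := ⟨Nat.prime_three⟩
  obtain ⟨y, hy2, hy1⟩ := a4_has_invol
  set a : G := ((e.symm y : ↥M) : G) with ha
  have haM : a ∈ M := (e.symm y).2
  have hea : e ⟨a, haM⟩ = y := by simp [ha]
  have ha2 : a * a = 1 := by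
    have : (e.symm y : ↥M) * e.symm y = 1 := by rw [← map_mul, hy2, map_one]
    exact congrArg Subtype.val this
  obtain ⟨k, hk, hk1⟩ := (Subgroup.bot_or_exists_ne_one K).resolve_left fun h => by
    rw [h, Subgroup.card_bot] at h3; omega
  have hord : orderOf k = 3 :=
    orderOf_eq_prime (by
      have h : (⟨k, hk⟩ : ↥K) ^ 3 = 1 := by rw [← h3, pow_card_eq_one']
      exact congrArg Subtype.val h) hk1
  have hgen : ∀ z ∈ K, z = 1 ∨ z = k ∨ z = k * k := by
    intro z hz
    have h := mem_zpowers_of_prime_card (g' := (⟨z, hz⟩ : ↥K)) h3 (g := ⟨k, hk⟩)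
      (fun h => hk1 (congrArg Subtype.val h))
    obtain ⟨i, hi⟩ := h
    have hi' : k ^ i = z := by simpa using congrArg Subtype.val hi
    rw [← hi', ← zpow_mod_orderOf, hord]
    have h1 := Int.emod_nonneg i (show ((3 : ℕ) : ℤ) ≠ 0 by norm_num)
    have h2 := Int.emod_lt_of_pos i (show (0 : ℤ) < ((3 : ℕ) : ℤ) by norm_num)
    interval_cases h : i % ((3 : ℕ) : ℤ)
    · left; simp
    · right; left; simp
    · right; right
      rw [show ((2 : ℤ)) = ((2 : ℕ) : ℤ) from rfl, zpow_natCast, pow_two]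
  have haK : a ∉ K := fun h => by
    rcases hgen a h with h' | h' | h'
    · exact hy1 (by rw [← hea]; simp [h'])
    · rw [h'] at ha2
      exact absurd (Nat.le_of_dvd two_pos (orderOf_dvd_of_pow_eq_one (by rw [pow_two, ha2] : k ^ 2 = 1))) (by omega)
    · rw [h'] at ha2
      have : k ^ 4 = 1 := by rw [← ha2]; simp [pow_succ, mul_assoc]
      have := orderOf_dvd_of_pow_eq_one this
      rw [hord] at this; norm_num at this
  refine not_bin_of_big_orbit hKM haM haK (n := 4) ?_ ?_ ?_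
  · rw [Nat.card_congr e.toEquiv, nat_card_alternatingGroup, Nat.card_fin, h3]; rfl
  · rw [h3]
    suffices h : Nat.card (K ⊓ K.map (MulAut.conj a).toMonoidHom : Subgroup G) = 1 by rw [h]
    rw [Subgroup.card_eq_one, eq_bot_iff]
    intro z hz
    obtain ⟨hz1, hz2⟩ := Subgroup.mem_inf.1 hz
    rw [Subgroup.mem_map_equiv, MulAut.conj_symm_apply] at hz2
    rw [Subgroup.mem_bot]
    by_contra hne
    set x : ↥M := ⟨z, hKM hz1⟩
    have hx1 : e x ≠ 1 := fun h => hne (congrArg Subtype.val (e.map_eq_one_iff.1 h))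
    have hz3 : z ^ 3 = 1 := by
      have h : (⟨z, hz1⟩ : ↥K) ^ 3 = 1 := by rw [← h3, pow_card_eq_one']
      exact congrArg Subtype.val h
    have hconj : a⁻¹ * z * a = z ∨ a⁻¹ * z * a = z * z := by
      have hne' : a⁻¹ * z * a ≠ 1 := fun h => hne (by rw [show z = a * (a⁻¹ * z * a) * a⁻¹ by group, h]; group)
      have hk4 : k * k * (k * k) = k := by
        have : k ^ 3 = 1 := by rw [← hord, pow_orderOf_eq_one]
        rw [pow_succ, pow_two] at this
        rw [← mul_assoc, this, one_mul]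
      rcases hgen z hz1 with h | h | h
      · exact absurd h hne
      · rcases hgen _ hz2 with h' | h' | h'
        · exact absurd h' hne'
        · exact Or.inl (by rw [h', h])
        · exact Or.inr (by rw [h', h])
      · rcases hgen _ hz2 with h' | h' | h'
        · exact absurd h' hne'
        · exact Or.inr (by rw [h', h, hk4])
        · exact Or.inl (by rw [h', h])
    have hai : a⁻¹ = a := inv_eq_of_mul_eq_one_right ha2
    rw [hai] at hconj
    have hyi : y⁻¹ = y := inv_eq_of_mul_eq_one_right hy2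
    have hy : y * e x * y⁻¹ = e x ∨ y * e x * y⁻¹ = e x * e x := by
      rw [hyi, ← hea, ← map_mul, ← map_mul, ← map_mul]
      rcases hconj with h | h
      · exact Or.inl (congrArg e (Subtype.ext h))
      · exact Or.inr (congrArg e (Subtype.ext h))
    rcases a4_norm_three (e x) y (by
      rw [← map_mul, ← map_mul, e.map_eq_one_iff]
      exact Subtype.ext (by rw [pow_succ, pow_two] at hz3; exact hz3)) hx1 hy with h | h | h
    · exact hy1 h
    · rw [← hea] at h
      exact haK (by rw [show a = z from congrArg Subtype.val (e.injective h)]; exact hz1)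
    · rw [← hea, ← map_mul] at h
      exact haK (by rw [show a = z * z from congrArg Subtype.val (e.injective h)]; exact K.mul_mem hz1 hz1)
  · rw [Nat.card_congr e.toEquiv, nat_card_alternatingGroup, Nat.card_fin]; decide

variable {F : Type*} [Field F]

theorem gI_square (h2 : (2 : F) ≠ 0) : QPar.gW h2 * QPar.gW h2 = (QPar.gI : G2 F) := by
  show ProjGenLinGroup.mk _ * ProjGenLinGroup.mk _ = ProjGenLinGroup.mk _
  rw [← map_mul]
  refine mk_eq_of_smul (2⁻¹ : F) (inv_ne_zero h2) ?_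
  ext i j
  fin_cases i <;> fin_cases j <;>
    simp [QPar.mW, QPar.mI, GeneralLinearGroup.mkOfDetNeZero, Matrix.mul_apply, Fin.sum_univ_two] <;>
    field_simp <;> ring

variable [Finite F]

/-- A subgroup of index at most two in the normaliser of the four group contains it. -/
theorem V_le_of_index_two (Q : QPar F) {M : Subgroup (G2 F)} (hM : M ≤ Q.N) (hc : Nat.card M = 12) : Q.V ≤ M := by
  haveI := finite_G2 (F := F)
  have hidx : (M.subgroupOf Q.N).index = 2 := by
    have h := (M.subgroupOf Q.N).card_mul_index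
    rw [Nat.card_congr (Subgroup.subgroupOfEquivOfLe hM).toEquiv, hc, Q.card_N] at h
    omega
  have sq : ∀ g ∈ Q.N, g * g ∈ M := fun g hg => by
    have := Subgroup.mul_self_mem_of_index_two hidx ⟨g, hg⟩
    simpa [Subgroup.mem_subgroupOf] using this
  have hI : QPar.gI ∈ M := gI_square Q.two ▸ sq _ Q.gW_mem_N
  have hJ : Q.gJ ∈ M := by
    have := sq (Q.gY * QPar.gW Q.two * Q.gY⁻¹) (mul_mem (mul_mem Q.gY_mem_N Q.gW_mem_N) (inv_mem Q.gY_mem_N))
    rwa [conj_mul, gI_square, Q.YI, mul_inv_cancel_right] at this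
  intro g hg
  rcases Q.mem_V.1 hg with rfl | rfl | rfl | rfl
  exacts [M.one_mem, hI, hJ, Q.IJ ▸ M.mul_mem hI hJ]

/-- The normaliser of a tetrahedral group meets the centraliser of its element of order three trivially. -/
theorem norm_cent_a4 (h2 : (2 : F) ≠ 0) {M : Subgroup (G2 F)} (hM : M ≤ psl F) (e : M ≃* alternatingGroup (Fin 4))
    {k g : G2 F} (hk : k ∈ M) (hk3 : k * k * k = 1) (hk1 : k ≠ 1) (hcomm : k * g = g * k)
    (hnorm : ∀ x ∈ M, g * x * g⁻¹ ∈ M) : g = 1 ∨ g = k ∨ g = k * k := by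
  obtain ⟨Q⟩ := exists_qpar h2
  obtain ⟨σ, hσ⟩ := Q.exists_conj_le_of_a4 hM e
  set c : G2 F → G2 F := fun z => σ * z * σ⁻¹ with hc
  have cmul : ∀ y z, c (y * z) = c y * c z := fun y z => by simp only [hc]; group
  have cM : ∀ z, z ∈ M → c z ∈ Q.N := fun z hz =>
    (hσ (mem_conjG.2 (by rwa [show σ⁻¹ * (σ * z * σ⁻¹) * σ = z by group]))).1
  have hcard : Nat.card (conjG σ M) = 12 := by
    rw [card_conjG, Nat.card_congr e.toEquiv, nat_card_alternatingGroup, Nat.card_fin]; rfl
  have hV := V_le_of_index_two Q (hσ.trans inf_le_left) hcard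
  have invol : ∀ v ∈ Q.V, v * v = 1 := by
    intro v hv
    rcases Q.mem_V.1 hv with rfl | rfl | rfl | rfl
    exacts [mul_one 1, QPar.II, Q.JJ, Q.KK]
  have key : ∀ v ∈ Q.V, c g * v * (c g)⁻¹ ∈ Q.V := by
    intro v hv
    have hvM : σ⁻¹ * v * σ ∈ M := mem_conjG.1 (hV hv)
    have hwM := hnorm _ hvM
    have com : ∀ w ∈ Q.V, c (g * (σ⁻¹ * v * σ) * g⁻¹) * w = w * c (g * (σ⁻¹ * v * σ) * g⁻¹) := by
      intro w hw
      have hw' : σ⁻¹ * w * σ ∈ M := mem_conjG.1 (hV hw)
      have h := a4_invol_comm (e ⟨_, hwM⟩) (e ⟨_, hw'⟩)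
        (by rw [← map_mul, e.map_eq_one_iff]; exact Subtype.ext (by
          show g * (σ⁻¹ * v * σ) * g⁻¹ * (g * (σ⁻¹ * v * σ) * g⁻¹) = 1
          rw [show g * (σ⁻¹ * v * σ) * g⁻¹ * (g * (σ⁻¹ * v * σ) * g⁻¹) = g * σ⁻¹ * (v * v) * σ * g⁻¹ by group, invol v hv]
          group))
        (by rw [← map_mul, e.map_eq_one_iff]; exact Subtype.ext (by
          show σ⁻¹ * w * σ * (σ⁻¹ * w * σ) = 1
          rw [show σ⁻¹ * w * σ * (σ⁻¹ * w * σ) = σ⁻¹ * (w * w) * σ by group, invol w hw]; group))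
      rw [← map_mul, ← map_mul] at h
      have h' := congrArg c (congrArg Subtype.val (e.injective h))
      simp only [MulMemClass.mk_mul_mk] at h'
      rw [cmul (g * (σ⁻¹ * v * σ) * g⁻¹) (σ⁻¹ * w * σ), cmul (σ⁻¹ * w * σ) (g * (σ⁻¹ * v * σ) * g⁻¹),
        show c (σ⁻¹ * w * σ) = w by simp only [hc]; group] at h'
      exact h'
    have := Q.mem_V_of_comm (com _ (Q.mem_V.2 (Or.inr (Or.inl rfl)))) (com _ (Q.mem_V.2 (Or.inr (Or.inr (Or.inl rfl)))))
    rwa [show c (g * (σ⁻¹ * v * σ) * g⁻¹) = c g * v * (c g)⁻¹ by simp only [hc]; group] at this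
  have hgN : c g ∈ Q.N := Q.mem_N_of (key _ (Q.mem_V.2 (Or.inr (Or.inl rfl))))
    (key _ (Q.mem_V.2 (Or.inr (Or.inr (Or.inl rfl)))))
  obtain ⟨f⟩ := Q.N_s4
  have hk' := cM k hk
  rcases s4_cent_three (f ⟨c k, hk'⟩) (f ⟨c g, hgN⟩)
      (by rw [← map_mul, ← map_mul, f.map_eq_one_iff]; exact Subtype.ext (by
        show c k * c k * c k = 1
        rw [← cmul, ← cmul, hk3]; simp [hc]))
      (fun h => hk1 (by
        have := congrArg Subtype.val (f.map_eq_one_iff.1 h)
        simp only [hc] at this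
        exact conj_eq_one_iff.1 this))
      (by rw [← map_mul, ← map_mul]; exact congrArg f (Subtype.ext (by
        show c k * c g = c g * c k
        rw [← cmul, ← cmul, hcomm]))) with h | h | h
  · left
    have := congrArg Subtype.val (f.map_eq_one_iff.1 h)
    simp only [hc] at this
    exact conj_eq_one_iff.1 this
  · right; left
    have := congrArg Subtype.val (f.injective h)
    simp only [hc] at this
    exact mul_left_cancel (mul_right_cancel this)
  · right; right
    rw [← map_mul] at h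
    have := congrArg Subtype.val (f.injective h)
    simp only [MulMemClass.mk_mul_mk, ← cmul] at this
    exact mul_left_cancel (mul_right_cancel this)

end CfsgLib.Classical.PslBin
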