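import Mathlib

/-!
# Binary actions on cosets, inside a fixed ambient group
-/

set_option autoImplicit false

namespace CfsgLib.Classical.PslBin

variable {G : Type*} [Group G]

/-- The action of `P` on the left cosets of `H` is binary; the points are given by representatives in `P`. -/
def BinIn (P H : Subgroup G) : Prop :=
  ∀ (n : ℕ) (x y : Fin n → G), (∀ i, x i ∈ P) → (∀ i, y i ∈ P) →
    (∀ i j, i ≠ j → ∃ g ∈ P, (y i)⁻¹ * g * x i ∈ H ∧ (y j)⁻¹ * g * x j ∈ H) →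
    ∃ g ∈ P, ∀ i, (y i)⁻¹ * g * x i ∈ H

/-- Three cosets seen pairwise but not globally. -/
theorem not_bin_of_witness {P H : Subgroup G} (hHP : H ≤ P) {u v h b : G} (hu : u ∈ P) (hv : v ∈ P) (hh : h ∈ H)
    (hb : u⁻¹ * b * u ∈ H) (hc : v⁻¹ * (b⁻¹ * h) * v ∈ H)
    (hno : ∀ e ∈ H, u⁻¹ * e * u ∈ H → v⁻¹ * (e⁻¹ * h) * v ∉ H) : ¬ BinIn P H := by
  intro hbin
  have hbP : b ∈ P := by
    have := P.mul_mem (P.mul_mem hu (hHP hb)) (P.inv_mem hu)
    rwa [show u * (u⁻¹ * b * u) * u⁻¹ = b by group] at this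
  have hc' : (h * v)⁻¹ * b * v ∈ H := by
    have := H.inv_mem hc
    rwa [show (v⁻¹ * (b⁻¹ * h) * v)⁻¹ = (h * v)⁻¹ * b * v by group] at this
  obtain ⟨e, -, he⟩ := hbin 3 ![1, u, v] ![1, u, h * v]
    (by intro i; fin_cases i; exacts [P.one_mem, hu, hv])
    (by intro i; fin_cases i; exacts [P.one_mem, hu, P.mul_mem (hHP hh) hv]) (by
    intro i j hij
    fin_cases i <;> fin_cases j
    exacts [absurd rfl hij, ⟨1, P.one_mem, by simp, by simp⟩, ⟨h, hHP hh, by simpa using hh, by simp [mul_assoc]⟩,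
      ⟨1, P.one_mem, by simp, by simp⟩, absurd rfl hij, ⟨b, hbP, hb, hc'⟩,
      ⟨h, hHP hh, by simp [mul_assoc], by simpa using hh⟩, ⟨b, hbP, hc', hb⟩, absurd rfl hij])
  have e0 : e ∈ H := by simpa using he 0
  have e1 : u⁻¹ * e * u ∈ H := he 1
  have e2 : (h * v)⁻¹ * e * v ∈ H := he 2
  refine hno e e0 e1 ?_
  have := H.inv_mem e2
  rwa [show ((h * v)⁻¹ * e * v)⁻¹ = v⁻¹ * (e⁻¹ * h) * v by group] at this

/-- A binary action stays binary on every orbit of a point stabiliser. -/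
theorem BinIn.suborbit {P H : Subgroup G} (hb : BinIn P H) (hHP : H ≤ P) {g : G} (hg : g ∈ P) :
    BinIn H (H ⊓ H.map (MulAut.conj g).toMonoidHom) := by
  intro n x y hx hy hp
  have mem : ∀ z : G, z ∈ H.map (MulAut.conj g).toMonoidHom ↔ g⁻¹ * z * g ∈ H := fun z => by
    rw [Subgroup.mem_map_equiv, MulAut.conj_symm_apply]
  have zero : ∀ j, ∃ k ∈ P, (1 : G)⁻¹ * k * 1 ∈ H ∧ (y j * g)⁻¹ * k * (x j * g) ∈ H := fun j =>
    ⟨y j * (x j)⁻¹, P.mul_mem (hHP (hy j)) (P.inv_mem (hHP (hx j))),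
      by simpa using H.mul_mem (hy j) (H.inv_mem (hx j)),
      by rw [show (y j * g)⁻¹ * (y j * (x j)⁻¹) * (x j * g) = 1 by group]; exact H.one_mem⟩
  obtain ⟨e, -, he⟩ := hb (n + 1) (Fin.cons 1 fun i => x i * g) (Fin.cons 1 fun i => y i * g)
    (Fin.cases P.one_mem fun i => P.mul_mem (hHP (hx i)) hg) (Fin.cases P.one_mem fun i => P.mul_mem (hHP (hy i)) hg) (by
    intro i j hij
    cases i using Fin.cases with
    | zero =>
      cases j using Fin.cases with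
      | zero => exact absurd rfl hij
      | succ j => simpa only [Fin.cons_zero, Fin.cons_succ] using zero j
    | succ i =>
      cases j using Fin.cases with
      | zero =>
        obtain ⟨k, hk, k1, k2⟩ := zero i
        exact ⟨k, hk, by simpa only [Fin.cons_succ] using k2, by simpa only [Fin.cons_zero] using k1⟩
      | succ j =>
        obtain ⟨k, hk, k1, k2⟩ := hp i j fun h => hij (by rw [h])
        refine ⟨k, hHP hk, ?_, ?_⟩ <;> simp only [Fin.cons_succ]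
        · rw [show (y i * g)⁻¹ * k * (x i * g) = g⁻¹ * ((y i)⁻¹ * k * x i) * g by group]
          exact (mem _).1 k1.2
        · rw [show (y j * g)⁻¹ * k * (x j * g) = g⁻¹ * ((y j)⁻¹ * k * x j) * g by group]
          exact (mem _).1 k2.2)
  have heH : e ∈ H := by simpa only [Fin.cons_zero, inv_one, one_mul, mul_one] using he 0
  refine ⟨e, heH, fun i => ⟨H.mul_mem (H.mul_mem (H.inv_mem (hy i)) heH) (hx i), (mem _).2 ?_⟩⟩
  have := he i.succ
  simp only [Fin.cons_succ] at this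
  rwa [show (y i * g)⁻¹ * e * (x i * g) = g⁻¹ * ((y i)⁻¹ * e * x i) * g by group] at this

/-- A binary action stays binary on a block containing the base point. -/
theorem BinIn.overgroup {P M H : Subgroup G} (hb : BinIn P H) (hHM : H ≤ M) (hMP : M ≤ P) : BinIn M H := by
  intro n x y hx hy hp
  obtain ⟨e, -, he⟩ := hb n x y (fun i => hMP (hx i)) (fun i => hMP (hy i)) fun i j hij => by
    obtain ⟨k, hk, h⟩ := hp i j hij
    exact ⟨k, hMP hk, h⟩
  rcases n.eq_zero_or_pos with rfl | hn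
  · exact ⟨1, M.one_mem, fun i => i.elim0⟩
  refine ⟨e, ?_, he⟩
  have := M.mul_mem (M.mul_mem (hy ⟨0, hn⟩) (hHM (he ⟨0, hn⟩))) (M.inv_mem (hx ⟨0, hn⟩))
  rwa [show y ⟨0, hn⟩ * ((y ⟨0, hn⟩)⁻¹ * e * x ⟨0, hn⟩) * (x ⟨0, hn⟩)⁻¹ = e by group] at this

/-- An automorphism of the ambient group carries binary actions to binary actions. -/
theorem BinIn.map {G' : Type*} [Group G'] {P H : Subgroup G} (hb : BinIn P H) (f : G ≃* G') :
    BinIn (P.map f.toMonoidHom) (H.map f.toMonoidHom) := by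
  intro n x y hx hy hp
  have mem : ∀ (K : Subgroup G) (z : G'), z ∈ K.map f.toMonoidHom ↔ f.symm z ∈ K := fun K z => Subgroup.mem_map_equiv
  obtain ⟨e, he, h⟩ := hb n (fun i => f.symm (x i)) (fun i => f.symm (y i)) (fun i => (mem P _).1 (hx i))
    (fun i => (mem P _).1 (hy i)) fun i j hij => by
      obtain ⟨k, hk, h1, h2⟩ := hp i j hij
      exact ⟨f.symm k, (mem P _).1 hk, by simpa only [map_mul, map_inv] using (mem H _).1 h1,
        by simpa only [map_mul, map_inv] using (mem H _).1 h2⟩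
  exact ⟨f e, (mem P _).2 (by simpa using he), fun i => (mem H _).2 (by simpa using h i)⟩

/-- Twice transitive actions of groups smaller than the symmetric group are not binary. -/
theorem not_bin_of_two_transitive [Finite G] {M K : Subgroup G} (hKM : K ≤ M)
    (htr : ∀ a ∈ M, ∀ b ∈ M, a ∉ K → b ∉ K → ∃ k ∈ K, b⁻¹ * k * a ∈ K)
    (hlt : Nat.card M < (K.relIndex M).factorial) : ¬ BinIn M K := by
  classical
  intro hb
  set n := K.relIndex M
  have hn : Nat.card (↥M ⧸ K.subgroupOf M) = n := rfl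
  let e : (↥M ⧸ K.subgroupOf M) ≃ Fin n := Finite.equivFinOfCardEq hn
  let r : Fin n → G := fun i => ((e.symm i).out : ↥M)
  have hr : ∀ i, r i ∈ M := fun i => ((e.symm i).out).2
  have hsep : ∀ i j, (r i)⁻¹ * r j ∈ K → i = j := by
    intro i j h
    apply e.symm.injective
    rw [← QuotientGroup.out_eq' (e.symm i), ← QuotientGroup.out_eq' (e.symm j), QuotientGroup.eq]
    exact Subgroup.mem_subgroupOf.2 (by simpa [r] using h)
  have move : ∀ (i j : Fin n) (π : Equiv.Perm (Fin n)), i ≠ j →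
      ∃ g ∈ M, (r (π i))⁻¹ * g * r i ∈ K ∧ (r (π j))⁻¹ * g * r j ∈ K := by
    intro i j π hij
    obtain ⟨k, hk, hk'⟩ := htr ((r i)⁻¹ * r j) (M.mul_mem (M.inv_mem (hr i)) (hr j))
      ((r (π i))⁻¹ * r (π j)) (M.mul_mem (M.inv_mem (hr _)) (hr _)) (fun h => hij (hsep _ _ h))
      (fun h => hij (π.injective (hsep _ _ h)))
    refine ⟨r (π i) * k * (r i)⁻¹, M.mul_mem (M.mul_mem (hr _) (hKM hk)) (M.inv_mem (hr i)), ?_, ?_⟩
    · rw [show (r (π i))⁻¹ * (r (π i) * k * (r i)⁻¹) * r i = k by group]; exact hk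
    · rwa [show (r (π j))⁻¹ * (r (π i) * k * (r i)⁻¹) * r j =
        ((r (π i))⁻¹ * r (π j))⁻¹ * k * ((r i)⁻¹ * r j) by group]
  choose g hg hgi using fun π : Equiv.Perm (Fin n) =>
    hb n r (fun i => r (π i)) hr (fun i => hr _) fun i j hij => move i j π hij
  have hinj : Function.Injective fun π => (⟨g π, hg π⟩ : ↥M) := by
    intro π π' h
    have h' : g π = g π' := congrArg Subtype.val h
    refine Equiv.ext fun i => hsep _ _ ?_
    have := K.mul_mem (hgi π i) (K.inv_mem (hgi π' i))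
    rwa [h', show (r (π i))⁻¹ * g π' * r i * ((r (π' i))⁻¹ * g π' * r i)⁻¹ = (r (π i))⁻¹ * r (π' i) by group] at this
  have hle := Nat.card_le_card_of_injective _ hinj
  rw [Nat.card_perm, Nat.card_fin] at hle
  omega

/-- Conjugates meeting trivially, no two of whose elements multiply into a third: a binary action. -/
theorem bin_of_ti {P H : Subgroup G} (hHP : H ≤ P)
    (hti : ∀ a ∈ P, ∀ b ∈ P, ∀ w : G, w ≠ 1 → a⁻¹ * w * a ∈ H → b⁻¹ * w * b ∈ H →
      ∀ z, a⁻¹ * z * a ∈ H → b⁻¹ * z * b ∈ H)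
    (htri : ∀ a ∈ P, ∀ b ∈ P, ∀ c ∈ P, ∀ w v : G, w ≠ 1 → v ≠ 1 → v ≠ w → a⁻¹ * w * a ∈ H → b⁻¹ * v * b ∈ H →
      c⁻¹ * (v⁻¹ * w) * c ∈ H → ∀ z, a⁻¹ * z * a ∈ H → b⁻¹ * z * b ∈ H) : BinIn P H := by
  intro n x y hx hy hp
  rcases n.eq_zero_or_pos with rfl | hn
  · exact ⟨1, P.one_mem, fun i => i.elim0⟩
  set i0 : Fin n := ⟨0, hn⟩
  have hdiff : ∀ {i : Fin n} {g g' : G}, (y i)⁻¹ * g * x i ∈ H → (y i)⁻¹ * g' * x i ∈ H →
      (x i)⁻¹ * (g⁻¹ * g') * x i ∈ H := by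
    intro i g g' h h'
    have := H.mul_mem (H.inv_mem h) h'
    rwa [show ((y i)⁻¹ * g * x i)⁻¹ * ((y i)⁻¹ * g' * x i) = (x i)⁻¹ * (g⁻¹ * g') * x i by group] at this
  have hstep : ∀ {i : Fin n} {g g' : G}, (y i)⁻¹ * g' * x i ∈ H → (x i)⁻¹ * (g⁻¹ * g') * x i ∈ H →
      (y i)⁻¹ * g * x i ∈ H := by
    intro i g g' h h'
    have := H.mul_mem h (H.inv_mem h')
    rwa [show (y i)⁻¹ * g' * x i * ((x i)⁻¹ * (g⁻¹ * g') * x i)⁻¹ = (y i)⁻¹ * g * x i by group] at this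
  by_cases hall : ∀ i, ∀ z, (x i0)⁻¹ * z * x i0 ∈ H → (x i)⁻¹ * z * x i ∈ H
  · have hbase : (y i0)⁻¹ * (y i0 * (x i0)⁻¹) * x i0 ∈ H := by
      rw [show (y i0)⁻¹ * (y i0 * (x i0)⁻¹) * x i0 = 1 by group]; exact H.one_mem
    refine ⟨y i0 * (x i0)⁻¹, P.mul_mem (hy _) (P.inv_mem (hx _)), fun i => ?_⟩
    by_cases hi : i = i0
    · subst hi; exact hbase
    obtain ⟨g, -, g1, g2⟩ := hp i0 i (Ne.symm hi)
    exact hstep g2 (hall i _ (hdiff hbase g1))
  push Not at hall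
  obtain ⟨i1, z, hz, hz'⟩ := hall
  have h01 : i0 ≠ i1 := fun h => hz' (h ▸ hz)
  obtain ⟨g, hg, g0, g1⟩ := hp i0 i1 h01
  refine ⟨g, hg, fun i => ?_⟩
  by_cases hi : i = i0
  · subst hi; exact g0
  by_cases hi' : i = i1
  · subst hi'; exact g1
  obtain ⟨g', -, a1, a2⟩ := hp i0 i (Ne.symm hi)
  obtain ⟨g'', -, b1, b2⟩ := hp i1 i (Ne.symm hi')
  by_cases hw : g⁻¹ * g' = 1
  · rwa [inv_mul_eq_one.1 hw]
  by_cases hv : g⁻¹ * g'' = 1
  · rwa [inv_mul_eq_one.1 hv]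
  exfalso
  by_cases hvw : g⁻¹ * g'' = g⁻¹ * g'
  · exact hz' (hti _ (hx i0) _ (hx i1) _ hw (hdiff g0 a1) (hvw ▸ hdiff g1 b1) z hz)
  refine hz' (htri _ (hx i0) _ (hx i1) _ (hx i) _ _ hw hv hvw (hdiff g0 a1) (hdiff g1 b1) ?_ z hz)
  rw [show (g⁻¹ * g'')⁻¹ * (g⁻¹ * g') = g''⁻¹ * g' by group]
  exact hdiff b2 a2

theorem bin_bot {P : Subgroup G} : BinIn P ⊥ := by
  refine bin_of_ti bot_le ?_ ?_
  · intro a _ b _ w hw ha
    rw [Subgroup.mem_bot] at ha
    exact absurd (by rw [show w = a * (a⁻¹ * w * a) * a⁻¹ by group, ha]; group) hw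
  · intro a _ b _ c _ w v hw _ _ ha
    rw [Subgroup.mem_bot] at ha
    exact absurd (by rw [show w = a * (a⁻¹ * w * a) * a⁻¹ by group, ha]; group) hw

/-- The definition through the coset space of the ambient group. -/
theorem binIn_iff {P H : Subgroup G} :
    BinIn P H ↔ ∀ (n : ℕ) (I J : Fin n → ↥P ⧸ H.subgroupOf P), 2 ≤ n →
      (∀ i j, i ≠ j → ∃ g : ↥P, g • I i = J i ∧ g • I j = J j) → ∃ g : ↥P, ∀ i, g • I i = J i := by
  have key : ∀ g a b : ↥P, g • (a : ↥P ⧸ H.subgroupOf P) = (b : ↥P ⧸ H.subgroupOf P) ↔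
      (b : G)⁻¹ * g * a ∈ H := by
    intro g a b
    rw [MulAction.Quotient.smul_coe, QuotientGroup.eq, Subgroup.mem_subgroupOf, ← H.inv_mem_iff]
    simp [mul_assoc]
  constructor
  · intro hb n I J _ hp
    choose a ha using fun i => QuotientGroup.mk_surjective (I i)
    choose b hb' using fun i => QuotientGroup.mk_surjective (J i)
    obtain ⟨g, hg, h⟩ := hb n (fun i => a i) (fun i => b i) (fun i => (a i).2) (fun i => (b i).2) fun i j hij => by
      obtain ⟨g, h1, h2⟩ := hp i j hij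
      rw [← ha, ← hb', key] at h1 h2
      exact ⟨g, g.2, h1, h2⟩
    exact ⟨⟨g, hg⟩, fun i => by rw [← ha, ← hb', key]; exact h i⟩
  · intro hb n x y hx hy hp
    rcases n with - | - | n
    · exact ⟨1, P.one_mem, fun i => i.elim0⟩
    · exact ⟨y 0 * (x 0)⁻¹, P.mul_mem (hy 0) (P.inv_mem (hx 0)), fun i => by
        rw [Fin.fin_one_eq_zero i, show (y 0)⁻¹ * (y 0 * (x 0)⁻¹) * x 0 = 1 by group]; exact H.one_mem⟩
    obtain ⟨g, h⟩ := hb (n + 2) (fun i => ((⟨x i, hx i⟩ : ↥P) : ↥P ⧸ H.subgroupOf P))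
      (fun i => ((⟨y i, hy i⟩ : ↥P) : ↥P ⧸ H.subgroupOf P)) (by omega) fun i j hij => by
        obtain ⟨g, hg, h1, h2⟩ := hp i j hij
        exact ⟨⟨g, hg⟩, (key _ _ _).2 h1, (key _ _ _).2 h2⟩
    exact ⟨g, g.2, fun i => (key _ _ _).1 (h i)⟩

end CfsgLib.Classical.PslBin
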