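import Cfsg.Agent.Lib.Perm.Dickson.Finite

/-!
# Binary quadratic forms and conjugacy by trace in `SL(2)`
-/

set_option autoImplicit false

namespace CfsgLib.Classical.PslBin

open Matrix
open CfsgLib.Perm.Dickson

variable {F : Type*} [Field F] [Finite F]

theorem exists_sq_two (h2 : (2 : F) = 0) (r : F) : ∃ x : F, x ^ 2 = r := by
  haveI := CharTwo.of_one_ne_zero_of_two_eq_zero (one_ne_zero (α := F)) h2
  obtain ⟨x, hx⟩ := FiniteField.isSquare_of_char_two (ringChar.eq F 2) r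
  exact ⟨x, by rw [hx, sq]⟩

/-- A non-degenerate binary form represents every non-zero value. -/
theorem represent {a b c : F} (hd : b ^ 2 - 4 * a * c ≠ 0) {r : F} (hr : r ≠ 0) :
    ∃ x y, a * x ^ 2 + b * x * y + c * y ^ 2 = r := by
  by_cases ha : a = 0
  · have hb : b ≠ 0 := fun h => hd (by rw [h, ha]; ring)
    exact ⟨(r - c) / b, 1, by rw [ha]; field_simp; ring⟩
  by_cases h2 : (2 : F) = 0
  · obtain ⟨x, hx⟩ := exists_sq_two h2 (r / a)
    exact ⟨x, 0, by rw [hx]; field_simp; ring⟩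
  obtain ⟨u, y, huy⟩ := exists_sq_add h2 one_ne_zero (β := -(b ^ 2 - 4 * a * c)) (neg_ne_zero.2 hd) (4 * a * r)
  refine ⟨(u - b * y) / (2 * a), y, ?_⟩
  field_simp
  linear_combination huy

/-- A conic with non-degenerate quadratic part has a point. -/
theorem conic {a b c : F} (hd : b ^ 2 - 4 * a * c ≠ 0) (d e f : F) :
    ∃ x y, a * x ^ 2 + b * x * y + c * y ^ 2 + d * x + e * y + f = 0 := by
  set D := b ^ 2 - 4 * a * c with hD
  set x0 := (2 * c * d - b * e) / D with hx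
  set y0 := (2 * a * e - b * d) / D with hy
  have h1 : 2 * a * x0 + b * y0 + d = 0 := by rw [hx, hy]; field_simp; rw [hD]; ring
  have h2 : b * x0 + 2 * c * y0 + e = 0 := by rw [hx, hy]; field_simp; rw [hD]; ring
  set g := a * x0 ^ 2 + b * x0 * y0 + c * y0 ^ 2 + d * x0 + e * y0 + f with hg
  by_cases h0 : g = 0
  · exact ⟨x0, y0, h0⟩
  obtain ⟨X, Y, hXY⟩ := represent hd (neg_ne_zero.2 h0)
  exact ⟨x0 + X, y0 + Y, by linear_combination X * h1 + Y * h2 + hXY + hg.symm⟩

omit [Finite F] in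
/-- The image of a determinant one matrix. -/
noncomputable def pj : Matrix.SpecialLinearGroup (Fin 2) F →* G2 F :=
  ProjGenLinGroup.mk.comp Matrix.SpecialLinearGroup.toGL

omit [Finite F] in
theorem pj_mem (A : Matrix.SpecialLinearGroup (Fin 2) F) : pj A ∈ psl F := ⟨A, rfl⟩

omit [Finite F] in
theorem exists_lift {g : G2 F} (hg : g ∈ psl F) : ∃ A, pj A = g := hg

omit [Finite F] in
theorem pj_eq_iff {A B : Matrix.SpecialLinearGroup (Fin 2) F} : pj A = pj B ↔ A = B ∨ A = -B := by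
  constructor
  · intro h
    obtain ⟨c, hc⟩ := ProjGenLinGroup.mk_eq_mk_iff.1 h
    have hc' : (B : Matrix (Fin 2) (Fin 2) F) = (c : F) • (A : Matrix (Fin 2) (Fin 2) F) := by
      have h' : (B : Matrix (Fin 2) (Fin 2) F) = (A : Matrix (Fin 2) (Fin 2) F) * Matrix.diagonal fun _ => (c : F) := by
        simpa [Units.smul_def] using congrArg Units.val hc.symm
      rw [h', Matrix.smul_eq_mul_diagonal]
    have hdet : (c : F) ^ 2 = 1 := by
      have := congrArg Matrix.det hc'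
      rw [Matrix.det_smul, A.2, B.2, mul_one, Fintype.card_fin] at this
      exact this.symm
    rcases sq_eq_one_iff.1 hdet with h1 | h1 <;> rw [h1] at hc'
    · exact Or.inl (Subtype.ext (by simpa using hc'.symm))
    · exact Or.inr (Subtype.ext (by simp only [SpecialLinearGroup.coe_neg]; rw [hc']; simp))
  · rintro (rfl | rfl)
    · rfl
    · refine ProjGenLinGroup.mk_eq_mk_iff.2 ?_
      first
        | exact ⟨-1, Units.ext (by ext i j; simp [Units.smul_def])⟩
        | exact ⟨-1, by ext i j; simp [Units.smul_def]⟩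

omit [Finite F] in
theorem pj_eq_one {A : Matrix.SpecialLinearGroup (Fin 2) F} : pj A = 1 ↔ A = 1 ∨ A = -1 := by
  rw [← map_one pj, pj_eq_iff]

/-- The matrix with trace `t` in companion form. -/
def comp (t : F) : Matrix.SpecialLinearGroup (Fin 2) F := ⟨!![0, -1; 1, t], by simp [Matrix.det_fin_two]⟩

theorem exists_comp {A : Matrix.SpecialLinearGroup (Fin 2) F} {t : F}
    (ht : (A : Matrix (Fin 2) (Fin 2) F).trace = t) (hd : t ^ 2 - 4 ≠ 0) :
    ∃ P : Matrix.SpecialLinearGroup (Fin 2) F, A * P = P * comp t := by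
  set M := (A : Matrix (Fin 2) (Fin 2) F) with hM
  have hdet : M 0 0 * M 1 1 - M 0 1 * M 1 0 = 1 := by rw [← Matrix.det_fin_two]; exact A.2
  rw [Matrix.trace_fin_two] at ht
  obtain ⟨x, y, hxy⟩ := represent (a := M 1 0) (b := M 1 1 - M 0 0) (c := -M 0 1) (r := 1)
    (fun h => hd (by rw [← ht]; linear_combination h + 4 * hdet)) one_ne_zero
  refine ⟨⟨!![x, M 0 0 * x + M 0 1 * y; y, M 1 0 * x + M 1 1 * y], ?_⟩, ?_⟩
  · rw [Matrix.det_fin_two_of]; linear_combination hxy
  refine Matrix.SpecialLinearGroup.ext _ _ fun i j => ?_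
  show (M * !![x, M 0 0 * x + M 0 1 * y; y, M 1 0 * x + M 1 1 * y]) i j =
    (!![x, M 0 0 * x + M 0 1 * y; y, M 1 0 * x + M 1 1 * y] * !![0, -1; 1, t]) i j
  fin_cases i <;> fin_cases j <;> simp [Matrix.mul_apply, Fin.sum_univ_two, ← ht]
  · linear_combination (-x) * hdet
  · linear_combination (-y) * hdet

/-- Semisimple elements with equal trace are conjugate in `SL(2)`. -/
theorem exists_conj {A B : Matrix.SpecialLinearGroup (Fin 2) F} {t : F}
    (hA : (A : Matrix (Fin 2) (Fin 2) F).trace = t) (hB : (B : Matrix (Fin 2) (Fin 2) F).trace = t)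
    (hd : t ^ 2 - 4 ≠ 0) : ∃ P : Matrix.SpecialLinearGroup (Fin 2) F, B = P * A * P⁻¹ := by
  obtain ⟨P, hP⟩ := exists_comp hA hd
  obtain ⟨Q, hQ⟩ := exists_comp hB hd
  refine ⟨Q * P⁻¹, ?_⟩
  rw [show Q * P⁻¹ * A * (Q * P⁻¹)⁻¹ = Q * (P⁻¹ * (A * P)) * Q⁻¹ by group, hP, inv_mul_cancel_left, ← hQ,
    mul_inv_cancel_right]

/-- In `PSL`, elements with lifts of equal or opposite trace are conjugate. -/
theorem pj_conj {A B : Matrix.SpecialLinearGroup (Fin 2) F} {t : F}
    (hA : (A : Matrix (Fin 2) (Fin 2) F).trace = t)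
    (hB : (B : Matrix (Fin 2) (Fin 2) F).trace = t ∨ (B : Matrix (Fin 2) (Fin 2) F).trace = -t)
    (hd : t ^ 2 - 4 ≠ 0) : ∃ g ∈ psl F, pj B = g * pj A * g⁻¹ := by
  obtain ⟨B', hB', e⟩ : ∃ B' : Matrix.SpecialLinearGroup (Fin 2) F,
      (B' : Matrix (Fin 2) (Fin 2) F).trace = t ∧ pj B' = pj B := by
    rcases hB with h | h
    · exact ⟨B, h, rfl⟩
    · exact ⟨-B, by rw [SpecialLinearGroup.coe_neg, Matrix.trace_neg, h, neg_neg], pj_eq_iff.2 (Or.inr rfl)⟩
  obtain ⟨P, rfl⟩ := exists_conj hA hB' hd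
  exact ⟨pj P, pj_mem P, by rw [← e, map_mul, map_mul, map_inv]⟩

end CfsgLib.Classical.PslBin
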