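import Cfsg.Agent.Lib.Classical.PslBin.Abstract
import Cfsg.Agent.Lib.Classical.PslBin.Forms
import Cfsg.Agent.Lib.Perm.Dickson.SubfieldMax

/-!
# An affine subgroup in a suborbit
-/

set_option autoImplicit false

namespace CfsgLib.Classical.PslBin

open Matrix
open CfsgLib.Perm.Dickson

variable {F : Type*} [Field F] [Finite F]

omit [Finite F] in
/-- The fixed pair `{∞, 0}`. -/
def KeepsPair (k : G2 F) : Prop :=
  (k • (ip : P2 F) = ip ∧ k • fp (0 : F) = fp 0) ∨ (k • (ip : P2 F) = fp 0 ∧ k • fp (0 : F) = ip)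

omit [Finite F] in
theorem bin_conjG {H : Subgroup (G2 F)} (hb : BinIn (psl F) H) (σ : G2 F) : BinIn (psl F) (conjG σ H) := by
  have h := hb.map (MulAut.conj σ)
  have e : (psl F).map (MulAut.conj σ).toMonoidHom = psl F := by
    ext g
    rw [Subgroup.mem_map_equiv, MulAut.conj_symm_apply]
    refine ⟨fun h => ?_, fun h => ?_⟩
    · simpa [mul_assoc] using (psl_normal F).conj_mem _ h σ
    · simpa using (psl_normal F).conj_mem _ h σ⁻¹
  rwa [e] at h

omit [Finite F] in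
theorem not_bin_conjG {H : Subgroup (G2 F)} (σ : G2 F) (h : ¬ BinIn (psl F) (conjG σ H)) : ¬ BinIn (psl F) H :=
  fun hb => h (bin_conjG hb σ)

omit [Finite F] in
/-- Two translations twisted by a multiplier, inside a suborbit whose stabiliser keeps a pair of points. -/
theorem not_bin_affine {H : Subgroup (G2 F)} (hH : H ≤ psl F) {g : G2 F} (hg : g ∈ psl F) {ω : Fˣ}
    (hω : (ω : F) ^ 2 ≠ 1) {e0 : F} (he : e0 ≠ 0) (h0 : tr e0 ∈ H) (h1 : tr ((ω : F)⁻¹ * e0) ∈ H)
    (h2 : tr ((ω : F) * e0) ∈ H) (hωH : di ω ∈ H) (hωg : g⁻¹ * di ω * g ∈ H)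
    (hK : ∀ k ∈ H, g⁻¹ * k * g ∈ H → KeepsPair k) : ¬ BinIn (psl F) H := by
  intro hb
  set K := H ⊓ H.map (MulAut.conj g).toMonoidHom with hKdef
  have memK : ∀ z, z ∈ K ↔ z ∈ H ∧ g⁻¹ * z * g ∈ H := fun z => by
    rw [hKdef, Subgroup.mem_inf, Subgroup.mem_map_equiv, MulAut.conj_symm_apply]
  have hdK : di ω ∈ K := (memK _).2 ⟨hωH, hωg⟩
  have keeps : ∀ k ∈ K, KeepsPair k := fun k hk => hK k ((memK k).1 hk).1 ((memK k).1 hk).2
  have h0' : (ω : F) ≠ 0 := ω.ne_zero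
  set X := e0 + (ω : F)⁻¹ * e0
  have hX : tr X ∈ H := by rw [← tr_mul]; exact H.mul_mem h0 h1
  refine not_bin_of_witness (u := tr e0) (v := tr X) (h := di ω) (b := tr e0 * di (ω ^ 2) * (tr e0)⁻¹)
    (inf_le_left : K ≤ H) h0 hX hdK ?_ ?_ ?_ (hb.suborbit hH hg)
  · rw [show (tr e0)⁻¹ * (tr e0 * di (ω ^ 2) * (tr e0)⁻¹) * tr e0 = di (ω ^ 2) by group,
      show di (ω ^ 2) = di ω ^ 2 from map_pow diHom ω 2]
    exact K.pow_mem hdK 2
  · rw [show (tr X)⁻¹ * ((tr e0 * di (ω ^ 2) * (tr e0)⁻¹)⁻¹ * di ω) * tr X = di ω⁻¹ by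
      apply ext_fp
      · simp [mul_smul, tr_inv, di_inv, tr_ip, di_ip]
      · intro z
        simp only [_root_.mul_inv_rev, inv_inv, mul_smul, tr_inv, di_inv, tr_fp, di_fp, Units.val_inv_eq_inv_val,
          Units.val_pow_eq_pow_val, inv_pow, X]
        congr 1
        field_simp
        ring]
    rw [← di_inv]
    exact K.inv_mem hdK
  · intro e he1 he2 hbad
    have k1 := keeps e he1
    have k2 := keeps _ he2
    have fip : e • (ip : P2 F) = ip := by
      rcases k1 with ⟨a, -⟩ | ⟨a, -⟩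
      · exact a
      rcases k2 with ⟨b, -⟩ | ⟨b, -⟩ <;>
        rw [mul_smul, mul_smul, tr_ip, a, tr_inv, tr_fp] at b
      · exact absurd b (fp_ne_ip _)
      · exact absurd (fp_inj b) (by simpa using he)
    have f0 : e • fp (0 : F) = fp 0 := by
      rcases k1 with ⟨-, b⟩ | ⟨a, -⟩
      · exact b
      · exact absurd (a.symm.trans fip) (fp_ne_ip _)
    have fe : e • fp e0 = fp e0 := by
      rcases k2 with ⟨-, b⟩ | ⟨a, -⟩
      · rw [mul_smul, mul_smul, tr_fp, zero_add, tr_inv, ← tr_inv, inv_smul_eq_iff, tr_fp, zero_add] at b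
        exact b
      · rw [mul_smul, mul_smul, tr_ip, fip, tr_inv, tr_ip] at a
        exact absurd a (ip_ne_fp _)
    rw [eq_one_of_three (ip_ne_fp _) (ip_ne_fp _) (fun h => he (fp_inj h).symm) fip f0 fe, inv_one, one_mul] at hbad
    have hne : -X + (ω : F) * X ≠ 0 := by
      simp only [X]
      intro h
      field_simp at h
      have h' : e0 * ((ω : F) ^ 2 - 1) = 0 := by linear_combination h
      exact hω (sub_eq_zero.1 ((mul_eq_zero.1 h').resolve_left he))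
    rcases keeps _ hbad with ⟨-, b⟩ | ⟨a, -⟩
    · rw [mul_smul, mul_smul, tr_fp, zero_add, di_fp, tr_inv, tr_fp] at b
      exact hne (by linear_combination fp_inj b)
    · rw [mul_smul, mul_smul, tr_ip, di_ip, tr_inv, tr_ip] at a
      exact ip_ne_fp _ a

omit [Finite F] in
/-- A subgroup of a point stabiliser containing a multiplier of order at least three. -/
theorem not_bin_borel_big {H : Subgroup (G2 F)} (hH : H ≤ psl F) (hfix : ∀ k ∈ H, k • (ip : P2 F) = ip) {ω : Fˣ}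
    (hω : (ω : F) ^ 2 ≠ 1) (hωH : di ω ∈ H) {e0 : F} (he : e0 ≠ 0) (h0 : tr e0 ∈ H) : ¬ BinIn (psl F) H := by
  have htr : ∀ u : Fˣ, di u ∈ H → tr ((u : F) * e0) ∈ H := fun u hu => by
    rw [show tr ((u : F) * e0) = di u * tr e0 * (di u)⁻¹ by rw [di_tr, mul_inv_cancel_right]]
    exact H.mul_mem (H.mul_mem hu h0) (H.inv_mem hu)
  have hsw : (iv (-1 : Fˣ))⁻¹ * di ω * iv (-1) ∈ H := by
    rw [inv_eq_of_mul_eq_one_right (iv_sq _), iv_di, ← di_inv]
    exact H.inv_mem hωH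
  refine not_bin_affine hH iv_neg_one_mem_psl hω he h0 ?_ (htr ω hωH) hωH hsw fun k hk hk' => Or.inl ⟨hfix k hk, ?_⟩
  · simpa using htr ω⁻¹ (by rw [← di_inv]; exact H.inv_mem hωH)
  · have h := hfix _ hk'
    rw [mul_smul, mul_smul, iv_ip, inv_smul_eq_iff, iv_ip] at h
    exact h

omit [Finite F] in
theorem smul_rat {F1 : Subfield F} {k : G2 F} (hk : k ∈ pglSub F1) {x : P2 F}
    (hx : x ∈ Set.range (mapP F1.subtype)) : k • x ∈ Set.range (mapP F1.subtype) := by
  obtain ⟨k', rfl⟩ := hk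
  obtain ⟨x', rfl⟩ := hx
  exact ⟨k' • x', (map_smul_pt _ _ _).symm⟩

omit [Finite F] in
theorem fp_rat_iff {F1 : Subfield F} {z : F} : fp z ∈ Set.range (mapP F1.subtype) ↔ z ∈ F1 := by
  constructor
  · rintro ⟨x, hx⟩
    rcases point_cases x with rfl | ⟨w, rfl⟩
    · rw [mapP_ip] at hx
      exact absurd hx (ip_ne_fp _)
    · rw [mapP_fp] at hx
      exact fp_inj hx ▸ w.2
  · exact fun hz => ⟨fp ⟨z, hz⟩, mapP_fp _ _⟩

/-- A subgroup between the groups of a subfield. -/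
theorem not_bin_subfield {H : Subgroup (G2 F)} (hH : H ≤ psl F) {F1 : Subfield F} (hge : pslSub F1 ≤ H)
    (hle : H ≤ pglSub F1) {ω : Fˣ} (hω : (ω : F) ^ 2 ≠ 1) (hωF : (ω : F) ∈ F1) (hωH : di ω ∈ H)
    {l : Fˣ} (hl : (l : F) ∉ F1) (hls : IsSquare (l : F)) : ¬ BinIn (psl F) H := by
  have one1 : (1 : F) ∈ F1 := F1.one_mem
  refine not_bin_affine hH ((di_mem_psl_iff l).2 hls) hω (one_ne_zero (α := F)) (hge (tr_mem_pslSub one1))
    (hge (tr_mem_pslSub (F1.mul_mem (F1.inv_mem hωF) one1))) (hge (tr_mem_pslSub (F1.mul_mem hωF one1))) hωH ?_ ?_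
  · rwa [show (di l)⁻¹ * di ω * di l = di ω by rw [di_inv, di_mul, di_mul]; congr 1; rw [mul_comm l⁻¹, inv_mul_cancel_right]]
  intro k hk hk'
  have land : ∀ x : P2 F, (x = ip ∨ x = fp 0) → k • x = ip ∨ k • x = fp 0 := by
    intro x hx
    have hxr : x ∈ Set.range (mapP F1.subtype) := by
      rcases hx with rfl | rfl
      · exact ⟨ip, mapP_ip _⟩
      · exact fp_rat_iff.2 F1.zero_mem
    have hxl : di l • x = x := by rcases hx with rfl | rfl <;> simp [di_ip, di_fp]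
    rcases point_cases (k • x) with h | ⟨z, h⟩
    · exact Or.inl h
    refine Or.inr ?_
    have hz := fp_rat_iff.1 (h ▸ smul_rat (hle hk) hxr)
    have hz' : ((l⁻¹ : Fˣ) : F) * z ∈ F1 := fp_rat_iff.1 (by
      have := smul_rat (hle hk') hxr
      rwa [mul_smul, mul_smul, hxl, h, di_inv, di_fp] at this)
    by_cases hz0 : z = 0
    · rw [h, hz0]
    refine absurd ?_ hl
    have := F1.mul_mem hz (F1.inv_mem hz')
    rwa [Units.val_inv_eq_inv_val, mul_inv, inv_inv, mul_comm (l : F), ← mul_assoc, mul_inv_cancel₀ hz0,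
      one_mul] at this
  rcases land ip (Or.inl rfl) with a | a <;> rcases land (fp 0) (Or.inr rfl) with b | b
  · exact absurd (MulAction.injective k (a.trans b.symm)) (ip_ne_fp _)
  · exact Or.inl ⟨a, b⟩
  · exact Or.inr ⟨a, b⟩
  · exact absurd (MulAction.injective k (a.trans b.symm)) (ip_ne_fp _)

end CfsgLib.Classical.PslBin
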