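import Cfsg.Agent.Lib.Classical.PslBin.Borel
import Cfsg.Agent.Lib.Classical.PslBin.Pairs

/-!
# Subgroups of a point stabiliser with multipliers at most `±1`
-/

set_option autoImplicit false

namespace CfsgLib.Classical.PslBin

open Matrix
open CfsgLib.Perm.Dickson

variable {F : Type*} [Field F]

theorem pj_ip {A : Matrix.SpecialLinearGroup (Fin 2) F} (h : A.1 1 0 ≠ 0) :
    pj A • (ip : P2 F) = fp (A.1 0 0 / A.1 1 0) := by
  show ProjGenLinGroup.mk (Matrix.SpecialLinearGroup.toGL A) • _ = _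
  rw [ip, mk_smul, mk_eq_fp]
  · congr 1
    simp [Matrix.mulVec, dotProduct, Fin.sum_univ_two, Matrix.SpecialLinearGroup.toGL]
  · simpa [Matrix.mulVec, dotProduct, Fin.sum_univ_two, Matrix.SpecialLinearGroup.toGL] using h

theorem fixes_image {H : Subgroup (G2 F)} (hfix : ∀ k ∈ H, k • (ip : P2 F) = ip) {u e : G2 F}
    (h : u⁻¹ * e * u ∈ H) : e • u • (ip : P2 F) = u • (ip : P2 F) := by
  have := hfix _ h
  rwa [mul_smul, mul_smul, inv_smul_eq_iff] at this

variable [Finite F]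

theorem not_bin_borel_minus {H : Subgroup (G2 F)} (hH : H ≤ psl F) (h2 : (2 : F) ≠ 0)
    (hfix : ∀ k ∈ H, k • (ip : P2 F) = ip)
    (hL : ∀ k ∈ H, ∃ (t : F) (w : Fˣ), k = tr t * di w ∧ ((w : F) = 1 ∨ (w : F) = -1))
    (hd : di (-1) ∈ H) : ¬ BinIn (psl F) H := by
  obtain ⟨i, hi⟩ : IsSquare (-1 : F) := by simpa using (di_mem_psl_iff _).1 (hH hd)
  have hi0 : i ≠ 0 := fun h => one_ne_zero (α := F) (by rw [h] at hi; linear_combination -hi)
  set A : Matrix.SpecialLinearGroup (Fin 2) F := ⟨!![2⁻¹, -1; 2⁻¹, 1], by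
    rw [Matrix.det_fin_two_of]; field_simp; norm_num⟩ with hA
  set B : Matrix.SpecialLinearGroup (Fin 2) F := ⟨!![2⁻¹, -i; -i / 2, 1], by
    rw [Matrix.det_fin_two_of]; field_simp; linear_combination hi⟩ with hB
  have eA : iv (1 : Fˣ) * pj A = pj A * di (-1) := by
    show ProjGenLinGroup.mk _ * ProjGenLinGroup.mk _ = ProjGenLinGroup.mk _ * ProjGenLinGroup.mk _
    rw [← map_mul, ← map_mul]
    refine mk_eq_of_smul (-1) (neg_ne_zero.2 one_ne_zero) ?_
    ext j k
    fin_cases j <;> fin_cases k <;>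
      simp [hA, Matrix.SpecialLinearGroup.toGL, Matrix.mul_apply, Fin.sum_univ_two]
  have eB : iv (-1 : Fˣ) * pj B = pj B * di (-1) := by
    show ProjGenLinGroup.mk _ * ProjGenLinGroup.mk _ = ProjGenLinGroup.mk _ * ProjGenLinGroup.mk _
    rw [← map_mul, ← map_mul]
    refine mk_eq_of_smul i hi0 ?_
    ext j k
    fin_cases j <;> fin_cases k <;>
      simp [hB, Matrix.SpecialLinearGroup.toGL, Matrix.mul_apply, Fin.sum_univ_two] <;> field_simp <;>
      first | linear_combination hi | linear_combination -hi | ring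
  have hbh : (iv (1 : Fˣ))⁻¹ * di (-1) = iv (-1 : Fˣ) := by
    rw [inv_mul_eq_iff_eq_mul, iv_di_mul]
    simp
  refine not_bin_of_witness hH (pj_mem A) (pj_mem B) hd (b := iv 1)
    (by rw [mul_assoc, eA, inv_mul_cancel_left]; exact hd)
    (by rw [hbh, mul_assoc, eB, inv_mul_cancel_left]; exact hd) ?_
  intro e he he1 he2
  have f1 := fixes_image hfix he1
  have f2 := fixes_image hfix he2
  rw [pj_ip (by simpa [hA] using h2)] at f1
  rw [pj_ip (by simpa [hB, hi0] using h2), mul_smul, inv_smul_eq_iff] at f2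
  obtain ⟨t, w, rfl, hw⟩ := hL e he
  simp only [hA, hB, mul_smul, di_fp, tr_fp, Units.val_neg, Units.val_one, Matrix.of_apply, Matrix.cons_val',
    Matrix.cons_val_zero, Matrix.cons_val_one, Matrix.cons_val_fin_one] at f1 f2
  replace f1 := fp_inj f1
  replace f2 := fp_inj f2
  field_simp at f1 f2
  rcases hw with hw | hw <;> rw [hw] at f1 f2
  · rcases mul_eq_zero.1 (show (2 : F) * 2 = 0 by linear_combination (2 : F) * f2 + 2 * i * f1) with h | h <;>
      exact h2 h
  · exact h2 (by linear_combination -f1 + i * f2 - t * hi)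

theorem not_bin_borel_odd {H : Subgroup (G2 F)} (hH : H ≤ psl F) (h2 : (2 : F) ≠ 0)
    (hfix : ∀ k ∈ H, k • (ip : P2 F) = ip) (hT : ∀ k ∈ H, ∃ t : F, k = tr t) {e : F} (he : e ≠ 0)
    (heH : tr e ∈ H) : ¬ BinIn (psl F) H := by
  set A : Matrix.SpecialLinearGroup (Fin 2) F := ⟨!![0, -(e / 2); 2 / e, 0], by
    rw [Matrix.det_fin_two_of]; field_simp; ring⟩ with hA
  set B : Matrix.SpecialLinearGroup (Fin 2) F := ⟨!![1, 0; -(2 / e), 1], by simp [Matrix.det_fin_two]⟩ with hB
  have hneg : tr (-e) ∈ H := tr_inv e ▸ H.inv_mem heH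
  have hkey : tr e * pj B * tr e = pj A * tr (-e) * (pj A)⁻¹ * pj B := by
    have e1 : pj A * tr (-e) = pj (⟨!![1, 0; 4 / e, 1], by simp [Matrix.det_fin_two]⟩) * pj A := by
      show ProjGenLinGroup.mk _ * ProjGenLinGroup.mk _ = ProjGenLinGroup.mk _ * ProjGenLinGroup.mk _
      rw [← map_mul, ← map_mul]
      refine mk_eq_of_smul 1 one_ne_zero ?_
      ext j k
      fin_cases j <;> fin_cases k <;>
        simp [hA, Matrix.SpecialLinearGroup.toGL, Matrix.mul_apply, Fin.sum_univ_two] <;> field_simp <;> ring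
    rw [e1, mul_inv_cancel_right]
    show ProjGenLinGroup.mk _ * ProjGenLinGroup.mk _ * ProjGenLinGroup.mk _ =
      ProjGenLinGroup.mk _ * ProjGenLinGroup.mk _
    rw [← map_mul, ← map_mul, ← map_mul]
    refine mk_eq_of_smul (-1) (neg_ne_zero.2 one_ne_zero) ?_
    ext j k
    fin_cases j <;> fin_cases k <;>
      simp [hB, Matrix.SpecialLinearGroup.toGL, Matrix.mul_apply, Fin.sum_univ_two] <;> field_simp <;> ring
  refine not_bin_of_witness hH (pj_mem A) (pj_mem B) heH (b := pj A * tr (-e) * (pj A)⁻¹)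
    (by rwa [show (pj A)⁻¹ * (pj A * tr (-e) * (pj A)⁻¹) * pj A = tr (-e) by group])
    (by
      rwa [show (pj B)⁻¹ * ((pj A * tr (-e) * (pj A)⁻¹)⁻¹ * tr e) * pj B = (tr e)⁻¹ by
        refine eq_inv_of_mul_eq_one_left ?_
        rw [show (pj B)⁻¹ * ((pj A * tr (-e) * (pj A)⁻¹)⁻¹ * tr e) * pj B * tr e =
          (pj B)⁻¹ * (pj A * tr (-e) * (pj A)⁻¹)⁻¹ * (tr e * pj B * tr e) by group, hkey]
        group, tr_inv]) ?_
  intro k hk hk1 hk2
  have f1 := fixes_image hfix hk1
  have f2 := fixes_image hfix hk2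
  rw [pj_ip (by simpa [hA] using div_ne_zero h2 he)] at f1
  rw [pj_ip (by simpa [hB] using ⟨h2, he⟩), mul_smul, inv_smul_eq_iff] at f2
  obtain ⟨t, rfl⟩ := hT k hk
  simp only [hA, hB, tr_fp, Matrix.of_apply, Matrix.cons_val', Matrix.cons_val_zero, Matrix.cons_val_one,
    Matrix.cons_val_fin_one, zero_div, zero_add] at f1 f2
  exact he (by linear_combination fp_inj f2 + fp_inj f1)

omit [Finite F] in
theorem di_inv_tr_di (l : Fˣ) (x : F) : (di l)⁻¹ * tr x * di l = tr ((l : F)⁻¹ * x) := by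
  apply ext_fp
  · simp [mul_smul, tr_ip, di_inv, di_ip]
  · intro z
    simp only [mul_smul, di_inv, di_fp, tr_fp, Units.val_inv_eq_inv_val]
    congr 1
    field_simp

omit [Finite F] in
theorem not_bin_translations {H : Subgroup (G2 F)} (hH : H ≤ psl F) (hpsl : psl F = ⊤)
    (hT : ∀ k ∈ H, ∃ t : F, k = tr t) {l m : Fˣ} {e y z : F} (he : tr e ∈ H) (hy : tr y ∈ H) (hz : tr z ∈ H)
    (hsum : (m : F) * z = e - (l : F) * y)
    (hno : ∀ x, tr x ∈ H → tr ((l : F)⁻¹ * x) ∈ H → tr ((m : F)⁻¹ * (e - x)) ∉ H) : ¬ BinIn (psl F) H := by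
  have hall : ∀ g : G2 F, g ∈ psl F := fun g => hpsl ▸ Subgroup.mem_top g
  refine not_bin_of_witness hH (hall (di l)) (hall (di m)) he (b := tr ((l : F) * y)) ?_ ?_ ?_
  · rwa [di_inv_tr_di, inv_mul_cancel_left₀ l.ne_zero]
  · rwa [tr_inv, tr_mul, di_inv_tr_di, neg_add_eq_sub, ← hsum, inv_mul_cancel_left₀ m.ne_zero]
  · intro k hk h1 h2
    obtain ⟨x, rfl⟩ := hT k hk
    rw [di_inv_tr_di] at h1
    rw [tr_inv, tr_mul, di_inv_tr_di, neg_add_eq_sub] at h2
    exact hno x hk h1 h2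

theorem not_bin_borel_even {H : Subgroup (G2 F)} (hH : H ≤ psl F) (h2 : (2 : F) = 0)
    (hT : ∀ k ∈ H, ∃ t : F, k = tr t) {c : F} (hc : c ≠ 0) (hcH : tr c ∈ H) {x : F} (hx : tr x ∉ H) :
    ¬ BinIn (psl F) H := by
  haveI := finite_G2 (F := F)
  haveI := Fintype.ofFinite F
  haveI := CharTwo.of_one_ne_zero_of_two_eq_zero (one_ne_zero (α := F)) h2
  have hpsl : psl F = ⊤ := psl_eq_top (by
    rw [Nat.card_eq_fintype_card, Nat.even_iff]
    exact FiniteField.even_card_of_char_two (ringChar.eq F 2))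
  have hadd : ∀ {a b : F}, tr a ∈ H → tr b ∈ H → tr (a + b) ∈ H := fun {a b} ha hb => by
    rw [← tr_mul]; exact H.mul_mem ha hb
  by_cases hex : ∃ e y r : F, tr e ∈ H ∧ tr y ∈ H ∧ r ^ 2 = e * y ∧ tr r ∉ H
  · obtain ⟨e, y, r, he, hy, hr, hrH⟩ := hex
    have hy0 : y ≠ 0 := fun h => hrH (by
      rw [h, mul_zero] at hr; rw [eq_zero_of_pow_eq_zero hr, tr_zero]; exact H.one_mem)
    have hr0 : r ≠ 0 := fun h => hrH (by rw [h, tr_zero]; exact H.one_mem)
    have hry : r ≠ y := fun h => hrH (h ▸ hy)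
    have hm : r + y ≠ 0 := fun h => hry (by linear_combination h - y * h2)
    refine not_bin_translations hH hpsl hT (l := Units.mk0 (r / y) (div_ne_zero hr0 hy0))
      (m := Units.mk0 (r / (r + y)) (div_ne_zero hr0 hm)) he hy (hadd hy he) ?_ ?_
    · simp only [Units.val_mk0]
      field_simp
      first
        | linear_combination hr + r * y * h2
        | linear_combination hr - r * y * h2
    · intro w hw hw1 hw2
      simp only [Units.val_mk0] at hw1 hw2
      apply hrH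
      have h3 : tr (e - w) ∈ H := by rw [sub_eq_add_neg, ← tr_mul, ← tr_inv]; exact H.mul_mem he (H.inv_mem hw)
      have := hadd (hadd hw1 hw2) h3
      rwa [show (r / y)⁻¹ * w + (r / (r + y))⁻¹ * (e - w) + (e - w) = r by
        field_simp
        linear_combination -hr + (r * e - r * w) * h2] at this
  push Not at hex
  let S : Set F := {a | tr (c * a) ∈ H}
  have one : (1 : F) ∈ S := by show tr (c * 1) ∈ H; rwa [mul_one]
  have root : ∀ a ∈ S, ∀ b ∈ S, ∀ r, r ^ 2 = a * b → r ∈ S := fun a ha b hb r hr =>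
    hex _ _ _ ha hb (by rw [mul_pow, hr]; ring)
  choose f hf using fun a : S => exists_sq_two h2 (a : F)
  let g : S → S := fun a => ⟨f a, root a a.2 1 one _ (by rw [hf, mul_one])⟩
  have ginj : Function.Injective g := fun a b h => Subtype.ext (by
    rw [← hf a, ← hf b, show f a = f b from congrArg Subtype.val h])
  have sq : ∀ r ∈ S, r ^ 2 ∈ S := fun r hr => by
    obtain ⟨a, ha⟩ := Finite.injective_iff_surjective.1 ginj ⟨r, hr⟩
    rw [← show f a = r from congrArg Subtype.val ha, hf]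
    exact a.2
  have mul : ∀ a ∈ S, ∀ b ∈ S, a * b ∈ S := fun a ha b hb => by
    obtain ⟨r, hr⟩ := exists_sq_two h2 (a * b)
    exact hr ▸ sq r (root a ha b hb r hr)
  have inv : ∀ a ∈ S, a ≠ 0 → a⁻¹ ∈ S := fun a ha ha0 => by
    have hp : ∀ k, a ^ k ∈ S := fun k => by
      induction k with
      | zero => rwa [pow_zero]
      | succ k ih => rw [pow_succ]; exact mul _ ih _ ha
    have : a⁻¹ = a ^ (Fintype.card F - 2) := by
      refine (eq_inv_of_mul_eq_one_left ?_).symm
      rw [← pow_succ, show Fintype.card F - 2 + 1 = Fintype.card F - 1 by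
        have := Fintype.one_lt_card (α := F); omega, FiniteField.pow_card_sub_one_eq_one a ha0]
    exact this ▸ hp _
  have hl : x / c ∉ S := fun h => hx (by
    have h' : tr (c * (x / c)) ∈ H := h
    rwa [show c * (x / c) = x by field_simp] at h')
  have hl0 : x / c ≠ 0 := fun h => hl (by rw [h]; show tr (c * 0) ∈ H; rw [mul_zero, tr_zero]; exact H.one_mem)
  have hl1 : 1 + x / c ≠ 0 := fun h => hl (by rw [show x / c = 1 by linear_combination h - h2]; exact one)
  refine not_bin_translations hH hpsl hT (l := Units.mk0 _ hl0) (m := Units.mk0 _ hl1) hcH hcH hcH ?_ ?_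
  · simp only [Units.val_mk0]; linear_combination x / c * c * h2
  · intro w hw hw1 hw2
    simp only [Units.val_mk0] at hw1 hw2
    apply hl
    have ha : w / c ∈ S := by show tr (c * (w / c)) ∈ H; rwa [show c * (w / c) = w by field_simp]
    have hb : (x / c)⁻¹ * w / c ∈ S := by
      show tr (c * ((x / c)⁻¹ * w / c)) ∈ H; rwa [show c * ((x / c)⁻¹ * w / c) = (x / c)⁻¹ * w by field_simp]
    by_cases hw0 : w = 0
    · have hm : (1 + x / c)⁻¹ ∈ S := by
        show tr (c * (1 + x / c)⁻¹) ∈ H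
        rwa [hw0, sub_zero, mul_comm] at hw2
      have := inv _ hm (inv_ne_zero hl1)
      rw [inv_inv] at this
      show tr (c * (x / c)) ∈ H
      rw [show c * (x / c) = c * 1 + c * (1 + x / c) by linear_combination -c * h2]
      exact hadd one this
    · have := mul _ ha _ (inv _ hb (div_ne_zero (mul_ne_zero (inv_ne_zero hl0) hw0) hc))
      rwa [show w / c * ((x / c)⁻¹ * w / c)⁻¹ = x / c by field_simp] at this

/-- Dispatch for subgroups fixing a point. -/
theorem borel_cases {H : Subgroup (G2 F)} (hH : H ≤ psl F) {x : P2 F} (hfix : ∀ g ∈ H, g • x = x) :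
    H = ⊥ ∨ (∃ a b : P2 (Kc F), GoodPair a b ∧ H ≤ pairFix a b) ∨
      ((2 : F) = 0 ∧ ∃ σ : G2 F, ∀ g, g ∈ conjG σ H ↔ ∃ t : F, g = tr t) ∨ ¬ BinIn (psl F) H := by
  classical
  obtain ⟨σ, hσ⟩ := exists_move_ip x
  set K := conjG σ H with hKdef
  have hKle : K ≤ psl F := fun g hg => by
    simpa [mul_assoc] using (psl_normal F).conj_mem _ (hH (mem_conjG.1 hg)) σ
  have hKfix : ∀ g ∈ K, g • (ip : P2 F) = ip := fun g hg => by
    have := hfix _ (mem_conjG.1 hg)
    rwa [mul_smul, mul_smul, inv_smul_eq_iff, hσ] at this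
  by_cases hT : ∃ e : F, e ≠ 0 ∧ tr e ∈ K
  swap
  · push Not at hT
    by_cases h1 : ∃ g ∈ K, g ≠ 1
    · obtain ⟨g, hg, hg1⟩ := h1
      obtain ⟨t, u, rfl⟩ := exists_of_fix_ip (hKfix g hg)
      have hu : (u : F) ≠ 1 := fun h => by
        rw [Units.val_eq_one] at h
        subst h
        rw [di_one, mul_one] at hg hg1
        exact hT t (fun h => hg1 (by rw [h, tr_zero])) hg
      set z := t / (1 - (u : F)) with hz
      have h1u : (1 : F) - u ≠ 0 := sub_ne_zero.2 hu.symm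
      have hgz : (tr t * di u) • fp z = fp z := by
        rw [trdi_fp, hz]; congr 1; field_simp; ring
      have hall : ∀ k ∈ K, k • fp z = fp z := by
        intro k hk
        obtain ⟨s, w, rfl⟩ := exists_of_fix_ip (hKfix k hk)
        have hc : tr s * di w * (tr t * di u) = tr t * di u * (tr s * di w) := by
          rw [trdi_mul, trdi_mul, mul_comm w u]
          congr 2
          by_contra hne
          refine hT _ (sub_ne_zero.2 hne) ?_
          have := K.mul_mem (K.mul_mem hk hg) (K.inv_mem (K.mul_mem hg hk))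
          rwa [trdi_mul, trdi_mul, mul_comm w u, _root_.mul_inv_rev, mul_assoc, ← mul_assoc (di (u * w)), mul_inv_cancel,
            one_mul, tr_inv, tr_mul, ← sub_eq_add_neg] at this
        have h' := congrArg (· • fp z) hc
        simp only [mul_smul (tr s * di w), mul_smul (tr t * di u), hgz] at h'
        rw [trdi_fp] at h' ⊢
        rw [trdi_fp] at h'
        refine congrArg fp (mul_left_cancel₀ h1u ?_)
        have h'' := fp_inj h'
        rw [hz] at h'' ⊢
        field_simp at h'' ⊢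
        apply mul_left_cancel₀ h1u
        linear_combination h''
      right; left
      refine ⟨mapP (iF F) (σ⁻¹ • ip), mapP (iF F) (σ⁻¹ • fp z),
        ⟨fun h => ip_ne_fp z (MulAction.injective σ⁻¹ (mapP_injective _ h)), Or.inl ⟨⟨_, rfl⟩, ⟨_, rfl⟩⟩⟩,
        fun k hk => ?_⟩
      have hk' : σ * k * σ⁻¹ ∈ K := mem_conjG.2 (by rwa [show σ⁻¹ * (σ * k * σ⁻¹) * σ = k by group])
      have a1 := hKfix _ hk'
      have a2 := hall _ hk'
      rw [mul_smul, mul_smul, ← eq_inv_smul_iff] at a1 a2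
      exact mem_pairFix.2 ⟨(fix_map_iff _ _).2 a1, (fix_map_iff _ _).2 a2⟩
    · push Not at h1
      left
      rw [eq_bot_iff]
      intro k hk
      have := h1 (σ * k * σ⁻¹) (mem_conjG.2 (by rwa [show σ⁻¹ * (σ * k * σ⁻¹) * σ = k by group]))
      rwa [conj_eq_one_iff] at this
  obtain ⟨e, he, heK⟩ := hT
  have shift : ∀ (t : F) (u : Fˣ), (u : F) ≠ 1 → tr t * di u ∈ K → ∃ s : F, di u ∈ conjG (tr s) K ∧
      tr e ∈ conjG (tr s) K ∧ conjG (tr s) K ≤ psl F ∧ ∀ k ∈ conjG (tr s) K, k • (ip : P2 F) = ip := by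
    intro t u hu hk
    refine ⟨-(t / (1 - (u : F))), mem_conjG.2 ?_, mem_conjG.2 ?_, fun k hk' => ?_, fun k hk' => ?_⟩
    · convert hk using 1
      have : (1 : F) - u ≠ 0 := sub_ne_zero.2 hu.symm
      apply ext_fp
      · simp [mul_smul, tr_inv, tr_ip, di_ip]
      · intro z; simp only [mul_smul, tr_inv, tr_fp, di_fp]; congr 1; field_simp; ring
    · rwa [tr_inv, tr_mul, tr_mul, show -(-(t / (1 - (u : F)))) + e + -(t / (1 - (u : F))) = e by ring]
    · simpa [mul_assoc] using (psl_normal F).conj_mem _ (hKle (mem_conjG.1 hk')) (tr (-(t / (1 - (u : F)))))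
    · have := hKfix _ (mem_conjG.1 hk')
      rwa [mul_smul, mul_smul, inv_smul_eq_iff, tr_ip] at this
  have back : ¬ BinIn (psl F) K → ¬ BinIn (psl F) H := not_bin_conjG σ
  by_cases hbig : ∃ (t : F) (u : Fˣ), tr t * di u ∈ K ∧ (u : F) ^ 2 ≠ 1
  · obtain ⟨t, u, hk, hu⟩ := hbig
    obtain ⟨s, s1, s2, s3, s4⟩ := shift t u (fun h => hu (by rw [h, one_pow])) hk
    exact Or.inr (Or.inr (Or.inr (back (not_bin_conjG _ (not_bin_borel_big s3 s4 hu s1 he s2)))))
  push Not at hbig
  by_cases hminus : ∃ (t : F) (u : Fˣ), tr t * di u ∈ K ∧ (u : F) ≠ 1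
  · obtain ⟨t, u, hk, hu⟩ := hminus
    have hu' : (u : F) = -1 := (sq_eq_one_iff.1 (hbig t u hk)).resolve_left hu
    have h2 : (2 : F) ≠ 0 := fun h => hu (by rw [hu']; linear_combination -h)
    obtain ⟨s, s1, -, s3, s4⟩ := shift t u hu hk
    rw [show u = -1 from Units.ext (by rw [hu']; simp)] at s1
    refine Or.inr (Or.inr (Or.inr (back (not_bin_conjG _ (not_bin_borel_minus s3 h2 s4 (fun k hk' => ?_) s1)))))
    obtain ⟨r, w, rfl⟩ := exists_of_fix_ip (s4 k hk')
    refine ⟨r, w, rfl, sq_eq_one_iff.1 (hbig (r - (1 - (w : F)) * s) w ?_)⟩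
    convert mem_conjG.1 hk' using 1
    apply ext_fp
    · simp [mul_smul, tr_inv, tr_ip, di_ip]
    · intro z; simp only [mul_smul, tr_inv, tr_fp, di_fp]; congr 1; ring
  push Not at hminus
  have hTall : ∀ k ∈ K, ∃ t : F, k = tr t := fun k hk => by
    obtain ⟨t, u, rfl⟩ := exists_of_fix_ip (hKfix k hk)
    exact ⟨t, by rw [Units.val_eq_one.1 (hminus t u hk), di_one, mul_one]⟩
  by_cases h2 : (2 : F) = 0
  · by_cases hfull : ∀ t : F, tr t ∈ K
    · exact Or.inr (Or.inr (Or.inl ⟨h2, σ, fun g => ⟨hTall g, fun ⟨t, ht⟩ => ht ▸ hfull t⟩⟩))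
    · push Not at hfull
      obtain ⟨y, hy⟩ := hfull
      exact Or.inr (Or.inr (Or.inr (back (not_bin_borel_even hKle h2 hTall he heK hy))))
  · exact Or.inr (Or.inr (Or.inr (back (not_bin_borel_odd hKle h2 hKfix hTall he heK))))

end CfsgLib.Classical.PslBin
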