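import Cfsg.Agent.Lib.Classical.PslBin.Borel
import Cfsg.Agent.Lib.Classical.PslBin.Pairs

/-!
# Cyclic subgroups of tori
-/

set_option autoImplicit false

namespace CfsgLib.Classical.PslBin

open Matrix
open CfsgLib.Perm.Dickson

variable {F : Type*} [Field F] [Finite F]

/-- A factorisation of an element of a torus into conjugates lying in other tori. -/
theorem not_bin_cyclic_witness {H : Subgroup (G2 F)} (hH : H ≤ psl F) {a b : P2 (Kc F)} (hab : a ≠ b)
    (hT : H ≤ pairFix a b) {h u v y : G2 F} (hu : u ∈ psl F) (hv : v ∈ psl F) (hh : h ∈ H) (h1 : h ≠ 1)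
    (hy : y ∉ pairFix a b) (hb : u⁻¹ * y * u ∈ H) (hc : v⁻¹ * (y⁻¹ * h) * v ∈ H) : ¬ BinIn (psl F) H := by
  refine not_bin_of_witness hH hu hv hh hb hc fun e he he1 he2 => ?_
  by_cases e1 : e = 1
  · subst e1
    rw [inv_one, one_mul] at he2
    have h2 := mem_pairFix_conj.1 (hT he2)
    have h3 := mem_pairFix_conj.1 (hT hc)
    rw [pairFix_eq hab (fun h => hab (MulAction.injective _ h)) h1 (hT hh) h2] at h3
    exact hy (by simpa using (pairFix a b).mul_mem (hT hh) ((pairFix a b).inv_mem h3))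
  · have h2 := mem_pairFix_conj.1 (hT he1)
    have h3 := mem_pairFix_conj.1 (hT hb)
    rw [pairFix_eq hab (fun h => hab (MulAction.injective _ h)) e1 (hT he) h2] at h3
    exact hy h3

omit [Finite F] in
theorem conjG_le_pairFix {H : Subgroup (G2 F)} {a b : P2 (Kc F)} (hT : H ≤ pairFix a b) (σ : G2 F) :
    conjG σ H ≤ pairFix (mapG (iF F) σ • a) (mapG (iF F) σ • b) :=
  fun _ hg => mem_pairFix_conj.1 (hT (mem_conjG.1 hg))

omit [Finite F] in
theorem conjG_le_psl {H : Subgroup (G2 F)} (hH : H ≤ psl F) (σ : G2 F) : conjG σ H ≤ psl F :=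
  fun g hg => by simpa [mul_assoc] using (psl_normal F).conj_mem _ (hH (mem_conjG.1 hg)) σ

theorem not_bin_comp {H : Subgroup (G2 F)} (hH : H ≤ psl F) {a b : P2 (Kc F)} (hab : a ≠ b)
    (hT : H ≤ pairFix a b) {t : F} (hd : t ^ 2 - 4 ≠ 0) (hx : pj (comp t) ∈ H) (h1 : pj (comp t) ≠ 1)
    (hne : (2 : F) = 0 → t ≠ 1) : ¬ BinIn (psl F) H := by
  obtain ⟨s, hs, hs2, hs3⟩ : ∃ s, (s = t ∨ s = -t) ∧ s ≠ 2 ∧ s ≠ t ^ 2 - 2 := by
    by_cases h : t = -1
    · subst h
      have h2 : (2 : F) ≠ 0 := fun e => hne e (by linear_combination (-1 : F) * e)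
      exact ⟨1, Or.inr (by ring), fun e => one_ne_zero (α := F) (by linear_combination -e),
        fun e => h2 (by linear_combination e)⟩
    refine ⟨t, Or.inl rfl, fun e => hd (by rw [e]; ring), fun e => ?_⟩
    rcases mul_eq_zero.1 (show (t - 2) * (t + 1) = 0 by linear_combination -e) with h' | h'
    · exact hd (by linear_combination (t + 2) * h')
    · exact h (by linear_combination h')
  obtain ⟨α, β, hc⟩ := conic (a := (1 : F)) (b := -t) (c := 1) (by rw [neg_sq]; simpa using hd) (-t) s 1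
  set Y : Matrix.SpecialLinearGroup (Fin 2) F := ⟨!![α, β; s + β - α * t, t - α], by
    rw [Matrix.det_fin_two_of]; linear_combination -hc⟩ with hY
  have htY : (Y : Matrix (Fin 2) (Fin 2) F).trace = t := by simp [hY, Matrix.trace_fin_two]
  have htX : ((comp t : Matrix.SpecialLinearGroup (Fin 2) F) : Matrix (Fin 2) (Fin 2) F).trace = t := by
    simp [comp, Matrix.trace_fin_two]
  have htZ : ((Y⁻¹ * comp t : Matrix.SpecialLinearGroup (Fin 2) F) : Matrix (Fin 2) (Fin 2) F).trace = s := by
    rw [sl_mul, sl_inv]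
    simp [hY, comp, Matrix.trace_fin_two]
  obtain ⟨u, hu, eu⟩ := pj_conj htX (Or.inl htY) hd
  obtain ⟨v, hv, ev⟩ := pj_conj htX (B := Y⁻¹ * comp t) (by rw [htZ]; exact hs) hd
  refine not_bin_cyclic_witness hH hab hT hu hv hx h1 (y := pj Y) (fun hy => ?_)
    (by rwa [eu, show u⁻¹ * (u * pj (comp t) * u⁻¹) * u = pj (comp t) by group])
    (by rwa [show (pj Y)⁻¹ * pj (comp t) = v * pj (comp t) * v⁻¹ by rw [← ev, map_mul, map_inv],
      show v⁻¹ * (v * pj (comp t) * v⁻¹) * v = pj (comp t) by group])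
  by_cases ht : t = 0
  · subst ht
    have h2 : (2 : F) ≠ 0 := fun e => hd (by linear_combination (-2 : F) * e)
    have hy1 : pj Y ≠ 1 := fun h => by
      rcases pj_eq_one.1 h with e | e <;> rw [e] at htY <;> simp [Matrix.trace_fin_two] at htY <;>
        exact h2 (by linear_combination htY)
    have e := invol_unique hab hy (hT hx) (pj_sq_of_trace_zero htY) (pj_sq_of_trace_zero htX) hy1 h1
    have : pj (Y⁻¹ * comp 0) = 1 := by rw [map_mul, map_inv, e, inv_mul_cancel]
    rcases hs with rfl | rfl <;> rcases pj_eq_one.1 this with e' | e' <;> rw [e'] at htZ <;>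
      simp [Matrix.trace_fin_two] at htZ <;> exact h2 (by linear_combination htZ)
  have hcomm := pairFix_comm hab hy (hT hx)
  rw [pj_comm_iff] at hcomm
  rcases hcomm with e | e
  · have e00 := congrFun (congrFun e 0) 0
    have e01 := congrFun (congrFun e 0) 1
    simp [hY, comp, Matrix.mul_apply, Fin.sum_univ_two] at e00 e01
    by_cases h2 : (2 : F) = 0
    · have hb : β = 1 := by
        have : t * (β - 1) = 0 := by linear_combination e01 + (α - t) * h2
        exact sub_eq_zero.1 ((mul_eq_zero.1 this).resolve_left ht)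
      subst hb
      rcases mul_eq_zero.1 (show α * (α - t) = 0 by
        linear_combination hc - e00) with h | h
      · exact hs2 (by subst h; linear_combination e00 - (2 : F) * h2)
      · exact hs3 (by rw [sub_eq_zero] at h; subst h; linear_combination e00)
    · have key : (1 + β) * (1 - β) * (4 - t ^ 2) = 0 := by
        linear_combination 4 * hc + (-4 * β) * e00 + (t * (1 + β) - 2 * t + 2 * α) * e01
      rcases mul_eq_zero.1 ((mul_eq_zero.1 key).resolve_right fun h => hd (by linear_combination -h)) with h | h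
      · have ha : α = 0 := (mul_eq_zero.1 (show (2 : F) * α = 0 by linear_combination t * h - e01)).resolve_left h2
        exact hs2 (by rw [ha] at e00; linear_combination e00 + (-2 : F) * h)
      · have ha : α = t := sub_eq_zero.1
          ((mul_eq_zero.1 (show (2 : F) * (α - t) = 0 by linear_combination -t * h - e01)).resolve_left h2)
        exact hs3 (by rw [ha] at e00; linear_combination e00 + (2 : F) * h)
  · have e00 := congrFun (congrFun e 0) 0
    have e01 := congrFun (congrFun e 0) 1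
    have e10 := congrFun (congrFun e 1) 0
    simp [hY, comp, Matrix.mul_apply, Fin.sum_univ_two] at e00 e01 e10
    have hb : β = 1 := sub_eq_zero.1 ((mul_eq_zero.1 (show t * (β - 1) = 0 by linear_combination e01)).resolve_left ht)
    subst hb
    have h2 : (2 : F) = 0 :=
      (mul_eq_zero.1 (show (2 : F) * t = 0 by linear_combination e10 + t * e00 * 1)).resolve_right ht
    rcases mul_eq_zero.1 (show α * (α - t) = 0 by
      linear_combination hc + e00 - h2) with h | h
    · exact hs2 (by subst h; linear_combination -e00 - h2)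
    · exact hs3 (by rw [sub_eq_zero] at h; subst h; linear_combination -e00 + h2)

/-- Order three in characteristic two, with a rational cube root of unity. -/
theorem not_bin_omega {H : Subgroup (G2 F)} (hH : H ≤ psl F) {a b : P2 (Kc F)} (hab : a ≠ b)
    (hT : H ≤ pairFix a b) (h2 : (2 : F) = 0) {u : Fˣ} (hu : (u : F) ^ 2 + u + 1 = 0) (hx : di u ∈ H) :
    ¬ BinIn (psl F) H := by
  have hu1 : (u : F) ≠ 1 := fun h => one_ne_zero (α := F) (by rw [h] at hu; linear_combination hu - h2)
  have hu3 : (u : F) ^ 3 = 1 := by linear_combination ((u : F) - 1) * hu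
  have hsq : di (u ^ 2) ∈ H := by rw [show di (u ^ 2) = di u ^ 2 from map_pow diHom u 2]; exact H.pow_mem hx 2
  refine not_bin_cyclic_witness hH hab hT (tr_mem_psl ((u : F) ^ 2)) (tr_mem_psl (1 : F)) hx
    (fun h => hu1 (by rw [← di_one] at h; rw [di_injective h, Units.val_one])) (y := tr 1 * di (u ^ 2)) ?_ ?_ ?_
  · intro hy
    have e := congrArg (· • fp (0 : F)) (pairFix_comm hab hy (hT hx))
    simp only [mul_smul, tr_fp, di_fp, mul_zero, zero_add, mul_one] at e
    exact hu1 (fp_inj e).symm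
  · rwa [show (tr ((u : F) ^ 2))⁻¹ * (tr 1 * di (u ^ 2)) * tr ((u : F) ^ 2) = di (u ^ 2) by
      apply ext_fp
      · simp [mul_smul, tr_inv, tr_ip, di_ip]
      · intro z
        simp only [mul_smul, tr_inv, tr_fp, di_fp, Units.val_pow_eq_pow_val]
        congr 1
        linear_combination (u : F) * hu3 + hu - (u : F) ^ 2 * h2]
  · rwa [show (tr (1 : F))⁻¹ * ((tr 1 * di (u ^ 2))⁻¹ * di u) * tr 1 = di (u ^ 2) by
      apply ext_fp
      · simp [mul_smul, tr_inv, tr_ip, di_inv, di_ip]
      · intro z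
        simp only [_root_.mul_inv_rev, mul_smul, tr_inv, di_inv, tr_fp, di_fp, Units.val_inv_eq_inv_val,
          Units.val_pow_eq_pow_val]
        congr 1
        field_simp
        linear_combination -(u : F) * z * hu3 - hu + (u : F) * h2]

/-- Cyclic subgroups of tori, except of order three in `PSL(2, 2^odd)`. -/
theorem not_bin_cyclic {H : Subgroup (G2 F)} (hH : H ≤ psl F) {a b : P2 (Kc F)} (hg : GoodPair a b)
    (hT : H ≤ pairFix a b) (hne : H ≠ ⊥)
    (hex : (2 : F) = 0 → Nat.card H = 3 → ∃ ω : F, ω ^ 2 + ω + 1 = 0) : ¬ BinIn (psl F) H := by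
  haveI := finite_G2 (F := F)
  haveI := isCyclic_pairFix (F := F) hg.1
  haveI : IsCyclic H := isCyclic_of_injective (Subgroup.inclusion hT) (Subgroup.inclusion_injective hT)
  obtain ⟨⟨x, hxH⟩, hgen⟩ := IsCyclic.exists_generator (α := H)
  have hord : Nat.card H = orderOf x := by
    rw [← orderOf_eq_card_of_forall_mem_zpowers hgen]
    exact (Subgroup.orderOf_coe (⟨x, hxH⟩ : H)).symm
  have hx1 : x ≠ 1 := fun h => hne (Subgroup.card_eq_one.1 (by rw [hord, h, orderOf_one]))
  obtain ⟨X, rfl, hd⟩ := exists_lift_trace hg (hH hxH) (hT hxH) hx1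
  set t := (X : Matrix (Fin 2) (Fin 2) F).trace with ht
  obtain ⟨P, hP⟩ := exists_comp (t := t) rfl hd
  have hPe : pj (comp t) = (pj P)⁻¹ * pj X * pj P := by
    rw [← map_inv, ← map_mul, ← map_mul, mul_assoc, hP, inv_mul_cancel_left]
  have hmem : ∀ σ g, g ∈ H → σ * g * σ⁻¹ ∈ conjG σ H := fun σ g hg => mem_conjG.2 (by
    rwa [show σ⁻¹ * (σ * g * σ⁻¹) * σ = g by group])
  have key : ∀ (σ : G2 F) (t' : F), t' ^ 2 - 4 ≠ 0 → σ * pj X * σ⁻¹ = pj (comp t') → ((2 : F) = 0 → t' ≠ 1) →
      ¬ BinIn (psl F) H := fun σ t' hd' e h => not_bin_conjG σ (not_bin_comp (conjG_le_psl hH σ)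
        (fun h => hg.1 (MulAction.injective _ h)) (conjG_le_pairFix hT σ) hd' (e ▸ hmem σ _ hxH)
        (by rw [← e]; simpa [conj_eq_one_iff] using hx1) h)
  by_cases hbad : (2 : F) = 0 ∧ t = 1
  swap
  · exact key (pj P)⁻¹ t hd (by rw [hPe, inv_inv]) fun h2 h => hbad ⟨h2, h⟩
  obtain ⟨h2, ht1⟩ := hbad
  have h3 : Nat.card H = 3 := by
    rw [hord]
    exact orderOf_eq_prime (hp := ⟨Nat.prime_three⟩) (pj_cube_of_trace (by rw [← ht, ht1, one_pow])) hx1
  obtain ⟨ω, hω⟩ := hex h2 h3
  have hω0 : ω ≠ 0 := fun h => one_ne_zero (α := F) (by rw [h] at hω; simpa using hω)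
  set W : Matrix.SpecialLinearGroup (Fin 2) F := ⟨!![ω ^ 2, 0; 0, ω], by
    rw [Matrix.det_fin_two_of]; linear_combination (ω - 1) * hω⟩ with hW
  have htW : (W : Matrix (Fin 2) (Fin 2) F).trace = t := by
    rw [ht1]; simp [hW, Matrix.trace_fin_two]; linear_combination hω - h2
  obtain ⟨g, -, eg⟩ := pj_conj (A := X) (B := W) rfl (Or.inl htW) hd
  have eW : pj W = di (Units.mk0 ω hω0) := by
    refine mk_eq_of_smul ω⁻¹ (inv_ne_zero hω0) ?_
    ext i j
    fin_cases i <;> fin_cases j <;> simp [hW, Matrix.SpecialLinearGroup.toGL, hω0, sq]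
  refine not_bin_conjG g (not_bin_omega (conjG_le_psl hH g) (fun h => hg.1 (MulAction.injective _ h))
    (conjG_le_pairFix hT g) h2 (u := Units.mk0 ω hω0) hω ?_)
  rw [← eW, eg]
  exact hmem g _ hxH

end CfsgLib.Classical.PslBin
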