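import Cfsg.Agent.Lib.Classical.PslBin.Pairs

/-!
# Matrices inverted or centralised by symmetric involutions
-/

set_option autoImplicit false

namespace CfsgLib.Classical.PslBin

open Matrix
open CfsgLib.Perm.Dickson

variable {F : Type*} [Field F]

/-- The standard involution. -/
def s0m : Matrix.SpecialLinearGroup (Fin 2) F := ⟨!![0, 1; -1, 0], by simp [Matrix.det_fin_two]⟩

/-- A symmetric involution neither commutes with nor inverts a matrix off its axis. -/
theorem sym_not_inv (h2 : (2 : F) ≠ 0) {M Y : Matrix.SpecialLinearGroup (Fin 2) F} {p r τ A P Q : F}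
    (hM : (M : Matrix (Fin 2) (Fin 2) F) = !![p, r; r, -p]) (hpr : p ^ 2 + r ^ 2 ≠ 0)
    (hY : (Y : Matrix (Fin 2) (Fin 2) F) = !![τ + P, A + Q; -A + Q, τ - P]) (hτ : τ ≠ 0) (hA : A ≠ 0)
    (hPQ : p * P + r * Q ≠ 0) : pj M * pj Y ≠ pj Y * pj M ∧ pj M * pj Y ≠ (pj Y)⁻¹ * pj M := by
  have cancel : ∀ z : F, (2 : F) * z = 0 → z = 0 := fun z h => (mul_eq_zero.1 h).resolve_left h2
  have sq : ∀ c : F, c ≠ 0 → c * p = 0 → c * r = 0 → False := fun c hc hp hr => hpr (by
    rw [(mul_eq_zero.1 hp).resolve_left hc, (mul_eq_zero.1 hr).resolve_left hc]; ring)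
  constructor
  · intro h
    rw [pj_comm_iff, hM, hY] at h
    rcases h with e | e
    · have e00 := congrFun (congrFun e 0) 0
      have e01 := congrFun (congrFun e 0) 1
      have e10 := congrFun (congrFun e 1) 0
      simp [Matrix.mul_apply, Fin.sum_univ_two] at e00 e01 e10
      refine sq A hA ?_ (cancel _ ?_)
      · exact cancel _ (cancel _ (by linear_combination e01 + e10))
      · linear_combination -e00
    · have e00 := congrFun (congrFun e 0) 0
      have e11 := congrFun (congrFun e 1) 1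
      have e01 := congrFun (congrFun e 0) 1
      simp [Matrix.mul_apply, Fin.sum_univ_two] at e00 e11 e01
      exact sq τ hτ (cancel _ (cancel _ (by linear_combination e00 - e11))) (cancel _ (by linear_combination e01))
  · intro h
    rw [← map_inv, ← map_mul, ← map_mul, pj_eq_iff, sl_eq_iff, sl_eq_iff, SpecialLinearGroup.coe_neg, sl_mul, sl_mul,
      sl_inv, hM] at h
    rcases h with e | e
    · have e00 := congrFun (congrFun e 0) 0
      simp [hY, Matrix.mul_apply, Fin.sum_univ_two] at e00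
      exact hPQ (cancel _ (by linear_combination e00))
    · have e00 := congrFun (congrFun e 0) 0
      have e01 := congrFun (congrFun e 0) 1
      have e10 := congrFun (congrFun e 1) 0
      simp [hY, Matrix.mul_apply, Fin.sum_univ_two] at e00 e01 e10
      have k1 : p * τ - r * A = 0 := cancel _ (by linear_combination e00)
      have k2 : p * A + r * τ = 0 := cancel _ (cancel _ (by linear_combination e01 + e10))
      refine hpr ((mul_eq_zero.1 (show τ * (p ^ 2 + r ^ 2) = 0 by linear_combination p * k1 + r * k2)).resolve_left hτ)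

theorem s0_not_comm (h2 : (2 : F) ≠ 0) {Y : Matrix.SpecialLinearGroup (Fin 2) F} {τ A P Q : F}
    (hY : (Y : Matrix (Fin 2) (Fin 2) F) = !![τ + P, A + Q; -A + Q, τ - P]) (hτ : τ ≠ 0) (hPQ : P ≠ 0 ∨ Q ≠ 0) :
    pj s0m * pj Y ≠ pj Y * pj s0m := by
  intro h
  rw [pj_comm_iff, hY] at h
  have cancel : ∀ z : F, (2 : F) * z = 0 → z = 0 := fun z h => (mul_eq_zero.1 h).resolve_left h2
  rcases h with e | e <;>
    [skip; skip] <;>
    have e00 := congrFun (congrFun e 0) 0 <;>
    have e11 := congrFun (congrFun e 1) 1 <;>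
    have e01 := congrFun (congrFun e 0) 1 <;>
    have e10 := congrFun (congrFun e 1) 0 <;>
    simp [s0m, Matrix.mul_apply, Fin.sum_univ_two] at e00 e11 e01 e10
  · rcases hPQ with h | h
    · exact h (cancel _ (by linear_combination -e01))
    · exact h (cancel _ (by linear_combination e00))
  · exact hτ (cancel _ (cancel _ (by linear_combination e01 - e10)))

theorem rot_not_comm (h2 : (2 : F) ≠ 0) {X Y : Matrix.SpecialLinearGroup (Fin 2) F} {σ τ A P Q : F}
    (hX : (X : Matrix (Fin 2) (Fin 2) F) = !![σ, σ; -σ, σ]) (hσ : σ ≠ 0)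
    (hY : (Y : Matrix (Fin 2) (Fin 2) F) = !![τ + P, A + Q; -A + Q, τ - P]) (hPQ : P ≠ 0 ∨ Q ≠ 0) :
    pj X * pj Y ≠ pj Y * pj X := by
  intro h
  rw [pj_comm_iff, hX, hY] at h
  have cancel : ∀ z : F, (2 : F) * z = 0 → z = 0 := fun z h => (mul_eq_zero.1 h).resolve_left h2
  have cs : ∀ z : F, σ * z = 0 → z = 0 := fun z h => (mul_eq_zero.1 h).resolve_left hσ
  rcases h with e | e <;>
    [skip; skip] <;>
    have e00 := congrFun (congrFun e 0) 0 <;>
    have e11 := congrFun (congrFun e 1) 1 <;>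
    have e01 := congrFun (congrFun e 0) 1 <;>
    have e10 := congrFun (congrFun e 1) 0 <;>
    simp [Matrix.mul_apply, Fin.sum_univ_two] at e00 e11 e01 e10
  · rcases hPQ with h | h
    · exact h (cs _ (cancel _ (by linear_combination -e01)))
    · exact h (cs _ (cancel _ (by linear_combination e00)))
  · rcases hPQ with h | h
    · exact h (cs _ (cancel _ (cancel _ (by linear_combination e00 - e11))))
    · exact h (cs _ (cancel _ (cancel _ (by linear_combination e01 + e10))))

/-- A representation of a value by two non-zero squares. -/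
theorem exists_bc [Finite F] (h2 : (2 : F) ≠ 0) (h7 : 7 ≤ Nat.card F) {κ : F}
    (hκ : κ ≠ 0 ∨ IsSquare (-1 : F)) : ∃ b c : F, b ≠ 0 ∧ c ≠ 0 ∧ b ^ 2 + c ^ 2 = κ := by
  haveI := Fintype.ofFinite F
  by_cases h0 : κ = 0
  · obtain ⟨i, hi⟩ := hκ.resolve_left (not_not_intro h0)
    have hi0 : i ≠ 0 := fun h => one_ne_zero (α := F) (by rw [h] at hi; linear_combination -hi)
    exact ⟨i, 1, hi0, one_ne_zero, by rw [h0]; linear_combination -hi⟩
  obtain ⟨b0, c0, hbc⟩ := exists_sq_add h2 (one_ne_zero (α := F)) (one_ne_zero (α := F)) κ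
  rw [one_mul, one_mul] at hbc
  by_cases hb : b0 ≠ 0 ∧ c0 ≠ 0
  · exact ⟨b0, c0, hb.1, hb.2, hbc⟩
  obtain ⟨d, hd⟩ : ∃ d : F, d ^ 2 = κ := by
    rcases not_and_or.1 hb with h | h <;> rw [not_not] at h <;> rw [h] at hbc
    · exact ⟨c0, by linear_combination hbc⟩
    · exact ⟨b0, by linear_combination hbc⟩
  have hd0 : d ≠ 0 := fun h => h0 (by rw [← hd, h]; ring)
  obtain ⟨g, hg⟩ := IsCyclic.exists_generator (α := Fˣ)
  have hord : orderOf g = Nat.card F - 1 := by
    rw [orderOf_eq_card_of_forall_mem_zpowers hg, Nat.card_units]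
  set l : F := (g : F)
  have hl4 : l ^ 4 ≠ 1 := fun h => by
    have h' : g ^ 4 = 1 := Units.ext (by simpa using h)
    have := Nat.le_of_dvd (by norm_num) (orderOf_dvd_of_pow_eq_one h')
    omega
  have p1 : 1 + l ^ 2 ≠ 0 := fun h => hl4 (by linear_combination (l ^ 2 - 1) * h)
  have p2 : 1 - l ^ 2 ≠ 0 := fun h => hl4 (by linear_combination -(l ^ 2 + 1) * h)
  exact ⟨d * (1 - l ^ 2) / (1 + l ^ 2), d * (2 * l) / (1 + l ^ 2), div_ne_zero (mul_ne_zero hd0 p2) p1,
    div_ne_zero (mul_ne_zero hd0 (mul_ne_zero h2 g.ne_zero)) p1, by rw [← hd]; field_simp; ring⟩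

end CfsgLib.Classical.PslBin
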