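import Cfsg.Agent.Lib.Classical.PslBin.Witness
import Cfsg.Agent.Lib.Classical.PslBin.DihedralMat

/-!
# Dihedral subgroups
-/

set_option autoImplicit false

namespace CfsgLib.Classical.PslBin

open Matrix
open CfsgLib.Perm.Dickson

variable {F : Type*} [Field F] [Finite F]

theorem pj_s0_ne_one : pj (s0m : Matrix.SpecialLinearGroup (Fin 2) F) ≠ 1 := by
  intro h
  rcases pj_eq_one.1 h with e | e <;> rw [sl_eq_iff] at e <;>
    have := congrFun (congrFun e 0) 1 <;> simp [s0m, sl_one, sl_neg_one] at this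

/-- Involutions of `PSL` are conjugate to the standard one in `PGL`. -/
theorem invol_to_s0 {g : G2 F} (hg : g ∈ psl F) (h1 : g ≠ 1) (hsq : g * g = 1) :
    ∃ σ : G2 F, σ * g * σ⁻¹ = pj s0m := by
  obtain ⟨X, rfl⟩ := exists_lift hg
  by_cases h2 : (2 : F) = 0
  · have htr := trace_zero_of_sq h1 hsq
    rw [Matrix.trace_fin_two] at htr
    have hdet : X.1 0 0 * X.1 1 1 - X.1 0 1 * X.1 1 0 = 1 := by rw [← Matrix.det_fin_two]; exact X.2
    obtain ⟨x, y, hxy⟩ : ∃ x y : F, x * (X.1 1 0 * x + X.1 1 1 * y) - y * (X.1 0 0 * x + X.1 0 1 * y) ≠ 0 := by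
      by_contra hcon
      push Not at hcon
      have e1 := hcon 1 0
      have e2 := hcon 0 1
      simp at e1 e2
      apply h1
      refine mk_eq_one_of_scalar _ (X.1 0 0) ?_
      ext i j
      fin_cases i <;> fin_cases j <;> simp [Matrix.SpecialLinearGroup.toGL, e1, e2]
      linear_combination htr - X.1 0 0 * h2
    set P : Matrix (Fin 2) (Fin 2) F := !![x, X.1 0 0 * x + X.1 0 1 * y; y, X.1 1 0 * x + X.1 1 1 * y] with hP
    have hPd : P.det ≠ 0 := by
      rw [hP, det_fin_two]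
      simpa [mul_comm] using hxy
    refine ⟨(ProjGenLinGroup.mk (GeneralLinearGroup.mkOfDetNeZero P hPd))⁻¹, ?_⟩
    rw [inv_inv, mul_assoc, inv_mul_eq_iff_eq_mul]
    show ProjGenLinGroup.mk _ * ProjGenLinGroup.mk _ = ProjGenLinGroup.mk _ * ProjGenLinGroup.mk _
    rw [← map_mul, ← map_mul]
    refine mk_eq_of_smul 1 one_ne_zero ?_
    ext i j
    fin_cases i <;> fin_cases j <;>
      simp [hP, s0m, Matrix.SpecialLinearGroup.toGL, GeneralLinearGroup.mkOfDetNeZero, Matrix.mul_apply,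
        Fin.sum_univ_two]
    · linear_combination (X.1 0 0 * x + X.1 0 1 * y) * h2
    · linear_combination (-x) * hdet + (X.1 0 0 * x + X.1 0 1 * y) * htr - x * h2
    · linear_combination (X.1 1 0 * x + X.1 1 1 * y) * h2
    · linear_combination (-y) * hdet + (X.1 1 0 * x + X.1 1 1 * y) * htr - y * h2
  · obtain ⟨σ, hσ⟩ := involution_to_I h2 hg h1 hsq
    refine ⟨σ, hσ.trans ?_⟩
    refine mk_eq_of_smul (-1) (neg_ne_zero.2 one_ne_zero) ?_
    ext i j
    fin_cases i <;> fin_cases j <;>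
      simp [s0m, QPar.mI, Matrix.SpecialLinearGroup.toGL, GeneralLinearGroup.mkOfDetNeZero]

/-- In odd characteristic involutions of `PSL` are conjugate in `PSL`. -/
theorem invol_conj (h2 : (2 : F) ≠ 0) {r s : G2 F} (hr : r ∈ psl F) (hs : s ∈ psl F) (hr1 : r ≠ 1) (hs1 : s ≠ 1)
    (hr2 : r * r = 1) (hs2 : s * s = 1) : ∃ g ∈ psl F, g⁻¹ * r * g = s := by
  obtain ⟨R, rfl⟩ := exists_lift hr
  obtain ⟨S, rfl⟩ := exists_lift hs
  obtain ⟨g, hg, e⟩ := pj_conj (A := S) (B := R) (trace_zero_of_sq hs1 hs2) (Or.inl (trace_zero_of_sq hr1 hr2))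
    (fun h => h2 ((pow_eq_zero_iff two_ne_zero).1 (by linear_combination -h : (2 : F) ^ 2 = 0)))
  exact ⟨g, hg, by rw [e]; group⟩

/-- The four group inside the normaliser of a torus. -/
theorem not_bin_dihedral_four {H : Subgroup (G2 F)} (hH : H ≤ psl F) (h7 : 7 ≤ Nat.card F) {a b : P2 (Kc F)}
    (hg : GoodPair a b) (hT : H ≤ pairSet a b) (hexp : ∀ g ∈ H, g ∈ pairFix a b → g * g = 1) {s : G2 F}
    (hs : s ∈ H) (hsn : s ∉ pairFix a b) {j : G2 F} (hj : j ∈ H) (hjT : j ∈ pairFix a b) (hj1 : j ≠ 1) :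
    ¬ BinIn (psl F) H := by
  haveI := finite_G2 (F := F)
  obtain ⟨p, _⟩ := CharP.exists F
  haveI := Fact.mk ((CharP.char_is_prime_or_zero F p).resolve_right (CharP.char_ne_zero_of_finite F p))
  have hj2 := hexp j hj hjT
  have hord : orderOf j = 2 := orderOf_eq_prime (by rw [pow_two, hj2]) hj1
  have hp2 : p ≠ 2 := fun h => not_p_dvd_torus p hg (by
    have e := orderOf_dvd_natCard (⟨j, hjT⟩ : pairFix a b)
    rw [← Subgroup.orderOf_coe (⟨j, hjT⟩ : pairFix a b), hord] at e
    exact dvd_trans (dvd_of_eq h) e)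
  have ho : Odd (Nat.card F) := by
    obtain ⟨n, -, hn⟩ := card_eq_pow (F := F) p
    rw [hn]; exact ((Fact.out : p.Prime).odd_of_ne_two hp2).pow
  have h2 : (2 : F) ≠ 0 := two_ne_zero_of_odd ho
  haveI := isCyclic_pairFix (F := F) hg.1
  obtain ⟨⟨σ, hσT⟩, hgen⟩ := IsCyclic.exists_generator (α := pairFix a b)
  have hσord : orderOf σ = Nat.card (pairFix a b) :=
    (Subgroup.orderOf_coe (⟨σ, hσT⟩ : pairFix a b)).trans (orderOf_eq_card_of_forall_mem_zpowers hgen)
  have hT6 : 6 ≤ Nat.card (pairFix a b) := by rcases card_pairFix hg with ⟨-, h⟩ | ⟨-, h⟩ <;> omega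
  have hσn : σ ∉ psl F := fun hσ => by
    obtain ⟨w, hw, hwn⟩ := exists_not_mem_psl ho hg
    obtain ⟨k, hk⟩ := hgen ⟨w, hw⟩
    exact hwn (by
      have := congrArg Subtype.val hk
      simp only [SubgroupClass.coe_zpow] at this
      exact this ▸ (psl F).zpow_mem hσ k)
  have hσ4 : σ ^ 4 ≠ 1 := fun h => by
    have := Nat.le_of_dvd (by norm_num) (orderOf_dvd_of_pow_eq_one h); omega
  have hss := sq_of_swap hg.1 (hT hs) hsn
  have hs1 : s ≠ 1 := fun h => hsn (h ▸ (pairFix a b).one_mem)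
  set r := σ * s * σ⁻¹ with hr
  have hσs : s * σ⁻¹ = σ * s := by
    rw [inv_of_swap hg.1 (hT hs) hsn ((pairFix a b).inv_mem hσT), inv_inv]
  have hrn : r ∉ pairFix a b := fun h => hsn (by
    have := (pairFix a b).mul_mem ((pairFix a b).mul_mem ((pairFix a b).inv_mem hσT) h) hσT
    rwa [hr, show σ⁻¹ * (σ * s * σ⁻¹) * σ = s by group] at this)
  have hrS : r ∈ pairSet a b := (pairSet a b).mul_mem ((pairSet a b).mul_mem (pairFix_le_pairSet a b hσT) (hT hs))
    ((pairSet a b).inv_mem (pairFix_le_pairSet a b hσT))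
  have hrP : r ∈ psl F := (psl_normal F).conj_mem _ (hH hs) σ
  have hrH : r ∉ H := by
    intro h
    rw [hr, mul_assoc, hσs, ← mul_assoc] at h
    have h' := H.mul_mem h hs
    rw [mul_assoc (σ * σ), hss, mul_one] at h'
    have h'' := hexp _ h' ((pairFix a b).mul_mem hσT hσT)
    exact hσ4 (by rw [show (4 : ℕ) = 2 + 2 from rfl, pow_add, pow_two, h''])
  have hσj : σ * j = j * σ := pairFix_comm hg.1 hσT hjT
  have hσjj : σ⁻¹ * j * σ = j := by rw [mul_assoc, ← hσj, inv_mul_cancel_left]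
  have hcl : ∀ g ∈ H, g ≠ 1 → g * g = 1 := fun g hg' _ => by
    by_cases h : g ∈ pairFix a b
    · exact hexp g hg' h
    · exact sq_of_swap hg.1 (hT hg') h
  have off : ∀ t ∈ H, t ∉ pairFix a b → ∃ u ∈ psl F, u⁻¹ * (σ * t * σ⁻¹) * u ∈ H ∧ u⁻¹ * j * u ∉ H := by
    intro t ht htn
    have ht1 : t ≠ 1 := fun h => htn (h ▸ (pairFix a b).one_mem)
    have htt := sq_of_swap hg.1 (hT ht) htn
    obtain ⟨u, hu, he⟩ := invol_conj h2 ((psl_normal F).conj_mem _ (hH ht) σ) (hH ht)
      (fun h => ht1 (conj_eq_one_iff.1 h)) ht1 (by rw [conj_mul, htt, mul_one, mul_inv_cancel]) htt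
    by_cases hju : u⁻¹ * j * u ∈ H
    swap
    · exact ⟨u, hu, by rwa [he], hju⟩
    set k := u⁻¹ * j * u with hk
    have hk1 : k ≠ 1 := fun h => hj1 (by rw [show j = u * k * u⁻¹ by rw [hk]; group, h]; group)
    have hkt : k ≠ t := fun h => by
      have e : j = σ * t * σ⁻¹ := by
        rw [← he] at h
        exact mul_left_cancel (mul_right_cancel h)
      exact htn (by
        rw [show t = σ⁻¹ * j * σ by rw [e]; group, hσjj]; exact hjT)
    have four : ∀ g ∈ H, g = 1 ∨ g = j ∨ g ∉ pairFix a b := fun g hg' => by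
      by_cases h : g ∈ pairFix a b
      · by_cases h1 : g = 1
        · exact Or.inl h1
        · exact Or.inr (Or.inl (invol_unique hg.1 h hjT (hexp g hg' h) hj2 h1 hj1))
      · exact Or.inr (Or.inr h)
    have htk : ∀ g ∈ H, g = 1 ∨ g = t ∨ g = k ∨ g = t * k := by
      have key : ∀ g ∈ H, g = 1 ∨ g = j ∨ g = t ∨ g = t * j := fun g hg' => by
        rcases four g hg' with h | h | h
        · exact Or.inl h
        · exact Or.inr (Or.inl h)
        rcases four _ (H.mul_mem ht hg') with h' | h' | h'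
        · exact Or.inr (Or.inr (Or.inl (by rw [← mul_right_inj t, h', htt])))
        · exact Or.inr (Or.inr (Or.inr (by rw [← h', ← mul_assoc, htt, one_mul])))
        · exact absurd (mul_mem_of_swap (hT ht) htn (hT hg') h) h'
      intro g hg'
      rcases key k hju with h | h | h | h
      · exact absurd h hk1
      · rw [h]; exact (key g hg').imp_right fun h' => by tauto
      · exact absurd h hkt
      · rw [h, show t * (t * j) = j by rw [← mul_assoc, htt, one_mul]]
        exact (key g hg').imp_right fun h' => by tauto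
    by_cases hsq : IsSquare (2 : F)
    · exfalso
      obtain ⟨Q⟩ := exists_qpar h2
      have hc4 : Nat.card H = 4 := by
        have e : (H : Set (G2 F)) = {1, t, k, t * k} := Set.Subset.antisymm (fun g hg' => htk g hg')
          (by rintro g (rfl | rfl | rfl | rfl); exacts [H.one_mem, ht, hju, H.mul_mem ht hju])
        show Nat.card (H : Set (G2 F)) = 4
        rw [Nat.card_coe_set_eq, e, Set.ncard_insert_of_notMem, Set.ncard_insert_of_notMem, Set.ncard_pair]
        · intro h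
          exact ht1 (mul_eq_right.1 h.symm)
        · simp only [Set.mem_insert_iff, Set.mem_singleton_iff, not_or]
          exact ⟨hkt.symm, fun h => hk1 (mul_eq_left.1 h.symm)⟩
        · simp only [Set.mem_insert_iff, Set.mem_singleton_iff, not_or]
          exact ⟨ht1.symm, hk1.symm, fun h => hkt (by
            rw [← mul_right_inj t, ← h, htt])⟩
      obtain ⟨τ, hτ⟩ := Q.exists_conj_V hH hc4 (fun g hg' => by
        by_cases h : g = 1
        · rw [h, mul_one]
        · exact hcl g hg' h)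
      have hmem : u⁻¹ * σ ∈ Subgroup.normalizer (H : Set (G2 F)) := by
        rw [← conjG_fix_iff]
        refine Subgroup.eq_of_le_of_card_ge (fun g hg' => ?_) (by rw [card_conjG])
        obtain ⟨g', hg'', rfl⟩ := Subgroup.mem_map.1 hg'
        show u⁻¹ * σ * g' * (u⁻¹ * σ)⁻¹ ∈ H
        have kk : u⁻¹ * σ * j * (u⁻¹ * σ)⁻¹ = k := by
          rw [hk, show u⁻¹ * σ * j * (u⁻¹ * σ)⁻¹ = u⁻¹ * (σ * j) * σ⁻¹ * u by group, hσj]; group
        have tt : u⁻¹ * σ * t * (u⁻¹ * σ)⁻¹ = t := by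
          rw [show u⁻¹ * σ * t * (u⁻¹ * σ)⁻¹ = u⁻¹ * (σ * t * σ⁻¹) * u by group, he]
        rcases four g' hg'' with rfl | rfl | h
        · simp
        · rw [kk]; exact hju
        · have : g' = t ∨ g' = t * j := by
            rcases four _ (H.mul_mem ht hg'') with h' | h' | h'
            · exact Or.inl (by rw [← mul_right_inj t, h', htt])
            · exact Or.inr (by rw [← h', ← mul_assoc, htt, one_mul])
            · exact absurd (mul_mem_of_swap (hT ht) htn (hT hg'') h) h'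
          rcases this with rfl | rfl
          · rw [tt]; exact ht
          · rw [← conj_mul, tt, kk]; exact H.mul_mem ht hju
      have hN : τ * (u⁻¹ * σ) * τ⁻¹ ∈ psl F := QPar.N_inf_psl_of_sq Q hsq (by
        show _ ∈ Subgroup.normalizer (Q.V : Set (G2 F))
        rw [← hτ, ← conjG_normalizer, mem_conjG]
        rwa [show τ⁻¹ * (τ * (u⁻¹ * σ) * τ⁻¹) * τ = u⁻¹ * σ by group])
      have hN' : u⁻¹ * σ ∈ psl F := by simpa [mul_assoc] using (psl_normal F).conj_mem _ hN τ⁻¹
      exact hσn (by simpa using (psl F).mul_mem hu hN')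
    obtain ⟨a', b', hg', htT⟩ := exists_torus p ht1 (by rw [orderOf_eq_prime (by rw [pow_two, htt]) ht1]; exact hp2.symm)
    haveI := isCyclic_pairFix (F := F) hg'.1
    haveI : IsCyclic (pairFix a' b' ⊓ psl F : Subgroup (G2 F)) :=
      isCyclic_of_injective (Subgroup.inclusion inf_le_left) (Subgroup.inclusion_injective _)
    obtain ⟨⟨z, hzT, hzP⟩, hzgen⟩ := IsCyclic.exists_generator (α := (pairFix a' b' ⊓ psl F : Subgroup (G2 F)))
    have hzc : z * t = t * z := pairFix_comm hg'.1 hzT htT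
    refine ⟨u * z, (psl F).mul_mem hu hzP, ?_, fun hjz => ?_⟩
    · rw [show (u * z)⁻¹ * (σ * t * σ⁻¹) * (u * z) = z⁻¹ * (u⁻¹ * (σ * t * σ⁻¹) * u) * z by group, he, mul_assoc,
        ← hzc, inv_mul_cancel_left]
      exact ht
    rw [show (u * z)⁻¹ * j * (u * z) = z⁻¹ * k * z by rw [hk]; group] at hjz
    have zt : z⁻¹ * t * z = t := by rw [mul_assoc, ← hzc, inv_mul_cancel_left]
    have hkk : k * k = 1 := hcl k hju hk1
    have htk2 : t * k = k * t := by
      have h := hcl _ (H.mul_mem ht hju) (fun h => hkt (by rw [← mul_right_inj t, h, htt]))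
      calc t * k = t * k * (t * k * (t * k))⁻¹ := by rw [h, inv_one, mul_one]
        _ = k⁻¹ * t⁻¹ := by group
        _ = k * t := by rw [inv_eq_of_mul_eq_one_right hkk, inv_eq_of_mul_eq_one_right htt]
    have hzz : (z * z)⁻¹ * k * (z * z) = k := by
      rw [show (z * z)⁻¹ * k * (z * z) = z⁻¹ * (z⁻¹ * k * z) * z by group]
      rcases htk _ hjz with h | h | h | h
      · exact absurd (by rw [show k = z * (z⁻¹ * k * z) * z⁻¹ by group, h]; group) hk1
      · exact absurd (mul_left_cancel (mul_right_cancel (h.trans zt.symm))) hkt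
      · rw [h, h]
      · rw [h, show z⁻¹ * (t * k) * z = z⁻¹ * t * z * (z⁻¹ * k * z) by group, zt, h, ← mul_assoc, htt, one_mul]
    have kS : k ∈ pairSet a' b' := by
      have hfix : ∀ w, mapG (iF F) t • w = w → w = a' ∨ w = b' := fun w hw => by
        by_contra hcon
        push Not at hcon
        exact ht1 ((map_eq_one_iff _ (mapG_injective _)).1 (eq_one_of_three hg'.1 hcon.1.symm hcon.2.symm
          (mem_pairFix.1 htT).1 (mem_pairFix.1 htT).2 hw))
      have hk' : ∀ w, mapG (iF F) t • w = w → mapG (iF F) k • w = a' ∨ mapG (iF F) k • w = b' := fun w hw =>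
        hfix _ (by rw [← mul_smul, ← map_mul, htk2, map_mul, mul_smul, hw])
      rcases hk' _ (mem_pairFix.1 htT).1 with e1 | e1 <;> rcases hk' _ (mem_pairFix.1 htT).2 with e2 | e2
      · exact absurd (MulAction.injective _ (e1.trans e2.symm)) hg'.1
      · exact mem_pairSet.2 (Or.inl ⟨e1, e2⟩)
      · exact mem_pairSet.2 (Or.inr ⟨e1, e2⟩)
      · exact absurd (MulAction.injective _ (e1.trans e2.symm)) hg'.1
    have kn : k ∉ pairFix a' b' := fun h => hkt (invol_unique hg'.1 h htT hkk htt hk1 ht1)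
    have hz4 : z ^ 4 = 1 := by
      have h1 := inv_of_swap hg'.1 kS kn ((pairFix a' b').mul_mem hzT hzT)
      have h2' : k * (z * z) = z * z * k := by
        have := congrArg (z * z * ·) hzz
        simpa [mul_assoc] using this
      rw [h2'] at h1
      rw [show (4 : ℕ) = 2 + 2 from rfl, pow_add, pow_two]
      exact mul_eq_one_iff_eq_inv.2 (mul_right_cancel h1)
    have hm : orderOf z = Nat.card (pairFix a' b' ⊓ psl F : Subgroup (G2 F)) :=
      (Subgroup.orderOf_coe (⟨z, hzT, hzP⟩ : (pairFix a' b' ⊓ psl F : Subgroup (G2 F)))).trans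
        (orderOf_eq_card_of_forall_mem_zpowers hzgen)
    have hd : orderOf z ∣ 4 := orderOf_dvd_of_pow_eq_one hz4
    have hc := card_pairFix_psl hg'
    rw [gcd_odd ho, ← hm] at hc
    have hcases : Nat.card F = 7 ∨ Nat.card F = 9 := by
      obtain ⟨m, hm2⟩ := ho
      have := Nat.le_of_dvd (by norm_num) hd
      have h3 : orderOf z ≠ 3 := fun h => by rw [h] at hd; norm_num at hd
      rcases card_pairFix hg' with ⟨-, h⟩ | ⟨-, h⟩ <;> omega
    exact hsq (two_is_square_iff.2 (by rcases hcases with h | h <;> rw [h] <;> norm_num))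
  obtain ⟨u, hu, hb, hA⟩ := off s hs hsn
  obtain ⟨v, hv, hc, hB⟩ := off (s * j) (H.mul_mem hs hj)
    (fun h => hsn ((Subgroup.mul_mem_cancel_right _ hjT).1 h))
  refine not_bin_four hH hg.1 hT hexp hj hjT hj1 hrS hrn hrH hu hv hb ?_ hA hB
  have hri : r⁻¹ = r := inv_eq_of_mul_eq_one_right (sq_of_swap hg.1 hrS hrn)
  rwa [hri, hr, show σ * s * σ⁻¹ * j = σ * (s * j) * σ⁻¹ by
    rw [mul_assoc, show σ⁻¹ * j = j * σ⁻¹ from pairFix_comm hg.1 ((pairFix a b).inv_mem hσT) hjT]; group]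

/-- Order three inside a larger dihedral group in characteristic two. -/
theorem not_bin_dihedral_three {H : Subgroup (G2 F)} (hH : H ≤ psl F) (h2 : (2 : F) = 0) (h7 : 7 ≤ Nat.card F)
    {a b : P2 (Kc F)} (hg : GoodPair a b) (hT : H ≤ pairSet a b) (hs : pj s0m ∈ H) (hsn : pj s0m ∉ pairFix a b)
    (h6 : Nat.card (H ⊓ pairFix a b : Subgroup (G2 F)) = 3) : ¬ BinIn (psl F) H := by
  haveI := finite_G2 (F := F)
  haveI : CharP F 2 := CharTwo.of_one_ne_zero_of_two_eq_zero (one_ne_zero (α := F)) h2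
  haveI : Fact (Nat.Prime 2) := ⟨Nat.prime_two⟩
  have hpsl : ∀ g : G2 F, g ∈ psl F := fun g => by
    rw [psl_eq_top (by
      haveI := Fintype.ofFinite F
      rw [Nat.card_eq_fintype_card, Nat.even_iff]
      exact FiniteField.even_card_of_char_two (ringChar.eq F 2))]
    trivial
  have hinv : ∀ d ∈ pairFix a b, d * d = 1 → d = 1 := fun d hd h => by
    by_contra hne
    refine not_p_dvd_torus 2 hg ?_
    have e := orderOf_dvd_natCard (⟨d, hd⟩ : pairFix a b)
    rwa [orderOf_eq_prime (p := 2) (Subtype.ext (by simpa [pow_two] using h) : (⟨d, hd⟩ : pairFix a b) ^ 2 = 1)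
      (fun e => hne (congrArg Subtype.val e))] at e
  obtain ⟨x, ⟨hx, hxT⟩, hx1⟩ := (Subgroup.bot_or_exists_ne_one (H ⊓ pairFix a b)).resolve_left fun h => by
    rw [h, Subgroup.card_bot] at h6; omega
  obtain ⟨g, hgT, hgH⟩ := SetLike.not_le_iff_exists.1 (show ¬ pairFix a b ≤ H from fun h => by
    have e : H ⊓ pairFix a b = pairFix a b := inf_eq_right.2 h
    rw [e] at h6
    rcases card_pairFix hg with ⟨-, h'⟩ | ⟨-, h'⟩ <;> omega)
  set s := pj (s0m : Matrix.SpecialLinearGroup (Fin 2) F)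
  have hrn : g * s ∉ pairFix a b := fun h => hsn ((Subgroup.mul_mem_cancel_left _ hgT).1 h)
  have hrS : g * s ∈ pairSet a b := (pairSet a b).mul_mem (pairFix_le_pairSet a b hgT) (hT hs)
  have hrH : g * s ∉ H := fun h => hgH ((Subgroup.mul_mem_cancel_right _ hs).1 h)
  have hss : s * s = 1 := sq_of_swap hg.1 (hT hs) hsn
  obtain ⟨w, hw0, hw1⟩ : ∃ w : F, w ≠ 0 ∧ w ≠ 1 := by
    classical
    haveI := Fintype.ofFinite F
    obtain ⟨w, -, hw⟩ := Finset.exists_mem_notMem_of_card_lt_card (s := ({0, 1} : Finset F)) (t := Finset.univ) (by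
      rw [Finset.card_univ, ← Nat.card_eq_fintype_card]
      exact lt_of_le_of_lt (Finset.card_le_two) (by omega))
    simp only [Finset.mem_insert, Finset.mem_singleton, not_or] at hw
    exact ⟨w, hw.1, hw.2⟩
  set Z : Matrix.SpecialLinearGroup (Fin 2) F := ⟨!![1 + w, w; w, 1 + w], by
    rw [Matrix.det_fin_two_of]; linear_combination w * h2⟩ with hZ
  have hzs : pj Z * s = s * pj Z := by
    rw [pj_comm_iff]
    left
    ext i j
    fin_cases i <;> fin_cases j <;> simp [hZ, s0m, Matrix.mul_apply, Fin.sum_univ_two] <;>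
      first | ring1 | linear_combination w * h2 | linear_combination -w * h2 | linear_combination (1 + w) * h2 |
        linear_combination -(1 + w) * h2
  have hz2 : pj Z * pj Z = 1 := pj_sq_of_trace_zero (by simp [hZ, Matrix.trace_fin_two]; linear_combination (1 + w) * h2)
  have hzne : pj Z ∉ pairSet a b := by
    intro hzS
    by_cases hzT : pj Z ∈ pairFix a b
    · have := hinv _ hzT hz2
      rcases pj_eq_one.1 this with e | e <;> rw [sl_eq_iff] at e <;>
        have e01 := congrFun (congrFun e 0) 1 <;> simp [hZ, sl_one, sl_neg_one] at e01 <;> exact hw0 e01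
    · have h' := hinv _ (mul_mem_of_swap hzS hzT (hT hs) hsn) (by
        rw [mul_assoc, ← mul_assoc s, ← hzs, mul_assoc (pj Z) s s, hss, mul_one, hz2])
      rw [mul_eq_one_iff_eq_inv, inv_eq_of_mul_eq_one_right hss] at h'
      rcases pj_eq_iff.1 h' with e | e <;> rw [sl_eq_iff] at e
      · have e00 := congrFun (congrFun e 0) 0
        simp [hZ, s0m] at e00
        exact hw1 (by linear_combination e00 - h2)
      · rw [sl_neg] at e
        have e00 := congrFun (congrFun e 0) 0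
        simp [hZ, s0m] at e00
        exact hw1 (by linear_combination e00 - h2)
  have choose_u : ∀ r : G2 F, r ≠ 1 → r * r = 1 → ∃ u ∈ psl F, u⁻¹ * r * u ∈ H ∧
      pairFix (mapG (iF F) u • a) (mapG (iF F) u • b) ≠ pairFix a b := by
    intro r hr1 hr2
    obtain ⟨σ, hσ⟩ := invol_to_s0 (hpsl r) hr1 hr2
    have e1 : σ⁻¹⁻¹ * r * σ⁻¹ = s := by rw [inv_inv]; exact hσ
    by_cases hu : pairFix (mapG (iF F) σ⁻¹ • a) (mapG (iF F) σ⁻¹ • b) = pairFix a b
    swap
    · exact ⟨σ⁻¹, hpsl _, by rw [e1]; exact hs, hu⟩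
    refine ⟨σ⁻¹ * pj Z, hpsl _, ?_, fun h => hzne ?_⟩
    · rw [show (σ⁻¹ * pj Z)⁻¹ * r * (σ⁻¹ * pj Z) = (pj Z)⁻¹ * (σ⁻¹⁻¹ * r * σ⁻¹) * pj Z by group, e1, mul_assoc,
        ← hzs, inv_mul_cancel_left]
      exact hs
    have hxc : σ⁻¹ * x * σ⁻¹⁻¹ ∈ pairFix a b := by
      rw [← hu, ← mem_pairFix_conj, show σ⁻¹⁻¹ * (σ⁻¹ * x * σ⁻¹⁻¹) * σ⁻¹ = x by group]
      exact hxT
    rw [← h, map_mul, mul_smul, mul_smul, ← mem_pairFix_conj,
      show σ⁻¹⁻¹ * (σ⁻¹ * x * σ⁻¹⁻¹) * σ⁻¹ = x by group] at hxc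
    obtain ⟨hxa, hxb⟩ := mem_pairFix.1 hxT
    have land : ∀ c, mapG (iF F) x • c = c → c = a ∨ c = b := fun c hc => by
      by_contra hcon
      push Not at hcon
      exact hx1 ((map_eq_one_iff _ (mapG_injective _)).1 (eq_one_of_three hg.1 hcon.1.symm hcon.2.symm hxa hxb hc))
    obtain ⟨hza, hzb⟩ := mem_pairFix.1 hxc
    rcases land _ hza with e2 | e2 <;> rcases land _ hzb with e3 | e3
    · exact absurd (MulAction.injective _ (e2.trans e3.symm)) hg.1
    · exact mem_pairSet.2 (Or.inl ⟨e2, e3⟩)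
    · exact mem_pairSet.2 (Or.inr ⟨e2, e3⟩)
    · exact absurd (MulAction.injective _ (e2.trans e3.symm)) hg.1
  obtain ⟨u, hu, hb, hA⟩ := choose_u _ (fun h => hrH (by rw [h]; exact H.one_mem)) (sq_of_swap hg.1 hrS hrn)
  have h3 : (g * s)⁻¹ * x ∉ H := fun h => hrH (inv_mem_iff.1 ((Subgroup.mul_mem_cancel_right _ hx).1 h))
  obtain ⟨v, hv, hc, hB⟩ := choose_u ((g * s)⁻¹ * x) (fun h => h3 (by rw [h]; exact H.one_mem))
    (sq_of_swap hg.1 ((pairSet a b).mul_mem ((pairSet a b).inv_mem hrS) (pairFix_le_pairSet a b hxT))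
      fun h => hrn (inv_mem_iff.1 ((Subgroup.mul_mem_cancel_right _ hxT).1 h)))
  exact not_bin_reflections hH hg.1 hT hinv hx hxT hx1 hrS hrn hrH hu hv hb hc hA hB

/-- Dihedral subgroups, with the standard involution as a reflection. -/
theorem not_bin_dihedral_std {H : Subgroup (G2 F)} (hH : H ≤ psl F) (h4 : 4 ≤ Nat.card F) (h5 : Nat.card F ≠ 5)
    {a b : P2 (Kc F)} (hg : GoodPair a b) (hT : H ≤ pairSet a b) (hs : pj s0m ∈ H) (hsn : pj s0m ∉ pairFix a b)
    (hC : H ⊓ pairFix a b ≠ ⊥) : ¬ BinIn (psl F) H := by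
  haveI := finite_G2 (F := F)
  obtain ⟨p, _⟩ := CharP.exists F
  haveI := Fact.mk ((CharP.char_is_prime_or_zero F p).resolve_right (CharP.char_ne_zero_of_finite F p))
  have hodd7 : (2 : F) ≠ 0 → 7 ≤ Nat.card F := fun h2 => by
    obtain ⟨n, hn1, hn⟩ := card_eq_pow (F := F) p
    have hp : p ≠ 2 := fun h => h2 (by subst h; exact CharTwo.two_eq_zero)
    have ho : Odd (Nat.card F) := hn ▸ ((Fact.out : p.Prime).odd_of_ne_two hp).pow
    obtain ⟨m, hm⟩ := ho
    omega
  haveI := isCyclic_pairFix (F := F) hg.1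
  haveI : IsCyclic (H ⊓ pairFix a b : Subgroup (G2 F)) :=
    isCyclic_of_injective (Subgroup.inclusion inf_le_right) (Subgroup.inclusion_injective _)
  obtain ⟨⟨x, hx, hxT⟩, hgen⟩ := IsCyclic.exists_generator (α := (H ⊓ pairFix a b : Subgroup (G2 F)))
  have hord : orderOf x = Nat.card (H ⊓ pairFix a b : Subgroup (G2 F)) :=
    (Subgroup.orderOf_coe (⟨x, hx, hxT⟩ : (H ⊓ pairFix a b : Subgroup (G2 F)))).trans
      (orderOf_eq_card_of_forall_mem_zpowers hgen)
  have hx1 : x ≠ 1 := fun h => hC (Subgroup.card_eq_one.1 (by rw [← hord, h, orderOf_one]))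
  by_cases hx2 : x * x = 1
  · have h2 : (2 : F) ≠ 0 := fun h2 => by
      haveI : CharP F 2 := CharTwo.of_one_ne_zero_of_two_eq_zero (one_ne_zero (α := F)) h2
      obtain ⟨X, hX, hd⟩ := exists_lift_trace hg (hH hx) hxT hx1
      subst hX
      rw [trace_zero_of_sq hx1 hx2] at hd
      exact hd (by linear_combination (-2 : F) * h2)
    refine not_bin_dihedral_four hH (hodd7 h2) hg hT (fun g hgH hgT => ?_) hs hsn hx hxT hx1
    obtain ⟨k, hk⟩ := hgen ⟨g, hgH, hgT⟩
    have hk' : x ^ k = g := by simpa using congrArg Subtype.val hk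
    have e2 : (x ^ 2 : G2 F) = 1 := by rw [pow_two, hx2]
    rw [← hk', ← _root_.zpow_add, ← two_mul, _root_.zpow_mul, show x ^ (2 : ℤ) = 1 by exact_mod_cast e2, _root_.one_zpow]
  obtain ⟨X, rfl, hd⟩ := exists_lift_trace hg (hH hx) hxT hx1
  set t := (X : Matrix (Fin 2) (Fin 2) F).trace with ht
  have ht0 : t ≠ 0 := fun h => hx2 (pj_sq_of_trace_zero h)
  -- a factorisation of the reflection with both factors of trace `±t'`
  have run : ∀ (Y : Matrix.SpecialLinearGroup (Fin 2) F) (g1 g2 : G2 F) (T1 T2 : Matrix.SpecialLinearGroup (Fin 2) F),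
      pj T1 = g1 → pj T2 = g2 → g1 ∈ H → g1 ∈ pairFix a b → g2 ∈ H → g2 ∈ pairFix a b →
      (T1 : Matrix (Fin 2) (Fin 2) F).trace ^ 2 - 4 ≠ 0 → (T2 : Matrix (Fin 2) (Fin 2) F).trace ^ 2 - 4 ≠ 0 →
      (T1 : Matrix (Fin 2) (Fin 2) F).trace ≠ 0 → (T2 : Matrix (Fin 2) (Fin 2) F).trace ≠ 0 →
      (Y : Matrix (Fin 2) (Fin 2) F).trace = (T1 : Matrix (Fin 2) (Fin 2) F).trace →
      (Y : Matrix (Fin 2) (Fin 2) F) 0 1 - (Y : Matrix (Fin 2) (Fin 2) F) 1 0 =
        (T2 : Matrix (Fin 2) (Fin 2) F).trace →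
      pj s0m * pj Y ≠ pj Y * pj s0m →
      (∀ j ∈ H, j ∈ pairFix a b → j * j = 1 → j ≠ 1 → (j * pj Y ≠ pj Y * j ∧ j * pj Y ≠ (pj Y)⁻¹ * j) ∧
        (j * pj s0m * pj Y ≠ pj Y * (j * pj s0m) ∧ j * pj s0m * pj Y ≠ (pj Y)⁻¹ * (j * pj s0m))) →
      ¬ BinIn (psl F) H := by
    intro Y g1 g2 T1 T2 e1 e2 h1 h1T h2 h2T hd1 hd2 n1 n2 htY htZ0 hys hj
    have htZ : ((Y⁻¹ * s0m : Matrix.SpecialLinearGroup (Fin 2) F) : Matrix (Fin 2) (Fin 2) F).trace =
        (T2 : Matrix (Fin 2) (Fin 2) F).trace := by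
      rw [← htZ0, sl_mul, sl_inv]
      simp [s0m, Matrix.trace_fin_two, sub_eq_add_neg]
    obtain ⟨u, hu, eu⟩ := pj_conj rfl (Or.inl htY) hd1
    obtain ⟨v, hv, ev⟩ := pj_conj rfl (Or.inl htZ) hd2
    rw [map_mul, map_inv] at ev
    have eu' : u⁻¹ * pj Y * u = g1 := by rw [eu, e1]; group
    have ev' : v⁻¹ * ((pj Y)⁻¹ * pj s0m) * v = g2 := by rw [ev, e2]; group
    refine not_bin_swap_product hH hg.1 hT hs hsn hu hv (eu' ▸ h1) (eu' ▸ h1T) (ev' ▸ h2) (ev' ▸ h2T)
      (fun h => n1 ?_) (fun h => n2 ?_) hys hj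
    · rw [← htY]
      refine trace_zero_of_sq (fun hY => ?_) h
      rcases pj_eq_one.1 hY with e | e <;> rw [e] at htY <;>
        exact hd1 (by rw [← htY]; simp [sl_one, sl_neg_one, Matrix.trace_fin_two]; norm_num)
    · rw [← htZ]
      refine trace_zero_of_sq (fun hZ => ?_) (by rw [map_mul, map_inv]; exact h)
      rcases pj_eq_one.1 hZ with e | e <;> rw [e] at htZ <;>
        exact hd2 (by rw [← htZ]; simp [sl_one, sl_neg_one, Matrix.trace_fin_two]; norm_num)
  by_cases h2 : (2 : F) = 0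
  · haveI : CharP F 2 := CharTwo.of_one_ne_zero_of_two_eq_zero (one_ne_zero (α := F)) h2
    have noj : ∀ j ∈ H, j ∈ pairFix a b → j * j = 1 → j = 1 := fun j hjH hjT hj2 => by
      by_contra hj1
      obtain ⟨J, hJ, hJd⟩ := exists_lift_trace hg (hH hjH) hjT hj1
      subst hJ
      rw [trace_zero_of_sq hj1 hj2] at hJd
      exact hJd (by linear_combination (-2 : F) * h2)
    have scomm : ∀ Y : Matrix.SpecialLinearGroup (Fin 2) F, (Y : Matrix (Fin 2) (Fin 2) F).trace ≠ 0 →
        pj s0m * pj Y ≠ pj Y * pj s0m := by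
      intro Y hY h
      rw [pj_comm_iff] at h
      apply hY
      rcases h with e | e <;> have e01 := congrFun (congrFun e 0) 1 <;>
        simp [s0m, Matrix.mul_apply, Fin.sum_univ_two] at e01 <;> rw [Matrix.trace_fin_two] <;>
        first | linear_combination e01 + Y.1 0 0 * h2 | linear_combination e01
    by_cases ht1 : t = 1
    · have hcube : pj X ^ 3 = 1 := pj_cube_of_trace (by rw [← ht, ht1, one_pow])
      have h3 : Nat.card (H ⊓ pairFix a b : Subgroup (G2 F)) = 3 := by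
        rw [← hord]; exact orderOf_eq_prime (hp := ⟨Nat.prime_three⟩) hcube hx1
      by_cases hω : ∃ ω : F, ω ^ 2 + ω + 1 = 0
      · obtain ⟨ω, hω⟩ := hω
        refine run ⟨!![ω, 0; 1, ω ^ 2], by rw [Matrix.det_fin_two_of]; linear_combination (ω - 1) * hω⟩ _ _ X X rfl rfl
          hx hxT hx hxT hd hd ht0 ht0 ?_ ?_ (scomm _ ?_) (fun j a1 a2 a3 a4 => absurd (noj j a1 a2 a3) a4)
        · rw [← ht, ht1]; simp [Matrix.trace_fin_two]; linear_combination hω - h2
        · rw [← ht, ht1]; simp; linear_combination -h2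
        · rw [Matrix.trace_fin_two]
          simp
          intro h
          exact one_ne_zero (α := F) (by linear_combination hω - h)
      · refine not_bin_dihedral_three hH h2 ?_ hg hT hs hsn h3
        by_contra hlt
        obtain ⟨n, -, hn⟩ := card_eq_pow (F := F) 2
        have h4' : Nat.card F = 4 := by
          rcases n with - | - | - | n
          · omega
          · omega
          · omega
          · rw [pow_succ, pow_succ, pow_succ] at hn
            have := Nat.one_le_two_pow (n := n)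
            omega
        haveI := Fintype.ofFinite F
        obtain ⟨g, hgU⟩ := IsCyclic.exists_generator (α := Fˣ)
        have hg3 : orderOf g = 3 := by rw [orderOf_eq_card_of_forall_mem_zpowers hgU, Nat.card_units, h4']
        refine hω ⟨(g : F), ?_⟩
        have h3' : (g : F) ^ 3 = 1 := by rw [← Units.val_pow_eq_pow_val, ← hg3, pow_orderOf_eq_one, Units.val_one]
        have hne : (g : F) - 1 ≠ 0 := fun h => by
          rw [sub_eq_zero, Units.val_eq_one] at h
          rw [h, orderOf_one] at hg3; omega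
        exact (mul_eq_zero.1 (show ((g : F) - 1) * ((g : F) ^ 2 + (g : F) + 1) = 0 by
          linear_combination h3')).resolve_left hne
    · set t' := t ^ 2 with ht'
      have hsum : t + t' ≠ 0 := fun h => ht1 (by
        rcases mul_eq_zero.1 (show t * (t + 1) = 0 by linear_combination h) with h' | h'
        · exact absurd h' ht0
        · linear_combination h' - h2)
      have htX2 : ((X * X : Matrix.SpecialLinearGroup (Fin 2) F) : Matrix (Fin 2) (Fin 2) F).trace = t' := by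
        rw [sl_mul, sl_sq, ← ht, Matrix.trace_sub, Matrix.trace_smul, Matrix.trace_one, ← ht, Fintype.card_fin, ht']
        simp only [smul_eq_mul]
        linear_combination -h2
      refine run ⟨!![1 / (t + t'), 1 / (t + t'); 1 / (t + t') + t', t + 1 / (t + t')], by
        rw [Matrix.det_fin_two_of]; field_simp; linear_combination (-(t' ^ 2 + t' * t) : F) * h2⟩
        _ _ X (X * X) rfl (map_mul _ _ _) hx hxT (H.mul_mem hx hx) ((pairFix a b).mul_mem hxT hxT) hd ?_ ht0 ?_ ?_ ?_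
        (scomm _ ?_) (fun j a1 a2 a3 a4 => absurd (noj j a1 a2 a3) a4)
      · rw [htX2, ht']
        intro h
        exact ht0 (eq_zero_of_pow_eq_zero (n := 4) (by linear_combination h + (2 : F) * h2))
      · rw [htX2, ht']; exact pow_ne_zero 2 ht0
      · rw [← ht]; simp [Matrix.trace_fin_two]; linear_combination 1 / (t + t') * h2
      · rw [htX2]; simp; linear_combination -t' * h2
      · rw [Matrix.trace_fin_two]; simp
        intro h
        exact ht0 (by linear_combination h - 1 / (t + t') * h2)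
  have h7 := hodd7 h2
  by_cases hjex : ∃ j ∈ H, j ∈ pairFix a b ∧ j * j = 1 ∧ j ≠ 1
  swap
  · push Not at hjex
    have ht2 : t ^ 2 ≠ 2 := fun h => by
      have h4' := pj_four_of_trace (X := X) h
      rw [show (4 : ℕ) = 2 + 2 from rfl, pow_add, pow_two] at h4'
      exact hx2 (hjex _ (H.mul_mem hx hx) ((pairFix a b).mul_mem hxT hxT) h4')
    have hd' : (0 : F) ^ 2 - 4 * 1 * 1 ≠ 0 := fun h =>
      h2 ((pow_eq_zero_iff two_ne_zero).1 (by linear_combination -h : (2 : F) ^ 2 = 0))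
    obtain ⟨α, β, hc⟩ := conic hd' (-t) (-t) 1
    refine run ⟨!![α, β; β - t, t - α], by rw [Matrix.det_fin_two_of]; linear_combination -hc⟩ _ _ X X rfl rfl
      hx hxT hx hxT hd hd ht0 ht0 ?_ ?_ ?_ (fun j a1 a2 a3 a4 => absurd (hjex j a1 a2 a3) a4)
    · rw [← ht]; simp [Matrix.trace_fin_two]
    · rw [← ht]; simp
    · intro h
      rcases pj_comm_iff.1 h with e | e <;> have e00 := congrFun (congrFun e 0) 0 <;> have e01 := congrFun (congrFun e 0) 1 <;>
        simp [s0m, Matrix.mul_apply, Fin.sum_univ_two] at e00 e01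
      · refine ht2 (mul_left_cancel₀ h2 ?_)
        linear_combination (-4 : F) * hc + (t - 2 * α) * e01 + (2 * β - t) * e00
      · exact ht0 (by linear_combination e00)
  obtain ⟨j, hjH, hjT, hj2, hj1⟩ := hjex
  have hjs : j ≠ pj s0m := fun h => hsn (h ▸ hjT)
  have hsj : pj s0m * j = j * pj s0m := by
    rw [inv_of_swap hg.1 (hT hs) hsn hjT, inv_eq_of_mul_eq_one_right hj2]
  obtain ⟨M, rfl⟩ := exists_lift (hH hjH)
  have htM := trace_zero_of_sq hj1 hj2
  rw [Matrix.trace_fin_two] at htM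
  have hMd : M.1 0 0 * M.1 1 1 - M.1 0 1 * M.1 1 0 = 1 := by rw [← Matrix.det_fin_two]; exact M.2
  set pp := M.1 0 0 with hpp
  set rr := M.1 0 1 with hrr
  have hsymm : M.1 1 0 = rr := by
    rw [pj_comm_iff] at hsj
    rcases hsj with e | e <;> have e00 := congrFun (congrFun e 0) 0 <;> have e01 := congrFun (congrFun e 0) 1 <;>
      simp [s0m, Matrix.mul_apply, Fin.sum_univ_two] at e00 e01
    · exfalso
      have hp0 : pp = 0 := (mul_eq_zero.1 (show (2 : F) * pp = 0 by
        first | linear_combination htM - e01 | linear_combination htM + e01)).resolve_left h2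
      have h11 : M.1 1 1 = 0 := by linear_combination htM - hp0
      have hr1 : rr ^ 2 = 1 := by
        rw [hp0] at hMd
        first | linear_combination hMd + rr * e00 | linear_combination hMd - rr * e00
      apply hjs
      rw [pj_eq_iff, sl_eq_iff, sl_eq_iff, SpecialLinearGroup.coe_neg]
      rcases sq_eq_one_iff.1 hr1 with h | h
      · left
        ext i k
        fin_cases i <;> fin_cases k <;> simp [s0m, ← hpp, ← hrr, hp0, h11, h] <;>
          first | linear_combination e00 - h | linear_combination -e00 - h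
      · right
        ext i k
        fin_cases i <;> fin_cases k <;> simp [s0m, ← hpp, ← hrr, hp0, h11, h] <;>
          first | linear_combination e00 - h | linear_combination -e00 - h
    · first | linear_combination e00 | linear_combination -e00
  have hM : (M : Matrix (Fin 2) (Fin 2) F) = !![pp, rr; rr, -pp] := by
    ext i k
    fin_cases i <;> fin_cases k <;> simp [← hpp, ← hrr, hsymm]
    linear_combination htM
  have hMs : ((M * s0m : Matrix.SpecialLinearGroup (Fin 2) F) : Matrix (Fin 2) (Fin 2) F) = !![-rr, pp; pp, - -rr] := by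
    rw [sl_mul, hM]
    ext i k
    fin_cases i <;> fin_cases k <;> simp [s0m, Matrix.mul_apply, Fin.sum_univ_two]
  have hnorm : pp ^ 2 + rr ^ 2 = -1 := by rw [hsymm] at hMd; linear_combination -hMd + pp * htM
  have hn0 : pp ^ 2 + rr ^ 2 ≠ 0 := by rw [hnorm]; exact neg_ne_zero.2 one_ne_zero
  by_cases hgood : t ^ 2 ≠ 2 ∨ IsSquare (-1 : F)
  · have hhalf : t / 2 ≠ 0 := div_ne_zero ht0 h2
    obtain ⟨bb, cc, hb, hc, hbc⟩ := exists_bc h2 h7 (κ := 1 - t ^ 2 / 2) (hgood.imp_left fun h e => h (by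
      field_simp at e; linear_combination -e))
    have hbc' : 2 * (bb ^ 2 + cc ^ 2) = 2 - t ^ 2 := by rw [hbc]; field_simp
    set Y : Matrix.SpecialLinearGroup (Fin 2) F := ⟨!![t / 2 + (bb * pp + cc * rr), t / 2 + (bb * rr - cc * pp);
      -(t / 2) + (bb * rr - cc * pp), t / 2 - (bb * pp + cc * rr)], by
        rw [Matrix.det_fin_two_of]; field_simp
        linear_combination (-4 * (bb ^ 2 + cc ^ 2)) * hnorm + 2 * hbc'⟩ with hY
    have hY' : (Y : Matrix (Fin 2) (Fin 2) F) = !![t / 2 + (bb * pp + cc * rr), t / 2 + (bb * rr - cc * pp);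
      -(t / 2) + (bb * rr - cc * pp), t / 2 - (bb * pp + cc * rr)] := rfl
    refine run Y _ _ X X rfl rfl hx hxT hx hxT hd hd ht0 ht0 ?_ ?_ ?_ ?_
    · rw [← ht, hY']; simp [Matrix.trace_fin_two]; field_simp; ring
    · rw [← ht, hY']; simp; field_simp; ring
    · refine s0_not_comm h2 hY' hhalf ?_
      by_contra h
      push Not at h
      exact hb ((mul_eq_zero.1 (show bb * (pp ^ 2 + rr ^ 2) = 0 by
        linear_combination pp * h.1 + rr * h.2)).resolve_right hn0)
    · intro j hj hjT' hj2' hj1'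
      rw [invol_unique hg.1 hjT' hjT hj2' hj2 hj1' hj1, ← map_mul pj M s0m]
      refine ⟨sym_not_inv h2 hM hn0 hY' hhalf hhalf (fun h => hb ?_),
        sym_not_inv h2 (M := M * s0m) (p := -rr) (r := pp) hMs (by rwa [neg_sq, add_comm]) hY' hhalf hhalf
          (fun h => hc ?_)⟩
      · exact (mul_eq_zero.1 (show bb * (pp ^ 2 + rr ^ 2) = 0 by linear_combination h)).resolve_right hn0
      · exact (mul_eq_zero.1 (show cc * (pp ^ 2 + rr ^ 2) = 0 by linear_combination -h)).resolve_right hn0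
  push Not at hgood
  obtain ⟨ht2, hns⟩ := hgood
  obtain ⟨t', ht'cases, hρ⟩ : ∃ t', (t' = t ∨ t' = -t) ∧ ¬ IsSquare (-1 + t') := by
    by_contra hcon
    push Not at hcon
    obtain ⟨c1, e1⟩ := hcon t (Or.inl rfl)
    obtain ⟨c2, e2⟩ := hcon (-t) (Or.inr rfl)
    exact hns ⟨c1 * c2, by linear_combination ht2 + (-1 + -t) * e1 + c1 * c1 * e2⟩
  have ht'2 : t' ^ 2 = 2 := by rcases ht'cases with h | h <;> rw [h] <;> simp [ht2]
  set A := (t' - 1) / t with hA
  have hA0 : A ≠ 0 := div_ne_zero (fun h => one_ne_zero (α := F) (by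
    rw [sub_eq_zero.1 h] at ht'2; linear_combination -ht'2)) ht0
  obtain ⟨P, Q, hPQ⟩ := exists_sq_add h2 (one_ne_zero (α := F)) (one_ne_zero (α := F)) (1 - t')
  rw [one_mul, one_mul] at hPQ
  have hPQ0 : P ≠ 0 ∨ Q ≠ 0 := by
    by_contra h
    push Not at h
    exact hρ ⟨0, by rw [h.1, h.2] at hPQ; linear_combination hPQ⟩
  set X0 : Matrix.SpecialLinearGroup (Fin 2) F := ⟨!![t / 2, t / 2; -(t / 2), t / 2], by
    rw [Matrix.det_fin_two_of]; field_simp; linear_combination (2 : F) * ht2⟩ with hX0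
  have htX0 : (X0 : Matrix (Fin 2) (Fin 2) F).trace = t := by simp [hX0, Matrix.trace_fin_two]; field_simp; ring
  obtain ⟨w, -, ew⟩ := pj_conj (A := X) (B := X0) rfl (Or.inl htX0) hd
  set K := conjG w H with hK
  have hKle : K ≤ psl F := fun g hg' => by
    simpa [mul_assoc] using (psl_normal F).conj_mem _ (hH (mem_conjG.1 hg')) w
  have hKT : K ≤ pairSet (mapG (iF F) w • a) (mapG (iF F) w • b) := fun g hg' =>
    mem_pairSet_conj.1 (hT (mem_conjG.1 hg'))
  have hxK : pj X0 ∈ K := mem_conjG.2 (by rw [ew, show w⁻¹ * (w * pj X * w⁻¹) * w = pj X by group]; exact hx)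
  have hxKT : pj X0 ∈ pairFix (mapG (iF F) w • a) (mapG (iF F) w • b) := mem_pairFix_conj.1 (by
    rw [ew, show w⁻¹ * (w * pj X * w⁻¹) * w = pj X by group]; exact hxT)
  set Y : Matrix.SpecialLinearGroup (Fin 2) F := ⟨!![t / 2 + P, A + Q; -A + Q, t / 2 - P], by
    rw [Matrix.det_fin_two_of, hA]; field_simp
    linear_combination (t ^ 2 - 6 + 4 * t') * ht2 + 4 * ht'2 - 4 * t ^ 2 * hPQ⟩ with hY
  have hY' : (Y : Matrix (Fin 2) (Fin 2) F) = !![t / 2 + P, A + Q; -A + Q, t / 2 - P] := rfl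
  obtain ⟨u, hu, eu⟩ := pj_conj (B := Y) htX0 (Or.inl (by simp [hY', Matrix.trace_fin_two]; field_simp; ring)) hd
  obtain ⟨v, hv, ev⟩ := pj_conj (B := Y⁻¹ * X0) htX0 (by
    rw [sl_mul, sl_inv, hY', hX0]; simp [Matrix.trace_fin_two]
    have e : (t / 2 - P) * (t / 2) + (-A + -Q) * -(t / 2) + ((A - Q) * (t / 2) + (t / 2 + P) * (t / 2)) = t' := by
      rw [hA]; field_simp; linear_combination (2 : F) * ht2
    rcases ht'cases with h | h
    · left; linear_combination e + h
    · right; linear_combination e + h) hd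
  rw [map_mul, map_inv] at ev
  have eu' : u⁻¹ * pj Y * u = pj X0 := by rw [eu]; group
  have ev' : v⁻¹ * ((pj Y)⁻¹ * pj X0) * v = pj X0 := by rw [ev]; group
  refine not_bin_conjG w (not_bin_rot_product hKle (pair_ne hg.1 w) hKT hxK hxKT ?_ hu hv (eu'.symm ▸ hxK)
    (eu'.symm ▸ hxKT) (ev'.symm ▸ hxK) (ev'.symm ▸ hxKT) (rot_not_comm h2 (σ := t / 2) rfl (div_ne_zero ht0 h2) hY' hPQ0)
    ?_)
  · intro h
    refine hx2 ?_
    rw [ew, conj_mul, conj_eq_one_iff] at h
    exact h
  intro e he he1 he2 hex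
  obtain ⟨E, rfl⟩ := exists_lift he
  have htE := trace_zero_of_sq he1 he2
  rw [Matrix.trace_fin_two] at htE
  have hEd : E.1 0 0 * E.1 1 1 - E.1 0 1 * E.1 1 0 = 1 := by rw [← Matrix.det_fin_two]; exact E.2
  set p' := E.1 0 0 with hp'
  set r' := E.1 0 1 with hr'
  have hsE : E.1 1 0 = r' := by
    rw [← map_inv, ← map_mul, ← map_mul, pj_eq_iff, sl_eq_iff, sl_eq_iff, SpecialLinearGroup.coe_neg, sl_mul, sl_mul,
      sl_inv] at hex
    have hh := div_ne_zero ht0 h2
    have h11 : E.1 1 1 = -p' := by linear_combination htE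
    rcases hex with e | e <;> have e00 := congrFun (congrFun e 0) 0 <;> have e01 := congrFun (congrFun e 0) 1 <;>
      have e10 := congrFun (congrFun e 1) 0 <;> have e11 := congrFun (congrFun e 1) 1 <;>
      simp [hX0, Matrix.mul_apply, Matrix.vecMul, dotProduct, Fin.sum_univ_two, ← hp', ← hr', h11] at e00 e01 e10 e11
    · exact mul_left_cancel₀ hh (by linear_combination e00)
    · have k1 : r' = -p' := mul_left_cancel₀ (mul_ne_zero h2 hh) (by linear_combination e01)
      have k2 : E.1 1 0 = -p' := mul_left_cancel₀ (mul_ne_zero h2 hh) (by linear_combination e10)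
      rw [k1, k2]
  have hE : (E : Matrix (Fin 2) (Fin 2) F) = !![p', r'; r', -p'] := by
    ext i k
    fin_cases i <;> fin_cases k <;> simp [← hp', ← hr', hsE]
    linear_combination htE
  have hEn : p' ^ 2 + r' ^ 2 = -1 := by rw [hsE] at hEd; linear_combination -hEd + p' * htE
  refine sym_not_inv h2 hE (by rw [hEn]; exact neg_ne_zero.2 one_ne_zero) hY' (div_ne_zero ht0 h2) hA0 fun h =>
    hρ ⟨p' * Q - r' * P, ?_⟩
  linear_combination (p' * P + r' * Q) * h - (P ^ 2 + Q ^ 2) * hEn + hPQ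

/-- Dihedral subgroups. -/
theorem not_bin_dihedral {H : Subgroup (G2 F)} (hH : H ≤ psl F) (h4 : 4 ≤ Nat.card F) (h5 : Nat.card F ≠ 5)
    {a b : P2 (Kc F)} (hg : GoodPair a b) (hT : H ≤ pairSet a b) (hn : ¬ H ≤ pairFix a b)
    (hC : H ⊓ pairFix a b ≠ ⊥) : ¬ BinIn (psl F) H := by
  haveI := finite_G2 (F := F)
  obtain ⟨p, _⟩ := CharP.exists F
  haveI := Fact.mk ((CharP.char_is_prime_or_zero F p).resolve_right (CharP.char_ne_zero_of_finite F p))
  obtain ⟨s, hs, hsn⟩ := SetLike.not_le_iff_exists.1 hn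
  obtain ⟨σ, hσ⟩ := invol_to_s0 (hH hs) (fun h => hsn (h ▸ (pairFix a b).one_mem)) (sq_of_swap hg.1 (hT hs) hsn)
  obtain ⟨x, ⟨hx, hxT⟩, hx1⟩ := (Subgroup.bot_or_exists_ne_one (H ⊓ pairFix a b)).resolve_left hC
  have hcx : σ⁻¹ * (σ * x * σ⁻¹) * σ = x := by group
  have hcs : σ⁻¹ * (σ * s * σ⁻¹) * σ = s := by group
  have hgood : GoodPair (mapG (iF F) σ • a) (mapG (iF F) σ • b) := by
    have h := mem_pairFix.1 ((mem_pairFix_conj (u := σ) (g := σ * x * σ⁻¹)).1 (by rw [hcx]; exact hxT))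
    exact goodPair_of_fix p (fun h' => hx1 (conj_eq_one_iff.1 h')) (pair_ne hg.1 σ) h.1 h.2
  refine not_bin_conjG σ (not_bin_dihedral_std (fun g hg' => ?_) h4 h5 hgood
    (fun g hg' => mem_pairSet_conj.1 (hT (mem_conjG.1 hg'))) ?_ ?_ fun h => hx1 ?_)
  · simpa [mul_assoc] using (psl_normal F).conj_mem _ (hH (mem_conjG.1 hg')) σ
  · rw [← hσ, mem_conjG, hcs]; exact hs
  · rw [← hσ, ← mem_pairFix_conj, hcs]; exact hsn
  · have : σ * x * σ⁻¹ ∈ (⊥ : Subgroup (G2 F)) := h ▸
      ⟨mem_conjG.2 (by rw [hcx]; exact hx), mem_pairFix_conj.1 (by rw [hcx]; exact hxT)⟩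
    exact conj_eq_one_iff.1 (Subgroup.mem_bot.1 this)

end CfsgLib.Classical.PslBin
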