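import Cfsg.Agent.Lib.Classical.PslBin.Pairs

/-!
# Centralisers of elements of order three
-/

set_option autoImplicit false

namespace CfsgLib.Classical.PslBin

open Matrix
open CfsgLib.Perm.Dickson

theorem pow_cases {G : Type*} [Group G] {k z : G} (h3 : k * k * k = 1) (hz : z ∈ Subgroup.zpowers k) :
    z = 1 ∨ z = k ∨ z = k * k := by
  obtain ⟨i, rfl⟩ := hz
  have hp : k ^ (3 : ℤ) = 1 := by
    rw [show (3 : ℤ) = ((3 : ℕ) : ℤ) from rfl, zpow_natCast, pow_succ, pow_two, h3]
  have e : k ^ i = k ^ (i % 3) := by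
    conv_lhs => rw [← Int.emod_add_mul_ediv i 3, _root_.zpow_add, _root_.zpow_mul, hp, _root_.one_zpow, mul_one]
  have h1 := Int.emod_nonneg i (show (3 : ℤ) ≠ 0 by norm_num)
  have h2 := Int.emod_lt_of_pos i (show (0 : ℤ) < 3 by norm_num)
  show k ^ i = 1 ∨ k ^ i = k ∨ k ^ i = k * k
  rw [e]
  interval_cases h : i % 3
  · left; exact zpow_zero k
  · right; left; exact zpow_one k
  · right; right; exact zpow_two k

theorem inv_eq_sq {G : Type*} [Group G] {k : G} (h3 : k * k * k = 1) : k⁻¹ = k * k :=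
  inv_eq_of_mul_eq_one_left h3

theorem orderOf_three {G : Type*} [Group G] {k : G} (h3 : k * k * k = 1) (h1 : k ≠ 1) : orderOf k = 3 :=
  orderOf_eq_prime (hp := ⟨Nat.prime_three⟩) (by rw [pow_succ, pow_two, h3]) h1

/-- A group of order six with a given element of order three has an element inverting or centralising it. -/
theorem six_extra {G : Type*} [Group G] [Finite G] {K : Subgroup G} (h6 : Nat.card K = 6) {k : G} (hk : k ∈ K)
    (h3 : k * k * k = 1) (h1 : k ≠ 1) :
    ∃ y ∈ K, y * k = k⁻¹ * y ∨ (y * k = k * y ∧ y ≠ 1 ∧ y ≠ k ∧ y ≠ k * k) := by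
  set T := Subgroup.zpowers k with hT
  have hTK : T ≤ K := Subgroup.zpowers_le.2 hk
  have hTc : Nat.card T = 3 := by rw [hT, Nat.card_zpowers, orderOf_three h3 h1]
  have hidx : (T.subgroupOf K).index = 2 := by
    have h := (T.subgroupOf K).card_mul_index
    rw [Nat.card_congr (Subgroup.subgroupOfEquivOfLe hTK).toEquiv, hTc, h6] at h
    omega
  haveI := Subgroup.normal_of_index_eq_two hidx
  obtain ⟨y, hy, hyT⟩ := SetLike.not_le_iff_exists.1 (show ¬ K ≤ T from fun h => by
    have := Subgroup.card_le_of_le h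
    omega)
  refine ⟨y, hy, ?_⟩
  have hc : y * k * y⁻¹ ∈ T := by
    have := (inferInstance : (T.subgroupOf K).Normal).conj_mem ⟨k, hk⟩
      (Subgroup.mem_subgroupOf.2 (Subgroup.mem_zpowers k)) ⟨y, hy⟩
    simpa [Subgroup.mem_subgroupOf] using this
  rcases pow_cases h3 hc with h | h | h
  · exact absurd (conj_eq_one_iff.1 h) h1
  · refine Or.inr ⟨mul_inv_eq_iff_eq_mul.1 h, fun e => hyT (e ▸ T.one_mem), fun e => hyT (e ▸ Subgroup.mem_zpowers k),
      fun e => hyT (e ▸ T.mul_mem (Subgroup.mem_zpowers k) (Subgroup.mem_zpowers k))⟩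
  · exact Or.inl (by rw [inv_eq_sq h3]; exact mul_inv_eq_iff_eq_mul.1 h)

/-- An involution outside normalises: twice the order divides. -/
theorem two_mul_dvd {G : Type*} [Group G] [Finite G] {L P : Subgroup G} (hLP : L ≤ P) {g : G} (hg : g ∈ P)
    (hgL : g ∉ L) (hgg : g * g = 1) (hn : ∀ z ∈ L, g * z * g⁻¹ ∈ L) : 2 * Nat.card L ∣ Nat.card P := by
  set N := Subgroup.normalizer (L : Set G) ⊓ P with hN
  have hgN : g ∈ N := by
    refine ⟨Subgroup.mem_normalizer_iff.2 fun z => ⟨hn z, fun h => ?_⟩, hg⟩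
    have := hn _ h
    rwa [show g * (g * z * g⁻¹) * g⁻¹ = (g * g) * z * (g * g)⁻¹ by group, hgg, inv_one, mul_one, one_mul] at this
  have hLN : L ≤ N := le_inf Subgroup.le_normalizer hLP
  haveI : (L.subgroupOf N).Normal := ⟨fun z hz w => by
    rw [Subgroup.mem_subgroupOf] at hz ⊢
    exact (Subgroup.mem_normalizer_iff.1 w.2.1 _).1 hz⟩
  have hord : orderOf ((⟨g, hgN⟩ : ↥N) : ↥N ⧸ L.subgroupOf N) = 2 := by
    refine orderOf_eq_prime (hp := ⟨Nat.prime_two⟩) ?_ ?_
    · rw [pow_two, ← QuotientGroup.mk_mul]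
      refine (QuotientGroup.eq_one_iff _).2 ?_
      rw [Subgroup.mem_subgroupOf]
      show g * g ∈ L
      rw [hgg]; exact L.one_mem
    · exact fun h => hgL (Subgroup.mem_subgroupOf.1 ((QuotientGroup.eq_one_iff _).1 h))
  have h2 : 2 ∣ (L.subgroupOf N).index := hord ▸ orderOf_dvd_natCard _
  have h := (L.subgroupOf N).card_mul_index
  rw [Nat.card_congr (Subgroup.subgroupOfEquivOfLe hLN).toEquiv] at h
  refine dvd_trans ?_ (Subgroup.card_dvd_of_le (inf_le_right : N ≤ P))
  rw [mul_comm 2, ← h]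
  exact Nat.mul_dvd_mul_left _ h2

variable {F : Type*} [Field F] [Finite F]

/-- A convenient element centralising an element of order three. -/
theorem exists_cent (h2 : (2 : F) ≠ 0) (h7 : 7 ≤ Nat.card F) {k : G2 F} (hk : k ∈ psl F) (hk3 : k * k * k = 1)
    (hk1 : k ≠ 1) : ∃ g ∈ psl F, k * g = g * k ∧ (∀ s ∈ psl F, s * k = k⁻¹ * s → s * g = g⁻¹ * s) ∧
      (Nat.card F = 7 ∨ ((g ≠ 1 ∧ g ≠ k ∧ g ≠ k * k) ∧
        ((g * g ≠ 1 ∧ g * g ≠ k ∧ g * g ≠ k * k) ∨ ((Nat.card F = 11 ∨ Nat.card F = 13) ∧ g * g = 1)))) := by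
  haveI := finite_G2 (F := F)
  obtain ⟨p, _⟩ := CharP.exists F
  haveI := Fact.mk ((CharP.char_is_prime_or_zero F p).resolve_right (CharP.char_ne_zero_of_finite F p))
  have hord := orderOf_three hk3 hk1
  have hkk : k * k ≠ 1 := fun h => hk1 (by rwa [h, one_mul] at hk3)
  by_cases hp3 : p = 3
  · subst hp3
    obtain ⟨z, hz⟩ := exists_fixed_of_isAlgClosed (mapG (iF F) k)
    have hsing : ∀ y, mapG (iF F) k • y = y → y = z := by
      intro y hy
      by_contra hne
      refine not_p_dvd_torus 3 (goodPair_of_fix 3 hk1 (Ne.symm hne) hz hy) ?_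
      have e := orderOf_dvd_natCard (⟨k, mem_pairFix.2 ⟨hz, hy⟩⟩ : pairFix z y)
      rw [← Subgroup.orderOf_coe (⟨k, mem_pairFix.2 ⟨hz, hy⟩⟩ : pairFix z y), hord] at e
      exact e
    obtain ⟨z0, rfl⟩ := isRat_of_single 3 hz hsing
    have hz0 : k • z0 = z0 := (fix_map_iff k z0).1 hz
    have hsing0 : ∀ y, k • y = y → y = z0 := fun y hy => mapP_injective _ (hsing _ ((fix_map_iff k y).2 hy))
    obtain ⟨σ, hσ⟩ := exists_move_ip z0
    obtain ⟨e, u, he⟩ := exists_of_fix_ip (g := σ * k * σ⁻¹) (by rw [conj_smul_eq hσ, hz0, hσ])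
    have hfix : ∀ y : P2 F, (σ * k * σ⁻¹) • y = y → y = ip := fun y hy => by
      rw [mul_smul, mul_smul, ← eq_inv_smul_iff] at hy
      rw [← hσ, ← hsing0 _ hy, smul_inv_smul]
    obtain ⟨rfl, he0⟩ := (single_fix_iff e u).1 (by rw [← he]; exact hfix)
    rw [di_one, mul_one] at he
    classical
    haveI := Fintype.ofFinite F
    obtain ⟨d, -, hd⟩ := Finset.exists_mem_notMem_of_card_lt_card (s := ({0, e, -e} : Finset F)) (t := Finset.univ) (by
      rw [Finset.card_univ, ← Nat.card_eq_fintype_card]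
      exact lt_of_le_of_lt Finset.card_le_three (by omega))
    simp only [Finset.mem_insert, Finset.mem_singleton, not_or] at hd
    obtain ⟨hd0, hde, hdne⟩ := hd
    have h3' : (3 : F) = 0 := CharP.cast_eq_zero F 3
    have hke : k = σ⁻¹ * tr e * σ := by rw [← he]; group
    have cinj : ∀ {x y : F}, σ⁻¹ * tr x * σ = σ⁻¹ * tr y * σ → x = y := fun h =>
      tr_injective (mul_left_cancel (mul_right_cancel h))
    have cmul : ∀ x y : F, σ⁻¹ * tr x * σ * (σ⁻¹ * tr y * σ) = σ⁻¹ * tr (x + y) * σ := fun x y => by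
      rw [← tr_mul]; group
    have c0 : σ⁻¹ * tr (0 : F) * σ = 1 := by rw [tr_zero]; group
    refine ⟨σ⁻¹ * tr d * σ, ?_, ?_, ?_, Or.inr ⟨⟨?_, ?_, ?_⟩, Or.inl ⟨?_, ?_, ?_⟩⟩⟩
    · simpa using (psl_normal F).conj_mem _ (tr_mem_psl d) σ⁻¹
    · rw [hke, cmul, cmul, add_comm]
    · intro s _ hs
      have hsz : s • z0 = z0 := hsing0 _ (by
        have h' : k * s = s * k⁻¹ := by
          rw [eq_mul_inv_iff_mul_eq, mul_assoc, hs, mul_inv_cancel_left]
        rw [← mul_smul, h', mul_smul, inv_smul_eq_iff.2 hz0.symm])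
      obtain ⟨r, w, hw⟩ := exists_of_fix_ip (g := σ * s * σ⁻¹) (by rw [conj_smul_eq hσ, hsz, hσ])
      have hse : s = σ⁻¹ * (tr r * di w) * σ := by rw [← hw]; group
      rw [hke, hse, show (σ⁻¹ * tr e * σ)⁻¹ = σ⁻¹ * tr (-e) * σ by rw [← tr_inv]; group] at hs
      have key : tr r * di w * tr e = tr (-e) * (tr r * di w) := by
        have h' := congrArg (fun x => σ * x * σ⁻¹) hs
        simpa [mul_assoc] using h'
      have hwe : (w : F) = -1 := by
        have h' := congrArg (· • fp (0 : F)) key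
        simp only [mul_smul, tr_fp, di_fp, mul_zero, zero_add] at h'
        refine mul_right_cancel₀ he0 ?_
        linear_combination fp_inj h'
      have key' : tr r * di w * tr d = (tr d)⁻¹ * (tr r * di w) := by
        rw [tr_inv]
        apply ext_fp
        · simp [mul_smul, tr_ip, di_ip]
        · intro y; simp only [mul_smul, tr_fp, di_fp, hwe]; congr 1; ring
      rw [hse, show σ⁻¹ * (tr r * di w) * σ * (σ⁻¹ * tr d * σ) = σ⁻¹ * (tr r * di w * tr d) * σ by group, key']
      group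
    · exact fun h => hd0 (cinj (h.trans c0.symm))
    · exact fun h => hde (cinj (h.trans hke))
    · exact fun h => hdne ((cinj (h.trans (by rw [hke, cmul]))).trans (by linear_combination e * h3'))
    · rw [cmul]
      exact fun h => hd0 (by linear_combination d * h3' - cinj (h.trans c0.symm))
    · rw [cmul]
      exact fun h => hdne (by linear_combination d * h3' - cinj (h.trans hke))
    · rw [cmul]
      exact fun h => hde (by linear_combination (d - e) * h3' - cinj (h.trans (by rw [hke, cmul])))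
  obtain ⟨a, b, hg, hka⟩ := exists_torus p hk1 (hord ▸ Ne.symm hp3)
  have ho : Odd (Nat.card F) := by
    obtain ⟨n, -, hn⟩ := card_eq_pow (F := F) p
    rw [hn]
    exact ((Fact.out : p.Prime).odd_of_ne_two fun h => h2 (by subst h; exact CharTwo.two_eq_zero)).pow
  haveI := isCyclic_pairFix (F := F) hg.1
  haveI : IsCyclic (pairFix a b ⊓ psl F : Subgroup (G2 F)) :=
    isCyclic_of_injective (Subgroup.inclusion inf_le_left) (Subgroup.inclusion_injective _)
  obtain ⟨⟨g, hgT, hgP⟩, hgen⟩ := IsCyclic.exists_generator (α := (pairFix a b ⊓ psl F : Subgroup (G2 F)))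
  have hm : orderOf g = Nat.card (pairFix a b ⊓ psl F : Subgroup (G2 F)) :=
    (Subgroup.orderOf_coe (⟨g, hgT, hgP⟩ : (pairFix a b ⊓ psl F : Subgroup (G2 F)))).trans
      (orderOf_eq_card_of_forall_mem_zpowers hgen)
  have hinv : ∀ x ∈ pairFix a b, ∀ s ∈ psl F, s * k = k⁻¹ * s → s * x = x⁻¹ * s := by
    intro x hx s _ hs
    obtain ⟨hka1, hka2⟩ := mem_pairFix.1 hka
    have land : ∀ c, mapG (iF F) k • c = c → c = a ∨ c = b := fun c hc => by
      by_contra hcon
      push Not at hcon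
      exact hk1 ((map_eq_one_iff _ (mapG_injective _)).1 (eq_one_of_three hg.1 hcon.1.symm hcon.2.symm hka1 hka2 hc))
    have hs' : k * s = s * k⁻¹ := by rw [eq_mul_inv_iff_mul_eq, mul_assoc, hs, mul_inv_cancel_left]
    have mv : ∀ c, mapG (iF F) k • c = c → mapG (iF F) s • c = a ∨ mapG (iF F) s • c = b := fun c hc => land _ (by
      rw [← mul_smul, ← map_mul, hs', map_mul, mul_smul, map_inv, inv_smul_eq_iff.2 hc.symm])
    have hsS : s ∈ pairSet a b := by
      rcases mv a hka1 with e1 | e1 <;> rcases mv b hka2 with e2 | e2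
      · exact absurd (MulAction.injective _ (e1.trans e2.symm)) hg.1
      · exact mem_pairSet.2 (Or.inl ⟨e1, e2⟩)
      · exact mem_pairSet.2 (Or.inr ⟨e1, e2⟩)
      · exact absurd (MulAction.injective _ (e1.trans e2.symm)) hg.1
    refine inv_of_swap hg.1 hsS (fun h => hkk ?_) hx
    have := pairFix_comm hg.1 h hka
    rw [hs] at this
    have := mul_right_cancel this
    exact mul_eq_one_iff_eq_inv.2 this.symm
  have hc := card_pairFix_psl hg
  rw [gcd_odd ho, ← hm] at hc
  have hd3 : 3 ∣ orderOf g := by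
    rw [hm, ← hord]
    exact dvd_trans (dvd_of_eq (Subgroup.orderOf_coe (⟨k, hka, hk⟩ : (pairFix a b ⊓ psl F : Subgroup (G2 F)))))
      (orderOf_dvd_natCard _)
  have hq : Nat.card F - 1 = 2 * orderOf g ∨ Nat.card F + 1 = 2 * orderOf g := by
    rcases card_pairFix hg with ⟨-, h⟩ | ⟨-, h⟩ <;> omega
  by_cases hm3 : orderOf g = 3
  · exact ⟨1, (psl F).one_mem, by simp, fun s _ _ => by simp, Or.inl (by omega)⟩
  have small : ∀ n : ℕ, (g ^ n = 1 ∨ g ^ n = k ∨ g ^ n = k * k) → orderOf g ∣ 3 * n := fun n h => by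
    refine orderOf_dvd_of_pow_eq_one ?_
    rw [mul_comm, pow_mul]
    rcases h with h | h | h <;> rw [h, pow_succ, pow_two]
    · simp
    · exact hk3
    · rw [show k * k * (k * k) * (k * k) = k * k * k * (k * k * k) by group, hk3, one_mul]
  have hne1 : ¬ (g = 1 ∨ g = k ∨ g = k * k) := fun h => by
    have hd := small 1 (by simpa using h)
    rcases (Nat.dvd_prime Nat.prime_three).1 hd with h1 | h1 <;> omega
  push Not at hne1
  by_cases hsq : g * g = 1 ∨ g * g = k ∨ g * g = k * k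
  · have hd := small 2 (by rwa [pow_two])
    have h6 : orderOf g = 6 := by
      have hpos := orderOf_pos g
      have := Nat.le_of_dvd (by norm_num) hd
      obtain ⟨c, hc'⟩ := hd3
      have : orderOf g ∣ 6 := hd
      rcases c with - | - | - | c <;> omega
    have hg3 : g ^ 3 ≠ 1 := fun h => by
      have := Nat.le_of_dvd (by norm_num) (orderOf_dvd_of_pow_eq_one h); omega
    have hg6 : g ^ 6 = 1 := by rw [← h6, pow_orderOf_eq_one]
    have hT : g ^ 3 ∈ pairFix a b := (pairFix a b).pow_mem hgT 3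
    have hg33 : g ^ 3 * g ^ 3 = 1 := by rw [← pow_add, hg6]
    refine ⟨g ^ 3, (psl F).pow_mem hgP 3, pairFix_comm hg.1 hka hT, fun s a b => hinv _ hT s a b,
      Or.inr ⟨⟨hg3, fun h => hkk ?_, fun h => ?_⟩, Or.inr ⟨?_, hg33⟩⟩⟩
    · rw [← h, hg33]
    · rw [h, ← mul_assoc, hk3, one_mul] at hg33
      exact hk1 hg33
    · rcases hq with h | h <;> omega
  · push Not at hsq
    exact ⟨g, hgP, pairFix_comm hg.1 hka hgT, hinv _ hgT, Or.inr ⟨hne1, Or.inl hsq⟩⟩

end CfsgLib.Classical.PslBin
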