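import Cfsg.Agent.Lib.Classical.PslBin.A4Facts
import Cfsg.Agent.Lib.Classical.PslBin.Order3
import Cfsg.Agent.Lib.Perm.Dickson.ListExc

/-!
# Exceptional subgroups
-/

set_option autoImplicit false

namespace CfsgLib.Classical.PslBin

open Matrix
open CfsgLib.Perm.Dickson

theorem mem_mapConj {G : Type*} [Group G] {H : Subgroup G} {g z : G} :
    z ∈ H ⊓ H.map (MulAut.conj g).toMonoidHom ↔ z ∈ H ∧ g⁻¹ * z * g ∈ H := by
  rw [Subgroup.mem_inf, Subgroup.mem_map_equiv, MulAut.conj_symm_apply]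

theorem dvd_card_of_three {G : Type*} [Group G] [Finite G] {K : Subgroup G} {k : G} (hk : k ∈ K)
    (h3 : k * k * k = 1) (h1 : k ≠ 1) : 3 ∣ Nat.card K := by
  have h := orderOf_dvd_natCard (⟨k, hk⟩ : ↥K)
  rwa [← Subgroup.orderOf_coe (⟨k, hk⟩ : ↥K), orderOf_three h3 h1] at h

/-- No large proper subgroups of `A5`. -/
theorem a5_small {G : Type*} [Group G] [Finite G] {H K : Subgroup G} (e : H ≃* alternatingGroup (Fin 5))
    (hKH : K ≤ H) (hne : K ≠ H) : Nat.card K ≤ 12 := by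
  classical
  haveI := alternatingGroup.isSimpleGroup_five
  set L := (K.subgroupOf H).map e.toMonoidHom with hL
  have hLc : Nat.card L = Nat.card K := by
    rw [hL, ← Nat.card_congr ((K.subgroupOf H).equivMapOfInjective _ e.injective).toEquiv,
      Nat.card_congr (Subgroup.subgroupOfEquivOfLe hKH).toEquiv]
  have h60 : Nat.card (alternatingGroup (Fin 5)) = 60 := by rw [nat_card_alternatingGroup, Nat.card_fin]; rfl
  have hLt : L ≠ ⊤ := fun h => by
    rw [h, Subgroup.card_top, h60] at hLc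
    refine hne (Subgroup.eq_of_le_of_card_ge hKH ?_)
    rw [← hLc, Nat.card_congr e.toEquiv, h60]
  have hidx := L.card_mul_index
  rw [h60, hLc] at hidx
  by_contra hlt
  push Not at hlt
  have hi4 : L.index ≤ 4 := by nlinarith
  have hcore : L.normalCore = ⊥ :=
    (Subgroup.Normal.eq_bot_or_eq_top (Subgroup.normalCore_normal L)).resolve_right fun h =>
      hLt (top_le_iff.1 (h ▸ L.normalCore_le))
  have hinj : Function.Injective (MulAction.toPermHom (alternatingGroup (Fin 5)) (alternatingGroup (Fin 5) ⧸ L)) := by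
    rw [← MonoidHom.ker_eq_bot_iff, ← Subgroup.normalCore_eq_ker, hcore]
  have h := Nat.card_le_card_of_injective _ hinj
  rw [Nat.card_perm, h60] at h
  have := (Nat.factorial_le hi4).trans_eq (show (4 : ℕ).factorial = 24 from rfl)
  rw [show Nat.card (alternatingGroup (Fin 5) ⧸ L) = L.index from rfl] at h
  omega

variable {F : Type*} [Field F] [Finite F]

theorem card_psl_two (h2 : (2 : F) ≠ 0) : 2 * Nat.card (psl F) = Nat.card F * ((Nat.card F - 1) * (Nat.card F + 1)) := by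
  obtain ⟨p, _⟩ := CharP.exists F
  haveI := Fact.mk ((CharP.char_is_prime_or_zero F p).resolve_right (CharP.char_ne_zero_of_finite F p))
  obtain ⟨n, -, hn⟩ := card_eq_pow (F := F) p
  have ho : Odd (Nat.card F) := by
    rw [hn]
    exact ((Fact.out : p.Prime).odd_of_ne_two fun h => h2 (by subst h; exact CharTwo.two_eq_zero)).pow
  have h := card_psl F
  rwa [gcd_odd ho] at h

/-- The tetrahedral group. -/
theorem not_bin_a4 (h2 : (2 : F) ≠ 0) (h7 : 7 ≤ Nat.card F) (hq : Nat.card F ≠ 7) {H : Subgroup (G2 F)}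
    (hH : H ≤ psl F) (e : H ≃* alternatingGroup (Fin 4)) : ¬ BinIn (psl F) H := by
  haveI := finite_G2 (F := F)
  intro hbin
  obtain ⟨y, hy3, hy1⟩ := a4_has_three
  set k : G2 F := ((e.symm y : ↥H) : G2 F) with hk
  have hkH : k ∈ H := (e.symm y).2
  have hk3 : k * k * k = 1 := by
    have : (e.symm y : ↥H) * e.symm y * e.symm y = 1 := by rw [← map_mul, ← map_mul, hy3, map_one]
    exact congrArg Subtype.val this
  have hk1 : k ≠ 1 := fun h => hy1 (e.symm.map_eq_one_iff.1 (Subtype.ext h))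
  obtain ⟨g, hg, hcomm, -, hg'⟩ := exists_cent h2 h7 (hH hkH) hk3 hk1
  obtain ⟨⟨hg1, hgk, hgkk⟩, -⟩ := hg'.resolve_left hq
  have hsub := hbin.suborbit hH hg
  set K := H ⊓ H.map (MulAut.conj g).toMonoidHom with hK
  have hkK : k ∈ K := mem_mapConj.2 ⟨hkH, by rw [mul_assoc, hcomm, inv_mul_cancel_left]; exact hkH⟩
  have hKH : K ≤ H := inf_le_left
  have hH12 : Nat.card H = 12 := by rw [Nat.card_congr e.toEquiv, nat_card_alternatingGroup, Nat.card_fin]; rfl
  have hdvd : Nat.card K ∣ 12 := hH12 ▸ Subgroup.card_dvd_of_le hKH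
  have h3 := dvd_card_of_three hkK hk3 hk1
  have hne : Nat.card K ≠ 12 := fun h => by
    have hKH' : K = H := Subgroup.eq_of_le_of_card_ge hKH (by rw [h, hH12])
    rcases norm_cent_a4 h2 hH e hkH hk3 hk1 (g := g⁻¹)
        (by rw [eq_inv_mul_iff_mul_eq, ← mul_assoc, ← hcomm, mul_inv_cancel_right])
        (fun x hx => by
          rw [inv_inv]
          exact (mem_mapConj.1 (hK ▸ hKH'.symm ▸ hx : x ∈ H ⊓ H.map (MulAut.conj g).toMonoidHom)).2) with h' | h' | h'
    · exact hg1 (inv_eq_one.1 h')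
    · exact hgkk (by rw [← inv_inv g, h', inv_eq_sq hk3])
    · rw [← inv_eq_sq hk3] at h'; exact hgk (inv_injective h')
  have h6 : Nat.card K ≠ 6 := fun h => no_six_in_a4 ((K.subgroupOf H).map e.toMonoidHom) (by
    rw [← Nat.card_congr ((K.subgroupOf H).equivMapOfInjective _ e.injective).toEquiv,
      Nat.card_congr (Subgroup.subgroupOfEquivOfLe hKH).toEquiv, h])
  have hK3 : Nat.card K = 3 := by
    obtain ⟨n, hn⟩ : ∃ n, Nat.card K = n := ⟨_, rfl⟩
    rw [hn] at hdvd h3 hne h6 ⊢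
    have := Nat.le_of_dvd (by norm_num) hdvd
    interval_cases n <;> omega
  exact not_bin_a4_three e hKH hK3 hsub

/-- Octahedral and icosahedral groups away from the small fields. -/
theorem not_bin_inverted (h2 : (2 : F) ≠ 0) {H M : Subgroup (G2 F)} (hH : H ≤ psl F) (hMH : M ≤ H)
    (eM : M ≃* alternatingGroup (Fin 4)) {k g s : G2 F} (hk : k ∈ M) (hk3 : k * k * k = 1) (hk1 : k ≠ 1)
    (hg : g ∈ psl F) (hcomm : k * g = g * k) (hinv : ∀ s ∈ psl F, s * k = k⁻¹ * s → s * g = g⁻¹ * s)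
    (hg1 : g ≠ 1 ∧ g ≠ k ∧ g ≠ k * k) (hg2 : g * g ≠ 1 ∧ g * g ≠ k ∧ g * g ≠ k * k)
    (hcent : ∀ y ∈ H, y * k = k * y → y = 1 ∨ y = k ∨ y = k * k) (hs : s ∈ H) (hsk : s * k = k⁻¹ * s)
    (hbig : ∀ K ≤ H, k ∈ K → 3 ∣ Nat.card K → K ≠ H → Nat.card K ≠ 3 → Nat.card K ≠ 6 →
      (∀ z ∈ K, g⁻¹ * z * g ∈ H) → (∀ y ∈ K, y * k ≠ k⁻¹ * y) → ¬ BinIn H K) :
    ¬ BinIn (psl F) H := by
  haveI := finite_G2 (F := F)
  intro hbin
  have hsub := hbin.suborbit hH hg
  set K := H ⊓ H.map (MulAut.conj g).toMonoidHom with hK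
  have noinv : ∀ y ∈ K, y * k ≠ k⁻¹ * y := by
    intro y hy hyk
    obtain ⟨hyH, hyg⟩ := mem_mapConj.1 hy
    have hgy : g * y = y * g⁻¹ := by
      rw [eq_mul_inv_iff_mul_eq, mul_assoc, hinv y (hH hyH) hyk, mul_inv_cancel_left]
    have hgg : g * g ∈ H := by
      have h := H.mul_mem hyH (H.inv_mem hyg)
      rwa [show y * (g⁻¹ * y * g)⁻¹ = y * g⁻¹ * y⁻¹ * g by group, ← hgy, mul_inv_cancel_right] at h
    rcases hcent _ hgg (by rw [mul_assoc, ← hcomm, ← mul_assoc, ← hcomm, mul_assoc]) with h | h | h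
    exacts [hg2.1 h, hg2.2.1 h, hg2.2.2 h]
  have hkH := hMH hk
  have hkK : k ∈ K := mem_mapConj.2 ⟨hkH, by rw [mul_assoc, hcomm, inv_mul_cancel_left]; exact hkH⟩
  have hne : K ≠ H := fun h => noinv s (h ▸ hs) hsk
  by_cases h3 : Nat.card K = 3
  · have hKM : K ≤ M := by
      intro z hz
      have hgen : K = Subgroup.zpowers k := (Subgroup.eq_of_le_of_card_ge (Subgroup.zpowers_le.2 hkK)
        (by rw [Nat.card_zpowers, orderOf_three hk3 hk1, h3])).symm
      rw [hgen] at hz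
      exact Subgroup.zpowers_le.2 hk hz
    exact not_bin_a4_three eM hKM h3 (hsub.overgroup hKM hMH)
  refine hbig K inf_le_left hkK (dvd_card_of_three hkK hk3 hk1) hne h3 (fun h6 => ?_)
    (fun z hz => (mem_mapConj.1 hz).2) noinv hsub
  obtain ⟨y, hy, h | ⟨h, a, b, c⟩⟩ := six_extra h6 hkK hk3 hk1
  · exact noinv y hy h
  · rcases hcent y (mem_mapConj.1 hy).1 h with h' | h' | h'
    exacts [a h', b h', c h']

/-- The octahedral group. -/
theorem not_bin_s4 (h2 : (2 : F) ≠ 0) (h7 : 7 ≤ Nat.card F) (hq : Nat.card F ≠ 7) {H : Subgroup (G2 F)}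
    (hH : H ≤ psl F) (e : H ≃* Equiv.Perm (Fin 4)) : ¬ BinIn (psl F) H := by
  haveI := finite_G2 (F := F)
  let f : alternatingGroup (Fin 4) →* G2 F :=
    H.subtype.comp (e.symm.toMonoidHom.comp (alternatingGroup (Fin 4)).subtype)
  have hf : Function.Injective f := fun a b h => Subtype.ext (e.symm.injective (Subtype.ext h))
  set M := f.range with hM
  have eM : M ≃* alternatingGroup (Fin 4) := (MonoidHom.ofInjective hf).symm
  have hMH : M ≤ H := by rintro _ ⟨x, rfl⟩; exact SetLike.coe_mem _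
  obtain ⟨y, hy3, hy1⟩ := a4_has_three
  set k := f y with hk
  have hk3 : k * k * k = 1 := by rw [hk, ← map_mul, ← map_mul, hy3, map_one]
  have hk1 : k ≠ 1 := fun h => hy1 (hf (h.trans (map_one f).symm))
  have hkM : k ∈ M := ⟨y, rfl⟩
  have hek : e ⟨k, hMH hkM⟩ = (y : Equiv.Perm (Fin 4)) := by
    rw [show (⟨k, hMH hkM⟩ : ↥H) = e.symm (y : Equiv.Perm (Fin 4)) from Subtype.ext rfl, e.apply_symm_apply]
  obtain ⟨g, hg, hcomm, hinv, hg'⟩ := exists_cent h2 h7 (hH (hMH hkM)) hk3 hk1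
  obtain ⟨hg1, hg2⟩ := hg'.resolve_left hq
  have hg2' : g * g ≠ 1 ∧ g * g ≠ k ∧ g * g ≠ k * k := by
    rcases hg2 with h | ⟨h11, -⟩
    · exact h
    · exfalso
      have hd := Subgroup.card_dvd_of_le hH
      have hc := card_psl_two h2
      rw [Nat.card_congr e.toEquiv, Nat.card_perm, Nat.card_fin] at hd
      obtain ⟨P, hP⟩ : ∃ P, Nat.card (psl F) = P := ⟨_, rfl⟩
      rw [hP] at hd hc
      rcases h11 with h | h <;> rw [h] at hc <;> norm_num [Nat.factorial] at hc hd <;> omega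
  obtain ⟨s', hs', hsg⟩ := s4_inv_three (y : Equiv.Perm (Fin 4)) (congrArg Subtype.val hy3)
  set s : G2 F := ((e.symm s' : ↥H) : G2 F) with hs
  have hsk : s * k = k⁻¹ * s := by
    have h : e.symm s' * ⟨k, hMH hkM⟩ = (⟨k, hMH hkM⟩ : ↥H)⁻¹ * e.symm s' := by
      apply e.injective
      rw [map_mul, map_mul, map_inv, e.apply_symm_apply, hek]
      exact mul_inv_eq_iff_eq_mul.1 hs'
    exact congrArg Subtype.val h
  refine not_bin_inverted h2 hH hMH eM hkM hk3 hk1 hg hcomm hinv hg1 hg2' (fun z hz h => ?_) (e.symm s').2 hsk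
    fun K hKH hkK h3 hne n3 n6 hgK hno _ => ?_
  · have h' : e ⟨k, hMH hkM⟩ * e ⟨z, hz⟩ = e ⟨z, hz⟩ * e ⟨k, hMH hkM⟩ := by
      rw [← map_mul, ← map_mul]; exact congrArg e (Subtype.ext h.symm)
    rw [hek] at h'
    rcases s4_cent_three _ _ (congrArg Subtype.val hy3) (fun e' => hy1 (Subtype.ext e')) h' with h'' | h'' | h''
    · exact Or.inl (congrArg Subtype.val (e.map_eq_one_iff.1 h''))
    · rw [← hek] at h''; exact Or.inr (Or.inl (congrArg Subtype.val (e.injective h'')))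
    · rw [← hek, ← map_mul] at h''; exact Or.inr (Or.inr (congrArg Subtype.val (e.injective h'')))
  have h24 : Nat.card H = 24 := by rw [Nat.card_congr e.toEquiv, Nat.card_perm, Nat.card_fin]; rfl
  have hd : Nat.card K ∣ 24 := h24 ▸ Subgroup.card_dvd_of_le hKH
  have h12 : Nat.card K = 12 := by
    have h24' : Nat.card K ≠ 24 := fun h => hne (Subgroup.eq_of_le_of_card_ge hKH (by rw [h, h24]))
    obtain ⟨n, hn⟩ : ∃ n, Nat.card K = n := ⟨_, rfl⟩
    rw [hn] at hd h3 h24' n3 n6 ⊢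
    have := Nat.le_of_dvd (by norm_num) hd
    interval_cases n <;> omega
  have idx : ∀ L : Subgroup (G2 F), L ≤ H → Nat.card L = 12 → L = M := by
    intro L hL hLc
    have h : (L.subgroupOf H).map e.toMonoidHom = alternatingGroup (Fin 4) := by
      refine Equiv.Perm.eq_alternatingGroup_of_index_eq_two ?_
      have hh := ((L.subgroupOf H).map e.toMonoidHom).card_mul_index
      rw [← Nat.card_congr ((L.subgroupOf H).equivMapOfInjective _ e.injective).toEquiv,
        Nat.card_congr (Subgroup.subgroupOfEquivOfLe hL).toEquiv, hLc, Nat.card_perm, Nat.card_fin,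
        show (4 : ℕ).factorial = 24 from rfl] at hh
      omega
    ext z
    constructor
    · intro hz
      have hz' : e ⟨z, hL hz⟩ ∈ alternatingGroup (Fin 4) := by
        rw [← h]; exact ⟨⟨z, hL hz⟩, Subgroup.mem_subgroupOf.2 hz, rfl⟩
      refine ⟨⟨_, hz'⟩, ?_⟩
      show ((e.symm (e ⟨z, hL hz⟩) : ↥H) : G2 F) = z
      rw [e.symm_apply_apply]
    · rintro ⟨x, rfl⟩
      obtain ⟨w, hw, hwx⟩ : (x : Equiv.Perm (Fin 4)) ∈ (L.subgroupOf H).map e.toMonoidHom := by
        rw [h]; exact x.2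
      have : f x = (w : G2 F) := by
        show ((e.symm (x : Equiv.Perm (Fin 4)) : ↥H) : G2 F) = _
        rw [← hwx]; simp
      rw [this]
      exact hw
  have hKM : K = M := idx K hKH h12
  have hMM : ∀ x ∈ M, g⁻¹ * x * g ∈ M := by
    intro x hx
    have h' : K.map (MulAut.conj g⁻¹).toMonoidHom = M := by
      refine idx _ (fun z hz => ?_) (by
        rw [← Nat.card_congr (K.equivMapOfInjective _ (MulAut.conj g⁻¹).injective).toEquiv, h12])
      rw [Subgroup.mem_map_equiv, MulAut.conj_symm_apply, inv_inv] at hz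
      have := hgK _ hz
      rwa [show g⁻¹ * (g * z * g⁻¹) * g = z by group] at this
    rw [← h', Subgroup.mem_map_equiv, MulAut.conj_symm_apply, inv_inv, hKM]
    rwa [show g * (g⁻¹ * x * g) * g⁻¹ = x by group]
  rcases norm_cent_a4 h2 (hMH.trans hH) eM hkM hk3 hk1 (g := g⁻¹)
      (by rw [eq_inv_mul_iff_mul_eq, ← mul_assoc, ← hcomm, mul_inv_cancel_right])
      (fun x hx => by rw [inv_inv]; exact hMM x hx) with h' | h' | h'
  · exact hg1.1 (inv_eq_one.1 h')
  · exact hg1.2.2 (by rw [← inv_inv g, h', inv_eq_sq hk3])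
  · rw [← inv_eq_sq hk3] at h'; exact hg1.2.1 (inv_injective h')

/-- The icosahedral group. -/
theorem not_bin_a5 (h2 : (2 : F) ≠ 0) (h7 : 7 ≤ Nat.card F) {H : Subgroup (G2 F)}
    (hH : H ≤ psl F) (e : H ≃* alternatingGroup (Fin 5)) : ¬ BinIn (psl F) H := by
  haveI := finite_G2 (F := F)
  have h60 : Nat.card H = 60 := by rw [Nat.card_congr e.toEquiv, nat_card_alternatingGroup, Nat.card_fin]; rfl
  have hd := Subgroup.card_dvd_of_le hH
  rw [h60] at hd
  have hcp := card_psl_two h2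
  obtain ⟨P, hP⟩ : ∃ P, Nat.card (psl F) = P := ⟨_, rfl⟩
  rw [hP] at hd hcp
  have hq7 : Nat.card F ≠ 7 := fun h => by rw [h] at hcp; norm_num at hcp; omega
  obtain ⟨φ, hφ⟩ := exists_a4_to_a5
  let f : alternatingGroup (Fin 4) →* G2 F := H.subtype.comp (e.symm.toMonoidHom.comp φ)
  have hf : Function.Injective f := fun a b h => hφ (e.symm.injective (Subtype.ext h))
  set M := f.range with hM
  have eM : M ≃* alternatingGroup (Fin 4) := (MonoidHom.ofInjective hf).symm
  have hMH : M ≤ H := by rintro _ ⟨x, rfl⟩; exact SetLike.coe_mem _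
  obtain ⟨y, hy3, hy1⟩ := a4_has_three
  set k := f y with hk
  have hk3 : k * k * k = 1 := by rw [hk, ← map_mul, ← map_mul, hy3, map_one]
  have hk1 : k ≠ 1 := fun h => hy1 (hf (h.trans (map_one f).symm))
  have hkM : k ∈ M := ⟨y, rfl⟩
  have hkH := hMH hkM
  obtain ⟨g, hg, hcomm, hinv, hg'⟩ := exists_cent h2 h7 (hH hkH) hk3 hk1
  obtain ⟨hg1, hg2⟩ := hg'.resolve_left hq7
  have hy3' : φ y * φ y * φ y = 1 := by rw [← map_mul, ← map_mul, hy3, map_one]
  obtain ⟨s', hs', hs1, hs2⟩ := a5_inv_three (φ y) hy3'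
  set s : G2 F := ((e.symm s' : ↥H) : G2 F) with hs
  have hsk : s * k = k⁻¹ * s := by
    have h : e.symm s' * ⟨k, hkH⟩ = (⟨k, hkH⟩ : ↥H)⁻¹ * e.symm s' := by
      apply e.injective
      rw [map_mul, map_mul, map_inv, e.apply_symm_apply,
        show (⟨k, hkH⟩ : ↥H) = e.symm (φ y) from Subtype.ext rfl, e.apply_symm_apply]
      exact mul_inv_eq_iff_eq_mul.1 hs'
    exact congrArg Subtype.val h
  have hss : s * s = 1 := by
    have : e.symm s' * e.symm s' = 1 := by rw [← map_mul, hs2, map_one]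
    exact congrArg Subtype.val this
  have hs1' : s ≠ 1 := fun h => hs1 (e.symm.map_eq_one_iff.1 (Subtype.ext h))
  have hsk' : s * k ≠ k * s := fun h => by
    rw [hsk] at h
    have h' : k * k = 1 := mul_eq_one_iff_eq_inv.2 (mul_right_cancel h).symm
    exact hk1 (by rwa [h', one_mul] at hk3)
  have hcent : ∀ z ∈ H, z * k = k * z → z = 1 ∨ z = k ∨ z = k * k := by
    intro z hz h
    have hek : e ⟨k, hkH⟩ = φ y := by
      rw [show (⟨k, hkH⟩ : ↥H) = e.symm (φ y) from Subtype.ext rfl, e.apply_symm_apply]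
    have h' : e ⟨k, hkH⟩ * e ⟨z, hz⟩ = e ⟨z, hz⟩ * e ⟨k, hkH⟩ := by
      rw [← map_mul, ← map_mul]; exact congrArg e (Subtype.ext h.symm)
    rw [hek] at h'
    rcases a5_cent_three _ _ hy3' (fun e' => hy1 (hφ (e'.trans (map_one φ).symm))) h' with h'' | h'' | h''
    · exact Or.inl (congrArg Subtype.val (e.map_eq_one_iff.1 h''))
    · rw [← hek] at h''; exact Or.inr (Or.inl (congrArg Subtype.val (e.injective h'')))
    · rw [← hek, ← map_mul] at h''; exact Or.inr (Or.inr (congrArg Subtype.val (e.injective h'')))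
  rcases hg2 with hg2' | ⟨h11, hgg⟩
  · refine not_bin_inverted h2 hH hMH eM hkM hk3 hk1 hg hcomm hinv hg1 hg2' hcent (e.symm s').2 hsk
      fun K hKH hkK h3 hne n3 n6 _ hno => ?_
    have hle := a5_small e hKH hne
    have hKd := Subgroup.card_dvd_of_le hKH
    rw [h60] at hKd
    have h12 : Nat.card K = 12 := by
      obtain ⟨n, hn⟩ : ∃ n, Nat.card K = n := ⟨_, rfl⟩
      rw [hn] at hKd h3 hle n3 n6 ⊢
      interval_cases n <;> omega
    have hsK : s ∉ K := fun h => hno s h hsk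
    set L := K ⊓ K.map (MulAut.conj s).toMonoidHom with hL
    have hkL : k ∈ L := mem_mapConj.2 ⟨hkK, by
      rw [inv_eq_of_mul_eq_one_right hss, hsk, mul_assoc, hss, mul_one]; exact K.inv_mem hkK⟩
    have hL3 := dvd_card_of_three hkL hk3 hk1
    have hLd := Subgroup.card_dvd_of_le (inf_le_left : L ≤ K)
    rw [h12] at hLd
    have hL6 : Nat.card L ≠ 6 := fun h => by
      obtain ⟨z, hz, h' | ⟨h', a, b, c⟩⟩ := six_extra h hkL hk3 hk1
      · exact hno z hz.1 h'
      · rcases hcent z (hKH hz.1) h' with h'' | h'' | h''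
        exacts [a h'', b h'', c h'']
    have hL12 : Nat.card L ≠ 12 := fun h => by
      have hLK : L = K := Subgroup.eq_of_le_of_card_ge inf_le_left (by rw [h, h12])
      have := two_mul_dvd hKH (e.symm s').2 hsK hss fun z hz => by
        have hz' : z ∈ L := hLK.symm ▸ hz
        have := (mem_mapConj.1 hz').2
        rwa [inv_eq_of_mul_eq_one_right hss] at this ⊢
      rw [h60, h12] at this
      norm_num at this
    have hLc : Nat.card L = 3 := by
      obtain ⟨n, hn⟩ : ∃ n, Nat.card L = n := ⟨_, rfl⟩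
      rw [hn] at hLd hL3 hL6 hL12 ⊢
      have := Nat.le_of_dvd (by norm_num) hLd
      interval_cases n <;> omega
    exact not_bin_of_big_orbit hKH (e.symm s').2 hsK (n := 5) (by rw [h60, h12]) (by rw [h12, ← hL, hLc])
      (by rw [h60]; decide)
  have hq11 : Nat.card F = 11 := h11.resolve_right fun h => by rw [h] at hcp; norm_num at hcp; omega
  rw [hq11] at hcp
  norm_num at hcp
  have hgi : g⁻¹ = g := inv_eq_of_mul_eq_one_right hgg
  have hgH : g ∉ H := fun h => by
    rcases hcent g h hcomm.symm with h' | h' | h'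
    exacts [hg1.1 h', hg1.2.1 h', hg1.2.2 h']
  set K := H ⊓ H.map (MulAut.conj g).toMonoidHom with hK
  have hkK : k ∈ K := mem_mapConj.2 ⟨hkH, by rw [mul_assoc, hcomm, inv_mul_cancel_left]; exact hkH⟩
  have hsK : s ∈ K := mem_mapConj.2 ⟨(e.symm s').2, by
    rw [mul_assoc, hinv s (hH (e.symm s').2) hsk, hgi, ← mul_assoc, hgg, one_mul]
    exact (e.symm s').2⟩
  have h3 := dvd_card_of_three hkK hk3 hk1
  have h2d : 2 ∣ Nat.card K := by
    have h := orderOf_dvd_natCard (⟨s, hsK⟩ : ↥K)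
    rwa [← Subgroup.orderOf_coe (⟨s, hsK⟩ : ↥K),
      orderOf_eq_prime (hp := ⟨Nat.prime_two⟩) (by rw [pow_two, hss]) hs1'] at h
  have hnorm : ∀ z ∈ K, g * z * g⁻¹ ∈ K := fun z hz => by
    obtain ⟨a, b⟩ := mem_mapConj.1 hz
    rw [hgi] at b ⊢
    refine mem_mapConj.2 ⟨b, ?_⟩
    rw [hgi, show g * (g * z * g) * g = g * g * z * (g * g) by group, hgg, one_mul, mul_one]
    exact a
  have hgK : g ∉ K := fun h => hgH (mem_mapConj.1 h).1
  have hKH : K ≤ H := inf_le_left
  have htwo := two_mul_dvd (hKH.trans hH) hg hgK hgg hnorm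
  rw [hP] at htwo
  have hP660 : P = 660 := by omega
  subst hP660
  have hne : K ≠ H := fun h => by
    rw [h, h60] at htwo
    norm_num at htwo
  have hle := a5_small e hKH hne
  have h6 : Nat.card K = 6 := by
    obtain ⟨n, hn⟩ : ∃ n, Nat.card K = n := ⟨_, rfl⟩
    rw [hn] at htwo h3 h2d hle ⊢
    have : 1 ≤ n := hn ▸ Nat.card_pos
    interval_cases n <;> omega
  refine not_bin_of_big_orbit hH hg hgH (n := 11) (by rw [hP, h60]) (by rw [h60, ← hK, h6]) ?_
  rw [hP]
  decide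

end CfsgLib.Classical.PslBin
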