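import Cfsg.Agent.Lib.Classical.PslBin.Borel
import Cfsg.Agent.Lib.Classical.PslBin.Pairs

/-!
# The binary actions in characteristic two
-/

set_option autoImplicit false

namespace CfsgLib.Classical.PslBin

open Matrix
open CfsgLib.Perm.Dickson

variable {F : Type*} [Field F] [Finite F]

theorem bin_translations {H : Subgroup (G2 F)} (hH : H ≤ psl F) (h2 : (2 : F) = 0)
    (hT : ∀ g, g ∈ H ↔ ∃ t : F, g = tr t) : BinIn (psl F) H := by
  have sq : ∀ {a g : G2 F}, a⁻¹ * g * a ∈ H → g * g = 1 := by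
    intro a g hg
    obtain ⟨t, ht⟩ := (hT _).1 hg
    have e : a⁻¹ * (g * g) * a = 1 := by
      rw [show a⁻¹ * (g * g) * a = (a⁻¹ * g * a) * (a⁻¹ * g * a) by group, ht, tr_mul,
        show t + t = 0 by linear_combination t * h2, tr_zero]
    rw [show g * g = a * (a⁻¹ * (g * g) * a) * a⁻¹ by group, e]; group
  have single : ∀ {a g : G2 F}, g ≠ 1 → a⁻¹ * g * a ∈ H →
      g • a • (ip : P2 F) = a • (ip : P2 F) ∧ ∀ z, g • z = z → z = a • (ip : P2 F) := by
    intro a g hg1 hg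
    obtain ⟨t, ht⟩ := (hT _).1 hg
    have e : g = a * tr t * a⁻¹ := by rw [← ht]; group
    have ht0 : t ≠ 0 := fun h => hg1 (by rw [e, h, tr_zero]; group)
    refine ⟨by rw [e, mul_smul, mul_smul, inv_smul_smul, tr_ip], fun z hz => ?_⟩
    rw [e, mul_smul, mul_smul] at hz
    have := single_tr ht0 (a⁻¹ • z) (by rw [← eq_inv_smul_iff] at hz; exact hz)
    rw [← this, smul_inv_smul]
  have same : ∀ {a b z : G2 F}, a • (ip : P2 F) = b • (ip : P2 F) → a⁻¹ * z * a ∈ H → b⁻¹ * z * b ∈ H := by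
    intro a b z hab hz
    obtain ⟨t, ht⟩ := (hT _).1 hz
    obtain ⟨s, u, hu⟩ := exists_of_fix_ip (g := b⁻¹ * a) (by rw [mul_smul, hab, inv_smul_smul])
    rw [show b⁻¹ * z * b = (b⁻¹ * a) * (a⁻¹ * z * a) * (b⁻¹ * a)⁻¹ by group, ht, hu, hT]
    refine ⟨(u : F) * t, ?_⟩
    rw [_root_.mul_inv_rev, mul_assoc (tr s) (di u) (tr t), di_tr, show tr s * (tr ((u : F) * t) * di u) *
      ((di u)⁻¹ * (tr s)⁻¹) = tr s * tr ((u : F) * t) * (tr s)⁻¹ by group, tr_inv, tr_mul, tr_mul,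
      show s + (u : F) * t + -s = (u : F) * t by ring]
  refine bin_of_ti hH (fun a _ b _ w hw ha hb z hz => ?_) fun a _ b _ c _ w v hw hv hvw ha hb hc z hz => ?_
  · exact same ((single hw hb).2 _ (single hw ha).1) hz
  · refine same ((single hv hb).2 _ ?_) hz
    have hcomm : v * w = w * v := by
      have h3 := sq hc
      have hw2 := sq ha
      have hv2 := sq hb
      rw [inv_eq_of_mul_eq_one_right hv2] at h3
      calc v * w = v * w * (v * w * (v * w))⁻¹ * (v * w * (v * w)) := by group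
        _ = (v * w)⁻¹ := by rw [h3]; exact eq_inv_of_mul_eq_one_left (by simpa using h3)
        _ = w * v := by rw [_root_.mul_inv_rev, inv_eq_of_mul_eq_one_right hw2, inv_eq_of_mul_eq_one_right hv2]
    refine (single hw ha).2 _ ?_
    rw [← mul_smul, ← hcomm, mul_smul, (single hw ha).1]

/-- Three elements of order three with `x * y` again of order three share their torus. -/
theorem common_torus (h2 : (2 : F) = 0) (hnr : ∀ r : F, r ^ 3 = 1 → r = 1) {x y : G2 F} (hx : x ^ 3 = 1)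
    (hy : y ^ 3 = 1) (hxy : (x * y) ^ 3 = 1) (hx1 : x ≠ 1) :
    ∃ a b : P2 (Kc F), a ≠ b ∧ x ∈ pairFix a b ∧ y ∈ pairFix a b := by
  haveI := finite_G2 (F := F)
  haveI : CharP F 2 := CharTwo.of_one_ne_zero_of_two_eq_zero (one_ne_zero (α := F)) h2
  haveI : Fact (Nat.Prime 2) := ⟨Nat.prime_two⟩
  have hsq : ∀ {g : G2 F}, g ^ 3 = 1 → g * g = 1 → g = 1 := fun {g} h h' => by
    rwa [pow_succ, pow_two, h', one_mul] at h
  have hfree : ∀ z : P2 F, x • z ≠ z := by
    intro z hz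
    obtain ⟨σ, hσ⟩ := exists_move_ip z
    obtain ⟨t, u, e⟩ := exists_of_fix_ip (g := σ * x * σ⁻¹) (by rw [conj_smul_eq hσ, hz, hσ])
    have e3 : (tr t * di u) ^ 3 = 1 := by rw [← e, conj_pow, hx]; group
    rw [pow_succ, pow_two, trdi_mul, trdi_mul, ← one_mul (1 : G2 F)] at e3
    nth_rw 1 [← tr_zero (K := F), ← di_one] at e3
    obtain ⟨-, hu⟩ := trdi_inj e3
    have hu1 : u = 1 := Units.ext (hnr _ (by
      have := congrArg Units.val hu
      simpa [pow_succ, mul_assoc] using this))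
    refine hx1 (hsq hx ?_)
    rw [← conj_eq_one_iff (a := σ), ← conj_mul, e, hu1, di_one, mul_one, tr_mul,
      show t + t = 0 by linear_combination t * h2, tr_zero]
  by_cases hP : x * y⁻¹ = 1
  · obtain ⟨a, b, hg, hm⟩ := exists_torus 2 hx1 (fun h => hx1 (hsq hx (by
      have e := pow_orderOf_eq_one x
      rwa [h, pow_two] at e)))
    exact ⟨a, b, hg.1, hm, mul_inv_eq_one.1 hP ▸ hm⟩
  set P := x * y⁻¹ with hPdef
  set Q := y⁻¹ * x with hQdef
  have hy' : y⁻¹ * y⁻¹ = y := by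
    rw [← _root_.mul_inv_rev]; exact inv_eq_of_mul_eq_one_right (by rw [← pow_two, ← pow_succ, hy])
  have hx' : x * x = x⁻¹ := eq_inv_of_mul_eq_one_left (by rw [← pow_two, ← pow_succ, hx])
  have hPQ : P * Q = x * y * x := by
    rw [hPdef, hQdef, show x * y⁻¹ * (y⁻¹ * x) = x * (y⁻¹ * y⁻¹) * x by group, hy']
  have hbraid : x * y * x = (y * x * y)⁻¹ := eq_inv_of_mul_eq_one_left (by
    rw [show x * y * x * (y * x * y) = x * y * (x * y) * (x * y) by group, ← pow_two, ← pow_succ, hxy])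
  have hQP : Q * P = x * y * x := by
    rw [hPdef, hQdef, show y⁻¹ * x * (x * y⁻¹) = y⁻¹ * (x * x) * y⁻¹ by group, hx', hbraid]
    group
  have cP : x * P * x⁻¹ = (P * Q)⁻¹ := by
    rw [hPQ, hPdef, show x * (x * y⁻¹) * x⁻¹ = x * x * y⁻¹ * x⁻¹ by group, hx']
    group
  have cQ : x * Q * x⁻¹ = P := by rw [hPdef, hQdef, show x * (y⁻¹ * x) * x⁻¹ = x * y⁻¹ by group]
  have comm : ∀ z : P2 (Kc F), mapG (iF F) P • z = z → mapG (iF F) P • (mapG (iF F) Q • z) = mapG (iF F) Q • z :=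
    fun z hz => by rw [← mul_smul, ← map_mul, hPQ.trans hQP.symm, map_mul, mul_smul, hz]
  have conjfix : ∀ z : P2 (Kc F), mapG (iF F) (P * Q) • z = z →
      mapG (iF F) P • (mapG (iF F) x⁻¹ • z) = mapG (iF F) x⁻¹ • z := fun z hz => by
    have : mapG (iF F) (x * P * x⁻¹) • z = z := by rw [cP, map_inv, inv_smul_eq_iff, hz]
    rwa [map_mul, map_mul, mul_smul, mul_smul, smul_eq_iff_eq_inv_smul, ← map_inv] at this
  obtain ⟨a, ha⟩ := exists_fixed_of_isAlgClosed (mapG (iF F) P)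
  by_cases hsing : ∀ z, mapG (iF F) P • z = z → z = a
  · exfalso
    obtain ⟨z, rfl⟩ := isRat_of_single 2 ha hsing
    have h1 := conjfix _ (by rw [map_mul, mul_smul, hsing _ (comm _ ha), ha])
    have h2 := hsing _ h1
    rw [map_inv, inv_smul_eq_iff] at h2
    exact hfree z ((fix_map_iff x z).1 h2.symm)
  push Not at hsing
  obtain ⟨b, hb, hne⟩ := hsing
  have hgood := goodPair_of_fix 2 hP (Ne.symm hne) ha hb
  have only : ∀ z, mapG (iF F) P • z = z → z = a ∨ z = b := fun z hz => by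
    by_contra hcon
    push Not at hcon
    exact hP ((map_eq_one_iff _ (mapG_injective _)).1 (eq_one_of_three hne.symm hcon.1.symm hcon.2.symm ha hb hz))
  have inSet : ∀ g : G2 F, (mapG (iF F) g • a = a ∨ mapG (iF F) g • a = b) →
      (mapG (iF F) g • b = a ∨ mapG (iF F) g • b = b) → g ∈ pairSet a b := by
    rintro g (e1 | e1) (e2 | e2)
    · exact absurd (MulAction.injective _ (e1.trans e2.symm)) hne.symm
    · exact mem_pairSet.2 (Or.inl ⟨e1, e2⟩)
    · exact mem_pairSet.2 (Or.inr ⟨e1, e2⟩)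
    · exact absurd (MulAction.injective _ (e1.trans e2.symm)) hne.symm
  have hPm : P ∈ pairFix a b := mem_pairFix.2 ⟨ha, hb⟩
  have hQm : Q ∈ pairFix a b := by
    by_contra hQ
    have h := sq_of_swap hne.symm (inSet Q (only _ (comm a ha)) (only _ (comm b hb))) hQ
    have hPP : P * P = 1 := by rw [← cQ, conj_mul, h]; group
    refine not_p_dvd_torus 2 hgood ?_
    have e := orderOf_dvd_natCard (⟨P, hPm⟩ : pairFix a b)
    rwa [orderOf_eq_prime (p := 2) (Subtype.ext (by simpa [pow_two] using hPP) : (⟨P, hPm⟩ : pairFix a b) ^ 2 = 1)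
      (fun e => hP (congrArg Subtype.val e))] at e
  have hPQm := mem_pairFix.1 ((pairFix a b).mul_mem hPm hQm)
  have hxs : x⁻¹ ∈ pairSet a b := inSet _ (only _ (conjfix a hPQm.1)) (only _ (conjfix b hPQm.2))
  have hxm : x ∈ pairFix a b := by
    by_contra hx''
    exact hx1 (hsq hx (sq_of_swap hne.symm (by simpa using (pairSet a b).inv_mem hxs) hx''))
  refine ⟨a, b, hne.symm, hxm, ?_⟩
  have := (pairFix a b).mul_mem ((pairFix a b).inv_mem hPm) hxm
  rwa [hPdef, show (x * y⁻¹)⁻¹ * x = y by group] at this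

omit [Finite F] in
theorem mem_of_three [Finite F] {a b : P2 (Kc F)} (hab : a ≠ b) {w v : G2 F} (hw : w ∈ pairFix a b)
    (hv : v ∈ pairFix a b) (hw3 : w ^ 3 = 1) (hv3 : v ^ 3 = 1) (hw1 : w ≠ 1) : v ∈ Subgroup.zpowers w := by
  classical
  haveI := finite_G2 (F := F)
  haveI := isCyclic_pairFix (F := F) hab
  haveI : Fintype (pairFix a b) := Fintype.ofFinite _
  by_contra hn
  have n1 : v ≠ 1 := fun h => hn (h ▸ Subgroup.one_mem _)
  have n2 : v ≠ w := fun h => hn (h ▸ Subgroup.mem_zpowers w)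
  have n3 : v ≠ w * w := fun h => hn (h ▸ Subgroup.mul_mem _ (Subgroup.mem_zpowers w) (Subgroup.mem_zpowers w))
  have n4 : w * w ≠ 1 := fun h => hw1 (by rwa [pow_succ, pow_two, h, one_mul] at hw3)
  have n5 : w * w ≠ w := fun h => hw1 (mul_eq_left.1 h)
  have h := IsCyclic.card_pow_eq_one_le (α := pairFix a b) (n := 3) three_pos
  have hsub : ({1, ⟨w, hw⟩, ⟨w * w, (pairFix a b).mul_mem hw hw⟩, ⟨v, hv⟩} : Finset (pairFix a b)) ⊆
      Finset.univ.filter fun g => g ^ 3 = 1 := by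
    intro g hg
    simp only [Finset.mem_insert, Finset.mem_singleton] at hg
    have e : (w * w) ^ 3 = 1 := by rw [← pow_two, ← pow_mul, mul_comm, pow_mul, hw3, one_pow]
    rcases hg with rfl | rfl | rfl | rfl <;> simp [Subtype.ext_iff, hw3, hv3, e]
  have h4 := Finset.card_le_card hsub
  rw [Finset.card_insert_of_notMem (by simp [Subtype.ext_iff, hw1.symm, n4.symm, n1.symm]),
    Finset.card_insert_of_notMem (by simp [Subtype.ext_iff, n5.symm, n2.symm]),
    Finset.card_pair (by simp [Subtype.ext_iff, n3.symm])] at h4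
  omega

/-- Subgroups of order three in `PSL(2, 2^odd)`. -/
theorem bin_three {H : Subgroup (G2 F)} (hH : H ≤ psl F) (h2 : (2 : F) = 0) (hnr : ∀ r : F, r ^ 3 = 1 → r = 1)
    (h3 : Nat.card H = 3) : BinIn (psl F) H := by
  haveI := finite_G2 (F := F)
  haveI : Fact (Nat.Prime 3) := ⟨Nat.prime_three⟩
  have cube : ∀ {a g : G2 F}, a⁻¹ * g * a ∈ H → g ^ 3 = 1 := by
    intro a g hg
    have e : ((⟨_, hg⟩ : H) ^ 3 : H) = 1 := by rw [← h3, pow_card_eq_one']
    have e' := congrArg Subtype.val e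
    simp only [SubgroupClass.coe_pow, OneMemClass.coe_one] at e'
    have hc : a⁻¹ * g * a = a⁻¹ * g * (a⁻¹)⁻¹ := by rw [inv_inv]
    rwa [hc, conj_pow, conj_eq_one_iff] at e'
  have gen : ∀ {a g z : G2 F}, g ≠ 1 → a⁻¹ * g * a ∈ H → a⁻¹ * z * a ∈ H → z ∈ Subgroup.zpowers g := by
    intro a g z hg1 hg hz
    have hne : (⟨_, hg⟩ : H) ≠ 1 := fun h => hg1 (by
      have : a⁻¹ * g * a = 1 := congrArg Subtype.val h
      rw [show g = a * (a⁻¹ * g * a) * a⁻¹ by group, this]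
      simp)
    obtain ⟨k, hk⟩ := mem_zpowers_of_prime_card (g' := (⟨_, hz⟩ : H)) h3 hne
    refine ⟨k, ?_⟩
    have hk' := congrArg Subtype.val hk
    simp only [SubgroupClass.coe_zpow] at hk'
    rw [show a⁻¹ * g * a = a⁻¹ * g * (a⁻¹)⁻¹ by rw [inv_inv], conj_zpow, inv_inv] at hk'
    exact mul_left_cancel (mul_right_cancel hk')
  have pow_mem : ∀ {a g z : G2 F}, a⁻¹ * g * a ∈ H → z ∈ Subgroup.zpowers g → a⁻¹ * z * a ∈ H := by
    rintro a g z hg ⟨k, rfl⟩
    have := H.zpow_mem hg k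
    rwa [show a⁻¹ * g * a = a⁻¹ * g * (a⁻¹)⁻¹ by rw [inv_inv], conj_zpow, inv_inv] at this
  refine bin_of_ti hH (fun a _ b _ w hw ha hb z hz => pow_mem hb (gen hw ha hz))
    fun a _ b _ c _ w v hw hv hvw ha hb hc z hz => ?_
  obtain ⟨p, q, hpq, hvm, hum⟩ := common_torus h2 hnr (cube hb) (cube hc)
    (by rw [mul_inv_cancel_left]; exact cube ha) hv
  have hwm : w ∈ pairFix p q := by simpa using (pairFix p q).mul_mem hvm hum
  have hwv : w ∈ Subgroup.zpowers v := mem_of_three hpq hvm hwm (cube hb) (cube ha) hv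
  exact pow_mem hb ((Subgroup.zpowers_le.2 hwv) (gen hw ha hz))

end CfsgLib.Classical.PslBin
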