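import Cfsg.Agent.Lib.Classical.PslBin.Seven
import Cfsg.Agent.Lib.Classical.PslBin.Cyclic
import Cfsg.Agent.Lib.Perm.Dickson.SubfieldMax
import Cfsg.Agent.Lib.Perm.Dickson.Recog

/-!
# Subgroups over subfields
-/

set_option autoImplicit false

namespace CfsgLib.Classical.PslBin

open Matrix
open CfsgLib.Perm.Dickson

variable {F : Type*} [Field F] [Finite F]

theorem iv_neg_one_mem_pslSub (F1 : Subfield F) : iv (-1 : Fˣ) ∈ pslSub F1 := by
  refine ⟨iv (-1), iv_neg_one_mem_psl, ?_⟩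
  rw [mapG_iv]
  congr 1

theorem tr_one_not_normal {p : ℕ} [Fact p.Prime] [CharP F p] {F1 : Subfield F} {K : Subgroup (G2 F)}
    (hK : pslSub F1 ≤ K) :
    ∃ T : Subgroup ↥K, Nat.card T = p ∧ ¬ T.Normal := by
  have htr : tr (1 : F) ∈ K := hK (tr_mem_pslSub F1.one_mem)
  refine ⟨Subgroup.zpowers ⟨tr 1, htr⟩, ?_, fun hn => ?_⟩
  · rw [Nat.card_zpowers, ← Subgroup.orderOf_coe]
    refine orderOf_eq_prime ?_ fun h => one_ne_zero (α := F) (tr_injective (h.trans tr_zero.symm))
    rw [tr_pow, mul_one, CharP.cast_eq_zero, tr_zero]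
  · have hiv : iv (-1 : Fˣ) ∈ K := hK (iv_neg_one_mem_pslSub F1)
    obtain ⟨i, hi⟩ := hn.conj_mem _ (Subgroup.mem_zpowers _) ⟨iv (-1), hiv⟩
    have hi' : tr (1 : F) ^ i = iv (-1 : Fˣ) * tr 1 * (iv (-1))⁻¹ := by simpa using congrArg Subtype.val hi
    have hfix : ∀ g ∈ Subgroup.zpowers (tr (1 : F)), g • (ip : P2 F) = ip := fun g hg => by
      have h' : Subgroup.zpowers (tr (1 : F)) ≤ MulAction.stabilizer (G2 F) (ip : P2 F) :=
        Subgroup.zpowers_le.2 (tr_ip 1)
      exact h' hg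
    have h := hfix _ ⟨i, rfl⟩
    simp only at h
    rw [hi', inv_eq_of_mul_eq_one_right (iv_sq _), mul_smul, mul_smul, iv_ip, tr_fp, zero_add, iv_fp _ one_ne_zero] at h
    exact fp_ne_ip _ h

theorem not_bin_subfield_type (h4 : 4 ≤ Nat.card F) (h5 : Nat.card F ≠ 5) {H0 : Subgroup (G2 F)} (hH0 : H0 ≤ psl F)
    (hne : H0 ≠ psl F) {σ : G2 F} {F1 : Subfield F} (h3 : 3 ≤ Nat.card F1)
    (h : conjG σ H0 = pglSub F1 ∨ (Odd (Nat.card F1) ∧ conjG σ H0 = pslSub F1)) : ¬ BinIn (psl F) H0 := by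
  haveI := finite_G2 (F := F)
  haveI := Fintype.ofFinite F
  obtain ⟨p, _⟩ := CharP.exists F
  haveI := Fact.mk ((CharP.char_is_prime_or_zero F p).resolve_right (CharP.char_ne_zero_of_finite F p))
  haveI := charP_subfield p F1
  refine not_bin_conjG σ ?_
  set H := conjG σ H0 with hHdef
  have hH : H ≤ psl F := conjG_le_psl hH0 σ
  have hge : pslSub F1 ≤ H := by
    rcases h with h | ⟨-, h⟩
    · exact (pslSub_le_pglSub F1).trans h.symm.le
    · exact h.symm.le
  have hle : H ≤ pglSub F1 := by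
    rcases h with h | ⟨-, h⟩
    · exact h.le
    · exact h.le.trans (pslSub_le_pglSub F1)
  have hF1 : F1 ≠ ⊤ := by
    intro hF
    refine hne ?_
    have hc : Nat.card F1 = Nat.card F := by
      rw [hF]; exact Nat.card_congr (Subfield.topEquiv (K := F)).toEquiv
    have hcs : Nat.card (pslSub F1) = Nat.card (psl F1) :=
      (Nat.card_congr ((psl F1).equivMapOfInjective _ (mapG_injective F1.subtype)).toEquiv).symm
    have e1 := card_psl F1
    have e2 := card_psl F
    rw [hc] at e1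
    have hcard : Nat.card (psl F) ≤ Nat.card (pslSub F1) := by
      rw [hcs]
      exact le_of_eq (Nat.eq_of_mul_eq_mul_left (Nat.gcd_pos_of_pos_left _ two_pos) (e2.trans e1.symm))
    have hHe : H = psl F := Subgroup.eq_of_le_of_card_ge hH (hcard.trans (Subgroup.card_le_of_le hge))
    refine Subgroup.eq_of_le_of_card_ge hH0 ?_
    rw [← hHe, hHdef, card_conjG]
  obtain ⟨m, hm1, hm⟩ := exists_card_pow F1
  have hq : Nat.card F1 * Nat.card F1 ≤ Nat.card F := by
    rcases m with - | - | m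
    · omega
    · exact absurd (subfield_eq_of_card (F2 := (⊤ : Subfield F)) (by
        rw [Nat.card_congr (Subfield.topEquiv (K := F)).toEquiv]; simpa using hm)) hF1
    · rw [← hm, ← pow_two]
      exact Nat.pow_le_pow_right (by omega) (by omega)
  have h7 : 7 ≤ Nat.card F := by nlinarith
  by_cases h33 : Nat.card F1 = 3
  · obtain ⟨n, hn1, hn⟩ := card_eq_pow (F := F1) p
    have hp : p = 3 :=
      (Nat.prime_dvd_prime_iff_eq Fact.out (by norm_num)).1 (h33 ▸ hn ▸ dvd_pow_self p (by omega))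
    subst hp
    have h2 : (2 : F) ≠ 0 := fun e => one_ne_zero (α := F) (by
      have h3' : (3 : F) = 0 := CharP.cast_eq_zero F 3
      linear_combination h3' - e)
    obtain ⟨n', hn1', hn'⟩ := card_eq_pow (F := F) 3
    have hq7 : Nat.card F ≠ 7 := fun e => by
      have h37 : 3 ∣ 7 := e ▸ hn' ▸ dvd_pow_self 3 (by omega)
      norm_num at h37
    obtain ⟨T, hT, hTn⟩ := tr_one_not_normal (p := 3) hge
    rcases h with h | ⟨-, h⟩
    · have hc : Nat.card H = 24 := by
        rw [h, ← Nat.card_congr (MonoidHom.ofInjective (mapG_injective F1.subtype)).toEquiv, card_G2, h33]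
      obtain ⟨e⟩ := mulEquiv_s4 (G := ↥H) hc hT hTn fun g hg6 => by
        have := orderOf_le_subfield 3 (F1 := F1) (g := (g : G2 F)) (hle g.2)
        rw [Subgroup.orderOf_coe, hg6, h33] at this
        omega
      exact not_bin_s4 h2 h7 hq7 hH e
    · have hc : Nat.card H = 12 := by
        rw [h, ← Nat.card_congr ((psl F1).equivMapOfInjective _ (mapG_injective F1.subtype)).toEquiv]
        have e1 := card_psl F1
        rw [h33] at e1
        obtain ⟨P, hP⟩ : ∃ P, Nat.card (psl F1) = P := ⟨_, rfl⟩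
        rw [hP] at e1 ⊢
        norm_num at e1
        omega
      obtain ⟨e⟩ := mulEquiv_a4 (G := ↥H) hc hT hTn
      exact not_bin_a4 h2 h7 hq7 hH e
  obtain ⟨u, hu⟩ := IsCyclic.exists_generator (α := F1ˣ)
  have hord : orderOf u = Nat.card F1 - 1 := by
    rw [orderOf_eq_card_of_forall_mem_zpowers hu, Nat.card_units]
  obtain ⟨l, hl, hlsq⟩ : ∃ l : F, l ∉ F1 ∧ IsSquare l := by
    by_contra hcon
    push Not at hcon
    have hsq : ∀ x : F, x ^ 2 ∈ F1 := fun x => by
      by_contra hx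
      exact hcon _ hx ⟨x, sq x⟩
    refine hF1 (top_le_iff.1 fun x _ => ?_)
    by_cases h2 : (2 : F) = 0
    · obtain ⟨y, hy⟩ := exists_sq_two h2 x
      exact hy ▸ hsq y
    · have h2x : 2 * x ∈ F1 := by
        rw [show 2 * x = (x + 1) ^ 2 - x ^ 2 - 1 by ring]
        exact F1.sub_mem (F1.sub_mem (hsq _) (hsq _)) F1.one_mem
      have := F1.mul_mem (F1.inv_mem (show (2 : F) ∈ F1 from one_add_one_eq_two (R := F) ▸ F1.add_mem F1.one_mem F1.one_mem)) h2x
      rwa [inv_mul_cancel_left₀ h2] at this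
  have hl0 : l ≠ 0 := fun e => hl (e ▸ F1.zero_mem)
  have finish : ∀ w : F1ˣ, di (Units.map F1.subtype.toMonoidHom w) ∈ H → ((w : F1) : F) ^ 2 ≠ 1 →
      ¬ BinIn (psl F) H := fun w hwH hw =>
    not_bin_subfield hH hge hle (ω := Units.map F1.subtype.toMonoidHom w) hw (w : F1).2 hwH
      (l := Units.mk0 l hl0) hl hlsq
  have small : ∀ k : ℕ, 0 < k → k < Nat.card F1 - 1 → ((u : F1) : F) ^ k ≠ 1 := fun k hk0 hk e => by
    have e' : u ^ k = 1 := Units.ext (Subtype.ext (by simpa using e))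
    have := Nat.le_of_dvd hk0 (orderOf_dvd_of_pow_eq_one e')
    omega
  rcases h with h | ⟨hodd, h⟩
  · refine finish u ?_ (small 2 two_pos (by omega))
    rw [h]
    exact ⟨di u, mapG_di _ _⟩
  · by_cases h55 : Nat.card F1 = 5
    · obtain ⟨n, hn1, hn⟩ := card_eq_pow (F := F1) p
      have hp : p = 5 :=
        (Nat.prime_dvd_prime_iff_eq Fact.out (by norm_num)).1 (h55 ▸ hn ▸ dvd_pow_self p (by omega))
      subst hp
      have h2 : (2 : F) ≠ 0 := fun e => one_ne_zero (α := F) (by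
        have h5' : (5 : F) = 0 := CharP.cast_eq_zero F 5
        linear_combination h5' - 2 * e)
      obtain ⟨T, hT, hTn⟩ := tr_one_not_normal (p := 5) hge
      have hc : Nat.card H = 60 := by
        rw [h, ← Nat.card_congr ((psl F1).equivMapOfInjective _ (mapG_injective F1.subtype)).toEquiv]
        have e1 := card_psl F1
        rw [h55] at e1
        obtain ⟨P, hP⟩ : ∃ P, Nat.card (psl F1) = P := ⟨_, rfl⟩
        rw [hP] at e1 ⊢
        norm_num at e1
        omega
      obtain ⟨e⟩ := mulEquiv_a5 (G := ↥H) hc hT hTn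
      exact not_bin_a5 h2 h7 hH e
    · obtain ⟨c, hc⟩ := hodd
      refine finish (u ^ 2) ?_ ?_
      · rw [h]
        exact ⟨di (u ^ 2), (di_mem_psl_iff _).2 ⟨(u : F1), by rw [Units.val_pow_eq_pow_val, sq]⟩, mapG_di _ _⟩
      · have := small 4 (by norm_num) (by omega)
        simpa [← pow_mul] using this

end CfsgLib.Classical.PslBin
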