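import Cfsg.Agent.Lib.Classical.PslBin.BorelSmall
import Cfsg.Agent.Lib.Classical.PslBin.Positive
import Cfsg.Agent.Lib.Classical.PslBin.SubfieldCases

/-!
# The binary coset actions of `PSL(2, q)`
-/

set_option autoImplicit false

namespace CfsgLib.Classical.PslBin

open Matrix
open CfsgLib.Perm.Dickson

variable {F : Type*} [Field F]

theorem bin_up {H : Subgroup (S2P F)} :
    (∀ (n : ℕ) (I J : Fin n → S2P F ⧸ H), 2 ≤ n →
        (∀ i j : Fin n, i ≠ j → ∃ g : S2P F, g • I i = J i ∧ g • I j = J j) → ∃ g : S2P F, ∀ i, g • I i = J i) ↔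
      BinIn (psl F) (up H) := by
  have key : ∀ g a b : S2P F, g • (a : S2P F ⧸ H) = (b : S2P F ⧸ H) ↔ (incl b)⁻¹ * incl g * incl a ∈ up H := by
    intro g a b
    rw [MulAction.Quotient.smul_coe, QuotientGroup.eq, ← H.inv_mem_iff, ← map_inv, ← map_mul, ← map_mul, mem_up]
    simp [mul_assoc]
  have lift : ∀ x ∈ psl F, ∃ a : S2P F, incl a = x := fun x hx => by
    have h : x ∈ (incl (F := F)).range := by rw [incl_range]; exact hx
    exact h
  constructor
  · intro hb n x y hx hy hp
    rcases n with - | - | n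
    · exact ⟨1, (psl F).one_mem, fun i => i.elim0⟩
    · exact ⟨y 0 * (x 0)⁻¹, (psl F).mul_mem (hy 0) ((psl F).inv_mem (hx 0)), fun i => by
        rw [Fin.fin_one_eq_zero i, show (y 0)⁻¹ * (y 0 * (x 0)⁻¹) * x 0 = 1 by group]; exact (up H).one_mem⟩
    choose a ha using fun i => lift _ (hx i)
    choose b hb' using fun i => lift _ (hy i)
    obtain ⟨g, h⟩ := hb (n + 2) (fun i => ((a i : S2P F) : S2P F ⧸ H)) (fun i => ((b i : S2P F) : S2P F ⧸ H))
      (by omega) fun i j hij => by
        obtain ⟨g, hg, h1, h2⟩ := hp i j hij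
        obtain ⟨g', rfl⟩ := lift g hg
        rw [← ha, ← hb'] at h1 h2
        exact ⟨g', (key _ _ _).2 h1, (key _ _ _).2 h2⟩
    exact ⟨incl g, incl_mem g, fun i => by rw [← ha, ← hb']; exact (key _ _ _).1 (h i)⟩
  · intro hb n I J _ hp
    choose a ha using fun i => QuotientGroup.mk_surjective (I i)
    choose b hb' using fun i => QuotientGroup.mk_surjective (J i)
    obtain ⟨g, hg, h⟩ := hb n (fun i => incl (a i)) (fun i => incl (b i)) (fun i => incl_mem _) (fun i => incl_mem _)
      fun i j hij => by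
        obtain ⟨g, h1, h2⟩ := hp i j hij
        rw [← ha, ← hb', key] at h1 h2
        exact ⟨incl g, incl_mem g, h1, h2⟩
    obtain ⟨g', rfl⟩ := lift g hg
    exact ⟨g', fun i => by rw [← ha, ← hb', key]; exact h i⟩

/-- The translations. -/
def trGroup : Subgroup (G2 F) where
  carrier := {g | ∃ t : F, g = tr t}
  one_mem' := ⟨0, tr_zero.symm⟩
  mul_mem' := by rintro _ _ ⟨s, rfl⟩ ⟨t, rfl⟩; exact ⟨s + t, tr_mul s t⟩
  inv_mem' := by rintro _ ⟨s, rfl⟩; exact ⟨-s, tr_inv s⟩

theorem mem_trGroup {g : G2 F} : g ∈ trGroup ↔ ∃ t : F, g = tr t := Iff.rfl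

theorem card_trGroup : Nat.card (trGroup : Subgroup (G2 F)) = Nat.card F :=
  (Nat.card_congr (Equiv.ofBijective (fun t : F => (⟨tr t, t, rfl⟩ : (trGroup : Subgroup (G2 F))))
    ⟨fun _ _ h => tr_injective (congrArg Subtype.val h), fun ⟨_, t, ht⟩ => ⟨t, Subtype.ext ht.symm⟩⟩)).symm

theorem trGroup_le : (trGroup : Subgroup (G2 F)) ≤ psl F := by
  rintro _ ⟨t, rfl⟩; exact tr_mem_psl t

variable [Finite F]

theorem two_zero_iff : (2 : F) = 0 ↔ ∃ a : ℕ, Nat.card F = 2 ^ a := by
  haveI := Fintype.ofFinite F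
  constructor
  · intro h2
    haveI : CharP F 2 := CharTwo.of_one_ne_zero_of_two_eq_zero (one_ne_zero (α := F)) h2
    haveI : Fact (Nat.Prime 2) := ⟨Nat.prime_two⟩
    obtain ⟨n, -, hn⟩ := card_eq_pow (F := F) 2
    exact ⟨n, hn⟩
  · rintro ⟨a, ha⟩
    obtain ⟨p, _⟩ := CharP.exists F
    haveI := Fact.mk ((CharP.char_is_prime_or_zero F p).resolve_right (CharP.char_ne_zero_of_finite F p))
    obtain ⟨n, hn1, hn⟩ := card_eq_pow (F := F) p
    have hp : p ∣ 2 ^ a := ha ▸ hn ▸ dvd_pow_self p (by omega)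
    have := (Nat.prime_dvd_prime_iff_eq Fact.out Nat.prime_two).1 ((Fact.out : p.Prime).dvd_of_dvd_pow hp)
    subst this
    exact CharTwo.two_eq_zero

/-- Cube roots of unity in characteristic two. -/
theorem cube_root_cases {a : ℕ} (ha : Nat.card F = 2 ^ a) :
    (Odd a → ∀ r : F, r ^ 3 = 1 → r = 1) ∧ (¬ Odd a → ∃ ω : F, ω ^ 2 + ω + 1 = 0) := by
  haveI := Fintype.ofFinite F
  have e2 : ∀ k : ℕ, 4 ^ k % 3 = 1 := fun k => by rw [Nat.pow_mod]; simp
  have hpos : 0 < Nat.card F := Nat.card_pos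
  refine ⟨fun hodd r hr => ?_, fun hev => ?_⟩
  · by_contra hr1
    obtain ⟨k, rfl⟩ := hodd
    have hr0 : r ≠ 0 := fun h => by rw [h, zero_pow three_ne_zero] at hr; exact zero_ne_one hr
    have hord : orderOf (Units.mk0 r hr0) = 3 :=
      orderOf_eq_prime (hp := ⟨Nat.prime_three⟩) (Units.ext (by simpa using hr))
        (fun h => hr1 (by simpa using congrArg Units.val h))
    have hd := orderOf_dvd_natCard (Units.mk0 r hr0)
    rw [hord, Nat.card_units, ha, pow_succ, pow_mul] at hd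
    have := e2 k
    norm_num at hd
    omega
  · obtain ⟨k, rfl⟩ := Nat.not_odd_iff_even.1 hev
    have hd : 3 ∣ Nat.card Fˣ := by
      rw [Nat.card_units, ha, ← two_mul, pow_mul]
      have := e2 k
      have h4 : 1 ≤ 4 ^ k := Nat.one_le_pow _ _ (by norm_num)
      norm_num
      omega
    haveI : Fact (Nat.Prime 3) := ⟨Nat.prime_three⟩
    obtain ⟨w, hw⟩ := exists_prime_orderOf_dvd_card' (G := Fˣ) 3 hd
    refine ⟨(w : F), ?_⟩
    have h3 : (w : F) ^ 3 = 1 := by rw [← Units.val_pow_eq_pow_val, ← hw, pow_orderOf_eq_one, Units.val_one]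
    have hne : (w : F) - 1 ≠ 0 := fun h => by
      rw [sub_eq_zero, Units.val_eq_one] at h
      rw [h, orderOf_one] at hw
      omega
    exact (mul_eq_zero.1 (show ((w : F) - 1) * ((w : F) ^ 2 + (w : F) + 1) = 0 by
      linear_combination h3)).resolve_left hne

theorem psl_binary (h4 : 4 ≤ Nat.card F) (h5 : Nat.card F ≠ 5) (H : Subgroup (S2P F)) (hH : H ≠ ⊤) :
    BinIn (psl F) (up H) ↔
      (H = ⊥ ∨ ((∃ a : ℕ, Nat.card F = 2 ^ a) ∧ ∃ P : Sylow 2 (S2P F), H = P) ∨
        ((∃ a : ℕ, Odd a ∧ Nat.card F = 2 ^ a) ∧ Nat.card H = 3)) := by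
  haveI := finite_G2 (F := F)
  haveI : Finite (S2P F) := Finite.of_equiv _ (pslEquiv F).symm.toEquiv
  have hHle : up H ≤ psl F := up_le H
  have hne : up H ≠ psl F := fun h => hH (up_injective (h.trans up_top.symm))
  constructor
  · intro hbin
    by_cases hthree : (∃ a : ℕ, Odd a ∧ Nat.card F = 2 ^ a) ∧ Nat.card H = 3
    · exact Or.inr (Or.inr hthree)
    have hex : (2 : F) = 0 → Nat.card (up H) = 3 → ∃ ω : F, ω ^ 2 + ω + 1 = 0 := fun h2 h3 => by
      obtain ⟨a, ha⟩ := two_zero_iff.1 h2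
      rw [card_up] at h3
      exact (cube_root_cases ha).2 fun hodd => hthree ⟨⟨a, hodd, ha⟩, h3⟩
    obtain ⟨p, _⟩ := CharP.exists F
    haveI := Fact.mk ((CharP.char_is_prime_or_zero F p).resolve_right (CharP.char_ne_zero_of_finite F p))
    have hodd : p ≠ 2 → (2 : F) ≠ 0 ∧ 7 ≤ Nat.card F := fun hp => by
      obtain ⟨n, -, hn⟩ := card_eq_pow (F := F) p
      have ho : Odd (Nat.card F) := hn ▸ ((Fact.out : p.Prime).odd_of_ne_two hp).pow
      refine ⟨two_ne_zero_of_odd ho, ?_⟩
      obtain ⟨m, hm⟩ := ho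
      omega
    have hcyc : ∀ a b : P2 (Kc F), GoodPair a b → up H ≤ pairFix a b → H = ⊥ := fun a b hg hT => by
      by_contra hb
      refine not_bin_cyclic hHle hg hT (fun h => hb ?_) hex hbin
      exact Subgroup.card_eq_one.1 (by rw [← card_up, h, Subgroup.card_bot])
    cases classify_finite p (up H) with
    | borel x hx =>
      rcases borel_cases hHle hx with h | ⟨a, b, hg, hT⟩ | ⟨h2, σ, hσ⟩ | h
      · exact Or.inl (Subgroup.card_eq_one.1 (by rw [← card_up, h, Subgroup.card_bot]))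
      · exact Or.inl (hcyc a b hg hT)
      · refine Or.inr (Or.inl ⟨two_zero_iff.1 h2, ?_⟩)
        haveI : Fact (Nat.Prime 2) := ⟨Nat.prime_two⟩
        haveI : CharP F 2 := CharTwo.of_one_ne_zero_of_two_eq_zero (one_ne_zero (α := F)) h2
        obtain ⟨n, -, hn⟩ := card_eq_pow (F := F) 2
        have hcard : Nat.card H = 2 ^ (Nat.card (S2P F)).factorization 2 := by
          have e : conjG σ (up H) = trGroup := Subgroup.ext fun g => (hσ g).trans mem_trGroup.symm
          rw [card_S2P, factorization_card_psl 2 hn, ← hn, ← card_up, ← card_conjG (up H) σ, e, card_trGroup]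
        exact ⟨Sylow.ofCard H hcard, rfl⟩
      · exact absurd hbin h
    | cyclic a b hg h _ => exact Or.inl (hcyc a b hg h)
    | dihedral a b hg h hn hC => exact absurd hbin (not_bin_dihedral hHle h4 h5 hg h hn hC)
    | a4 _ hp _ he =>
      obtain ⟨h2, h7⟩ := hodd hp
      by_cases hq : Nat.card F = 7
      · exact absurd hbin (not_bin_a4_seven hq hHle he.some)
      · exact absurd hbin (not_bin_a4 h2 h7 hq hHle he.some)
    | s4 _ hp _ he =>
      obtain ⟨h2, h7⟩ := hodd hp
      by_cases hq : Nat.card F = 7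
      · exact absurd hbin (not_bin_s4_seven hq hHle he.some)
      · exact absurd hbin (not_bin_s4 h2 h7 hq hHle he.some)
    | a5 _ hp _ he =>
      obtain ⟨h2, h7⟩ := hodd hp
      exact absurd hbin (not_bin_a5 h2 h7 hHle he.some)
    | subfield σ F1 h3 h => exact absurd hbin (not_bin_subfield_type h4 h5 hHle hne h3 h)
  · rintro (rfl | ⟨hpow, P, rfl⟩ | ⟨⟨a, hodd, ha⟩, h3⟩)
    · rw [show up (⊥ : Subgroup (S2P F)) = ⊥ from Subgroup.map_bot _]
      exact bin_bot
    · have h2 := two_zero_iff.2 hpow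
      haveI : Fact (Nat.Prime 2) := ⟨Nat.prime_two⟩
      haveI : CharP F 2 := CharTwo.of_one_ne_zero_of_two_eq_zero (one_ne_zero (α := F)) h2
      obtain ⟨n, -, hn⟩ := card_eq_pow (F := F) 2
      have hcard : Nat.card (down (trGroup : Subgroup (G2 F))) = 2 ^ (Nat.card (S2P F)).factorization 2 := by
        rw [← card_up, up_down trGroup_le, card_trGroup, card_S2P, factorization_card_psl 2 hn, hn]
      obtain ⟨g, hg⟩ := MulAction.exists_smul_eq (S2P F) (Sylow.ofCard (down trGroup) hcard) P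
      have hP : up (P : Subgroup (S2P F)) = conjG (incl g) trGroup := by
        rw [← hg]
        ext x
        rw [mem_conjG]
        constructor
        · rintro ⟨y, hy, rfl⟩
          obtain ⟨z, hz, rfl⟩ := hy
          show (incl g)⁻¹ * incl (g * z * g⁻¹) * incl g ∈ trGroup
          rw [map_mul, map_mul, map_inv]
          rw [show (incl g)⁻¹ * (incl g * incl z * (incl g)⁻¹) * incl g = incl z by group]
          exact hz
        · intro hx
          have hxp : x ∈ psl F := by
            have := (psl F).mul_mem ((psl F).mul_mem (incl_mem g) (trGroup_le hx)) ((psl F).inv_mem (incl_mem g))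
            rwa [show incl g * ((incl g)⁻¹ * x * incl g) * (incl g)⁻¹ = x by group] at this
          obtain ⟨y, rfl⟩ : x ∈ (incl (F := F)).range := by rw [incl_range]; exact hxp
          refine ⟨y, ⟨g⁻¹ * y * g, ?_, ?_⟩, rfl⟩
          · show incl (g⁻¹ * y * g) ∈ trGroup
            rw [map_mul, map_mul, map_inv]
            exact hx
          · show g * (g⁻¹ * y * g) * g⁻¹ = y
            group
      rw [hP]
      exact bin_conjG (bin_translations trGroup_le h2 fun _ => mem_trGroup) _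
    · exact bin_three hHle (two_zero_iff.2 ⟨a, ha⟩) ((cube_root_cases ha).1 hodd) (by rw [card_up, h3])

end CfsgLib.Classical.PslBin
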