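import Cfsg.Agent.Lib.Classical.PslBin.Exceptional
import Cfsg.Agent.Lib.Classical.PslBin.Dihedral
import Cfsg.Agent.Lib.Perm.Dickson.KleinConj
import Cfsg.Agent.Lib.Perm.Dickson.Minimal
import Cfsg.Agent.Lib.Perm.Dickson.Bridge

/-!
# The field with seven elements
-/

set_option autoImplicit false

namespace CfsgLib.Classical.PslBin

open Matrix
open CfsgLib.Perm.Dickson

theorem a4_exp_two_three : ∀ x : alternatingGroup (Fin 4), x * x = 1 ∨ x * x * x = 1 := by decide

theorem s4_three_conj : ∀ x y : Equiv.Perm (Fin 4), x * x * x = 1 → x ≠ 1 → y * y * y = 1 → y ≠ 1 →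
    ∃ h, h * x * h⁻¹ = y := by decide +kernel

variable {F : Type*} [Field F]

theorem mem_pairSet_of_comm {a b : P2 (Kc F)} (hab : a ≠ b) {j g : G2 F} (hj : j ∈ pairFix a b) (hj1 : j ≠ 1)
    (hc : j * g = g * j) : g ∈ pairSet a b := by
  obtain ⟨ha, hb⟩ := mem_pairFix.1 hj
  have key : ∀ z, mapG (iF F) j • z = z → mapG (iF F) g • z = a ∨ mapG (iF F) g • z = b := by
    intro z hz
    have h' : mapG (iF F) j • mapG (iF F) g • z = mapG (iF F) g • z := by
      rw [← mul_smul, ← map_mul, hc, map_mul, mul_smul, hz]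
    by_contra hcon
    push Not at hcon
    exact hj1 ((map_eq_one_iff _ (mapG_injective _)).1 (eq_one_of_three hab hcon.1.symm hcon.2.symm ha hb h'))
  rcases key a ha with e1 | e1 <;> rcases key b hb with e2 | e2
  · exact absurd (MulAction.injective _ (e1.trans e2.symm)) hab
  · exact mem_pairSet.2 (Or.inl ⟨e1, e2⟩)
  · exact mem_pairSet.2 (Or.inr ⟨e1, e2⟩)
  · exact absurd (MulAction.injective _ (e1.trans e2.symm)) hab

variable [Finite F]

theorem two_ne_zero_seven (hq : Nat.card F = 7) : (2 : F) ≠ 0 :=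
  two_ne_zero_of_odd (by rw [hq]; decide)

theorem N_le_psl_seven (hq : Nat.card F = 7) (Q : QPar F) : Q.N ≤ psl F :=
  QPar.N_inf_psl_of_sq Q (two_is_square_iff.2 (by rw [hq]; norm_num))

theorem card_psl_seven (hq : Nat.card F = 7) : Nat.card (psl F) = 168 := by
  have h := card_psl_two (two_ne_zero_seven hq)
  obtain ⟨P, hP⟩ : ∃ P, Nat.card (psl F) = P := ⟨_, rfl⟩
  rw [hP, hq] at h
  rw [hP]
  omega

/-- Tori containing elements of small order. -/
theorem torus_seven (hq : Nat.card F = 7) {x : G2 F} (hx : x ∈ psl F) (hx1 : x ≠ 1) {r : ℕ} (hr : r.Prime)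
    (hord : orderOf x = r) (hr7 : r ≠ 7) :
    ∃ a b : P2 (Kc F), GoodPair a b ∧ x ∈ pairFix a b ∧
      (Nat.card (pairFix a b ⊓ psl F : Subgroup (G2 F)) = 3 ∨ Nat.card (pairFix a b ⊓ psl F : Subgroup (G2 F)) = 4) ∧
      r ∣ Nat.card (pairFix a b ⊓ psl F : Subgroup (G2 F)) := by
  haveI := finite_G2 (F := F)
  obtain ⟨p, _⟩ := CharP.exists F
  haveI := Fact.mk ((CharP.char_is_prime_or_zero F p).resolve_right (CharP.char_ne_zero_of_finite F p))
  obtain ⟨n, hn1, hn⟩ := card_eq_pow (F := F) p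
  have hp7 : p = 7 := (Nat.prime_dvd_prime_iff_eq Fact.out (by norm_num)).1 (hq ▸ hn ▸ dvd_pow_self p (by omega))
  obtain ⟨a, b, hg, hxa⟩ := exists_torus p hx1 (by rw [hord, hp7]; exact hr7)
  refine ⟨a, b, hg, hxa, ?_, ?_⟩
  · have hc := card_pairFix_psl hg
    rw [gcd_odd (by rw [hq]; decide)] at hc
    rcases card_pairFix hg with ⟨-, h⟩ | ⟨-, h⟩ <;> omega
  · rw [← hord]
    exact dvd_trans (dvd_of_eq (Subgroup.orderOf_coe (⟨x, hxa, hx⟩ : (pairFix a b ⊓ psl F : Subgroup (G2 F)))))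
      (orderOf_dvd_natCard _)

/-- `A4` in `PSL(2, 7)`. -/
theorem not_bin_a4_seven (hq : Nat.card F = 7) {H0 : Subgroup (G2 F)} (hH0 : H0 ≤ psl F)
    (e0 : H0 ≃* alternatingGroup (Fin 4)) : ¬ BinIn (psl F) H0 := by
  haveI := finite_G2 (F := F)
  have h2 := two_ne_zero_seven hq
  obtain ⟨Q⟩ := exists_qpar h2
  obtain ⟨σ, hσ⟩ := Q.exists_conj_le_of_a4 hH0 e0
  refine not_bin_conjG σ ?_
  set H := conjG σ H0 with hHdef
  have hHN : H ≤ Q.N := hσ.trans inf_le_left
  have hH : H ≤ psl F := hσ.trans inf_le_right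
  have e : H ≃* alternatingGroup (Fin 4) := (conjEquiv σ H0).symm.trans e0
  have h12 : Nat.card H = 12 := by rw [Nat.card_congr e.toEquiv, nat_card_alternatingGroup, Nat.card_fin]; rfl
  have hNpsl := N_le_psl_seven hq Q
  have sqs : ∀ A : Subgroup (G2 F), A ≤ Q.N → Nat.card A = 12 → ∀ g ∈ Q.N, g * g ∈ A := by
    intro A hA hc g hg
    have hidx : (A.subgroupOf Q.N).index = 2 := by
      have h := (A.subgroupOf Q.N).card_mul_index
      rw [Nat.card_congr (Subgroup.subgroupOfEquivOfLe hA).toEquiv, hc, Q.card_N] at h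
      omega
    have := Subgroup.mul_self_mem_of_index_two hidx ⟨g, hg⟩
    simpa [Subgroup.mem_subgroupOf] using this
  have hVH : Q.V ≤ H := V_le_of_index_two Q hHN h12
  set j := (QPar.gI : G2 F) with hj
  have hjV : j ∈ Q.V := Q.mem_V.2 (Or.inr (Or.inl rfl))
  have hjJ : Q.gJ ∈ Q.V := Q.mem_V.2 (Or.inr (Or.inr (Or.inl rfl)))
  have vsq : ∀ v ∈ Q.V, v * v = 1 := by
    intro v hv
    rcases Q.mem_V.1 hv with rfl | rfl | rfl | rfl
    exacts [mul_one 1, QPar.II, Q.JJ, Q.KK]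
  have hj2 : j * j = 1 := QPar.II
  have hj1 : j ≠ 1 := QPar.gI_ne
  have eqH : ∀ {x y : G2 F} (hx : x ∈ H) (hy : y ∈ H), e ⟨x, hx⟩ = e ⟨y, hy⟩ → x = y := fun hx hy h =>
    congrArg Subtype.val (e.injective h)
  have invV : ∀ x ∈ H, x * x = 1 → x ∈ Q.V := by
    intro x hx hx2
    have com : ∀ v ∈ Q.V, x * v = v * x := fun v hv => by
      have h := a4_invol_comm (e ⟨x, hx⟩) (e ⟨v, hVH hv⟩)
        (by rw [← map_mul, e.map_eq_one_iff]; exact Subtype.ext hx2)
        (by rw [← map_mul, e.map_eq_one_iff]; exact Subtype.ext (vsq v hv))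
      rw [← map_mul, ← map_mul] at h
      exact congrArg Subtype.val (e.injective h)
    exact Q.mem_V_of_comm (com _ hjV) (com _ hjJ)
  have hord : orderOf j = 2 := orderOf_eq_prime (hp := ⟨Nat.prime_two⟩) (by rw [pow_two, hj2]) hj1
  obtain ⟨a, b, hg, hja, hm, hm2⟩ := torus_seven hq (hH (hVH hjV)) hj1 Nat.prime_two hord (by norm_num)
  have hm4 : Nat.card (pairFix a b ⊓ psl F : Subgroup (G2 F)) = 4 := by omega
  set D := pairSet a b ⊓ psl F with hD
  obtain ⟨w, hwP, hwS, hwn⟩ := exists_swap hg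
  have hDinf : D ⊓ pairFix a b = pairFix a b ⊓ psl F := by
    ext g
    exact ⟨fun h => ⟨h.2, h.1.2⟩, fun h => ⟨⟨pairFix_le_pairSet a b h.1, h.2⟩, h.1⟩⟩
  have hD8 : Nat.card D = 8 := by
    rw [(dihedral_of_le hg.1 (isCyclic_pairFix hg.1) (inf_le_left : D ≤ pairSet a b)
      (fun h => hwn (h ⟨hwS, hwP⟩))).1, hDinf, hm4]
  have hVD : Q.V ≤ D := fun v hv => ⟨mem_pairSet_of_comm hg.1 hja hj1 (by
      rcases Q.mem_V.1 hv with rfl | rfl | rfl | rfl
      · simp
      · rfl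
      · rw [hj, Q.IJ, Q.JI]
      · rw [hj, ← Q.IJ, ← mul_assoc, mul_assoc QPar.gI Q.gJ, Q.JI, ← Q.IJ, ← mul_assoc]),
    Q.V_le_psl hv⟩
  have hDN : D ≤ Q.N := by
    have hidx : (Q.V.subgroupOf D).index = 2 := by
      have h := (Q.V.subgroupOf D).card_mul_index
      rw [Nat.card_congr (Subgroup.subgroupOfEquivOfLe hVD).toEquiv, Q.card_V, hD8] at h
      omega
    haveI := Subgroup.normal_of_index_eq_two hidx
    intro d hd
    have key : ∀ v ∈ Q.V, d * v * d⁻¹ ∈ Q.V := fun v hv => by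
      have := (inferInstance : (Q.V.subgroupOf D).Normal).conj_mem ⟨v, hVD hv⟩ (Subgroup.mem_subgroupOf.2 hv) ⟨d, hd⟩
      simpa [Subgroup.mem_subgroupOf] using this
    exact Q.mem_N_of (key _ hjV) (key _ hjJ)
  -- a reflection of `D` outside `V`
  obtain ⟨r, hrS, hrn, hrP, hrV⟩ : ∃ r, r ∈ pairSet a b ∧ r ∉ pairFix a b ∧ r ∈ psl F ∧ r ∉ Q.V := by
    by_cases hwV : w ∈ Q.V
    swap
    · exact ⟨w, hwS, hwn, hwP, hwV⟩
    obtain ⟨x, hx, hxV⟩ := SetLike.not_le_iff_exists.1 (show ¬ (pairFix a b ⊓ psl F) ≤ Q.V from fun h => by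
      have hV' : (pairFix a b ⊓ psl F : Subgroup (G2 F)) = Q.V :=
        Subgroup.eq_of_le_of_card_ge h (by rw [hm4, Q.card_V])
      exact hwn (hV'.symm.le hwV).1)
    exact ⟨w * x, (pairSet a b).mul_mem hwS (pairFix_le_pairSet a b hx.1),
      fun h => hwn ((Subgroup.mul_mem_cancel_right _ hx.1).1 h), (psl F).mul_mem hwP hx.2,
      fun h => hxV ((Subgroup.mul_mem_cancel_left _ hwV).1 h)⟩
  have hr2 : r * r = 1 := sq_of_swap hg.1 hrS hrn
  have hrN : r ∈ Q.N := hDN ⟨hrS, hrP⟩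
  have hrH : r ∉ H := fun h => hrV (invV r h hr2)
  have hrj : r * j = j * r := by rw [inv_of_swap hg.1 hrS hrn hja, inv_eq_of_mul_eq_one_right hj2]
  have hN : ∀ g ∈ Q.N, ∀ x ∈ H, g * x * g⁻¹ ∈ H := by
    intro g hg' x hx
    have hidx : (H.subgroupOf Q.N).index = 2 := by
      have h := (H.subgroupOf Q.N).card_mul_index
      rw [Nat.card_congr (Subgroup.subgroupOfEquivOfLe hHN).toEquiv, h12, Q.card_N] at h
      omega
    haveI := Subgroup.normal_of_index_eq_two hidx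
    have := (inferInstance : (H.subgroupOf Q.N).Normal).conj_mem ⟨x, hHN hx⟩ (Subgroup.mem_subgroupOf.2 hx) ⟨g, hg'⟩
    simpa [Subgroup.mem_subgroupOf] using this
  -- conjugates of `H` through a reflection meet it trivially
  have ti : ∀ c ∈ Q.N, c ∉ H → c * c = 1 → c * j = j * c → ∀ u ∈ psl F, u⁻¹ * c * u = j →
      u⁻¹ * j * u ∉ H ∧ ∀ z ∈ H, z ≠ 1 → u⁻¹ * z * u ∉ H := by
    intro c hcN hcH hc2 hcj u hu huc
    have hjout : u⁻¹ * j * u ∉ H := by
      intro h
      have hi : u⁻¹ * j * u ∈ Q.V := invV _ h (by rw [conj_mul_self]; exact hj2)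
      obtain ⟨l, hl⟩ := Q.exists_inv3 hi (fun h' => hj1 (by rw [show j = u * (u⁻¹ * j * u) * u⁻¹ by group, h']; group))
      obtain ⟨n, hn⟩ := Q.perm3_surjective (Equiv.swap l 0)
      have hn' : (n : G2 F) * (u⁻¹ * j * u) * (n : G2 F)⁻¹ = j := by
        rw [← hl, ← Q.perm3_apply, hn, Equiv.swap_apply_left]
        rfl
      have hu' : u * (n : G2 F)⁻¹ ∈ Q.N := hDN ⟨mem_pairSet_of_comm hg.1 hja hj1 (by
          have h' := congrArg (fun z => u * (n : G2 F)⁻¹ * z) hn'
          calc j * (u * (n : G2 F)⁻¹)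
              = u * (n : G2 F)⁻¹ * ((n : G2 F) * (u⁻¹ * j * u) * (n : G2 F)⁻¹) := by group
            _ = u * (n : G2 F)⁻¹ * j := by rw [hn']),
        (psl F).mul_mem hu ((psl F).inv_mem (hNpsl n.2))⟩
      have huN : u ∈ Q.N := by simpa using Q.N.mul_mem hu' n.2
      exact hcH (by
        rw [show c = u * (u⁻¹ * c * u) * u⁻¹ by group, huc]
        exact hN u huN j (hVH hjV))
    refine ⟨hjout, fun z hz hz1 hzu => ?_⟩
    rcases a4_exp_two_three (e ⟨z, hz⟩) with h | h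
    · have hz2 : z * z = 1 := congrArg Subtype.val (e.map_eq_one_iff.1 (show e ((⟨z, hz⟩ : ↥H) * ⟨z, hz⟩) = 1 by rw [map_mul]; exact h))
      have hcz : c * z = z * c := by
        have h' := a4_invol_comm (e ⟨_, hVH hjV⟩) (e ⟨_, hzu⟩)
          (by rw [← map_mul, e.map_eq_one_iff]; exact Subtype.ext hj2)
          (by rw [← map_mul, e.map_eq_one_iff]; exact Subtype.ext (by
            show u⁻¹ * z * u * (u⁻¹ * z * u) = 1
            rw [conj_mul_self]; exact hz2))
        rw [← map_mul, ← map_mul] at h'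
        have h'' : j * (u⁻¹ * z * u) = u⁻¹ * z * u * j := congrArg Subtype.val (e.injective h')
        rw [← huc] at h''
        exact mul_left_cancel (a := u⁻¹) (mul_right_cancel (b := u) (by simpa [mul_assoc] using h''))
      rcases Q.mem_V.1 (invV z hz hz2) with h' | h' | h' | h'
      · exact hz1 h'
      · rw [h'] at hzu; exact hjout hzu
      · rw [h'] at hcz; exact hcH (hVH (Q.mem_V_of_comm hcj hcz))
      · rw [h', ← Q.IJ] at hcz
        exact hcH (hVH (Q.mem_V_of_comm hcj (mul_left_cancel (a := j) (by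
          rw [← mul_assoc, ← hcj, mul_assoc, hcz, mul_assoc]))))
    · have hz3 : z * z * z = 1 := congrArg Subtype.val (e.map_eq_one_iff.1
        (show e ((⟨z, hz⟩ : ↥H) * ⟨z, hz⟩ * ⟨z, hz⟩) = 1 by rw [map_mul, map_mul]; exact h))
      set L := H ⊓ Q.N.map (MulAut.conj u⁻¹).toMonoidHom with hL
      have memL : ∀ x, x ∈ L ↔ x ∈ H ∧ u * x * u⁻¹ ∈ Q.N := fun x => by
        rw [hL, Subgroup.mem_inf, Subgroup.mem_map_equiv, MulAut.conj_symm_apply, inv_inv]
      have h3 : 3 ∣ Nat.card L := dvd_card_of_three (k := u⁻¹ * z * u)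
        ((memL _).2 ⟨hzu, by rw [show u * (u⁻¹ * z * u) * u⁻¹ = z by group]; exact hHN hz⟩)
        (by rw [show u⁻¹ * z * u * (u⁻¹ * z * u) * (u⁻¹ * z * u) = u⁻¹ * (z * z * z) * u by group, hz3]; group)
        (fun h' => hz1 (by rw [show z = u * (u⁻¹ * z * u) * u⁻¹ by group, h']; group))
      have h2' : 2 ∣ Nat.card L := by
        have hjL : j ∈ L := (memL _).2 ⟨hVH hjV, by
          rw [show u * j * u⁻¹ = c by rw [← huc]; group]; exact hcN⟩
        have h' := orderOf_dvd_natCard (⟨j, hjL⟩ : ↥L)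
        rwa [← Subgroup.orderOf_coe (⟨j, hjL⟩ : ↥L), hord] at h'
      have hLd := Subgroup.card_dvd_of_le (inf_le_left : L ≤ H)
      rw [h12] at hLd
      have h6 : Nat.card L ≠ 6 := fun h' => no_six_in_a4 ((L.subgroupOf H).map e.toMonoidHom) (by
        rw [← Nat.card_congr ((L.subgroupOf H).equivMapOfInjective _ e.injective).toEquiv,
          Nat.card_congr (Subgroup.subgroupOfEquivOfLe (inf_le_left : L ≤ H)).toEquiv, h'])
      have hLH : L = H := Subgroup.eq_of_le_of_card_ge inf_le_left (by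
        obtain ⟨n, hn⟩ : ∃ n, Nat.card L = n := ⟨_, rfl⟩
        rw [hn] at hLd h3 h2' h6
        rw [h12, show Nat.card (H ⊓ Q.N.map (MulAut.conj u⁻¹).toMonoidHom : Subgroup (G2 F)) = n from hn]
        have := Nat.le_of_dvd (by norm_num) hLd
        have : 1 ≤ n := hn ▸ Nat.card_pos
        interval_cases n <;> omega)
      have hconj : H.map (MulAut.conj u).toMonoidHom ≤ Q.N := by
        rintro _ ⟨x, hx, rfl⟩
        exact ((memL x).1 (hLH.symm.le hx)).2
      have hAc : Nat.card (H.map (MulAut.conj u).toMonoidHom) = 12 := by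
        rw [← Nat.card_congr (H.equivMapOfInjective _ (MulAut.conj u).injective).toEquiv, h12]
      have hle : H ≤ H.map (MulAut.conj u).toMonoidHom := by
        intro x hx
        rcases a4_exp_two_three (e ⟨x, hx⟩) with h' | h'
        · exact V_le_of_index_two Q hconj hAc
            (invV x hx (congrArg Subtype.val (e.map_eq_one_iff.1
              (show e ((⟨x, hx⟩ : ↥H) * ⟨x, hx⟩) = 1 by rw [map_mul]; exact h'))))
        · have hx3 : x * x * x = 1 := congrArg Subtype.val (e.map_eq_one_iff.1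
            (show e ((⟨x, hx⟩ : ↥H) * ⟨x, hx⟩ * ⟨x, hx⟩) = 1 by rw [map_mul, map_mul]; exact h'))
          have := sqs _ hconj hAc _ (hHN (H.mul_mem hx hx))
          rwa [show x * x * (x * x) = x * x * x * x by group, hx3, one_mul] at this
      have heq := Subgroup.eq_of_le_of_card_ge hle (by rw [hAc, h12])
      refine hcH (heq.symm.le ?_)
      rw [Subgroup.mem_map_equiv, MulAut.conj_symm_apply, huc]
      exact hVH hjV
  have hrjN : r⁻¹ * j ∈ Q.N := Q.N.mul_mem (Q.N.inv_mem hrN) (hHN (hVH hjV))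
  have hri : r⁻¹ = r := inv_eq_of_mul_eq_one_right hr2
  have hcH : r⁻¹ * j ∉ H := fun h => hrH (inv_mem_iff.1 ((Subgroup.mul_mem_cancel_right _ (hVH hjV)).1 h))
  have hc2 : r⁻¹ * j * (r⁻¹ * j) = 1 := by
    rw [hri, mul_assoc, ← mul_assoc j, ← hrj, mul_assoc r j j, hj2, mul_one, hr2]
  have hcj : r⁻¹ * j * j = j * (r⁻¹ * j) := by rw [hri, ← mul_assoc j, ← hrj]
  obtain ⟨u, hu, huc⟩ := invol_conj h2 hrP (hH (hVH hjV)) (fun h => hrH (h ▸ H.one_mem)) hj1 hr2 hj2
  obtain ⟨v, hv, hvc⟩ := invol_conj h2 (hNpsl hrjN) (hH (hVH hjV)) (fun h => hcH (h ▸ H.one_mem)) hj1 hc2 hj2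
  have hjH : j ∈ H := hVH hjV
  refine not_bin_of_witness hH hu hv hjH (huc.symm ▸ hjH) (hvc.symm ▸ hjH) fun z hz hz1 hz2 => ?_
  by_cases h0 : z = 1
  · subst h0
    rw [inv_one, one_mul] at hz2
    exact (ti _ hrjN hcH hc2 hcj v hv hvc).1 hz2
  · exact (ti r hrN hrH hr2 hrj u hu huc).2 z hz h0 hz1

/-- `S4` in `PSL(2, 7)`. -/
theorem not_bin_s4_seven (hq : Nat.card F = 7) {H0 : Subgroup (G2 F)} (hH0 : H0 ≤ psl F)
    (e0 : H0 ≃* Equiv.Perm (Fin 4)) : ¬ BinIn (psl F) H0 := by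
  haveI := finite_G2 (F := F)
  haveI : Fact (Nat.Prime 3) := ⟨Nat.prime_three⟩
  have h2 := two_ne_zero_seven hq
  have h168 := card_psl_seven hq
  obtain ⟨Q⟩ := exists_qpar h2
  obtain ⟨σ, hσ⟩ := Q.exists_conj_eq_of_s4 hH0 e0
  refine not_bin_conjG σ ?_
  rw [hσ]
  have hNpsl := N_le_psl_seven hq Q
  obtain ⟨e⟩ := Q.N_s4
  have hno3 : ∀ a ∈ psl F, a ∉ Q.N → ¬ 3 ∣ Nat.card (Q.N ⊓ Q.N.map (MulAut.conj a).toMonoidHom : Subgroup (G2 F)) := by
    intro a ha han h3
    obtain ⟨⟨k, hk⟩, hord⟩ := exists_prime_orderOf_dvd_card' (G := ↥(Q.N ⊓ Q.N.map (MulAut.conj a).toMonoidHom)) 3 h3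
    rw [← Subgroup.orderOf_coe] at hord
    obtain ⟨hkN, hka⟩ := mem_mapConj.1 hk
    have hk1 : k ≠ 1 := fun h => by rw [show orderOf k = 1 by rw [h, orderOf_one]] at hord; norm_num at hord
    have hk3 : k * k * k = 1 := by
      have := pow_orderOf_eq_one k
      rwa [hord, pow_succ, pow_two] at this
    have hk' : a⁻¹ * k * a ≠ 1 := fun h => hk1 (by rw [show k = a * (a⁻¹ * k * a) * a⁻¹ by group, h]; group)
    obtain ⟨hh, hhk⟩ := s4_three_conj (e ⟨k, hkN⟩) (e ⟨_, hka⟩)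
      (by rw [← map_mul, ← map_mul, e.map_eq_one_iff]; exact Subtype.ext hk3)
      (fun h => hk1 (congrArg Subtype.val (e.map_eq_one_iff.1 h)))
      (by
        rw [← map_mul, ← map_mul, e.map_eq_one_iff]
        exact Subtype.ext (by
          show a⁻¹ * k * a * (a⁻¹ * k * a) * (a⁻¹ * k * a) = 1
          rw [show a⁻¹ * k * a * (a⁻¹ * k * a) * (a⁻¹ * k * a) = a⁻¹ * (k * k * k) * a by group, hk3]; group))
      (fun h => hk' (congrArg Subtype.val (e.map_eq_one_iff.1 h)))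
    set h : G2 F := ((e.symm hh : ↥Q.N) : G2 F) with hhdef
    have hhN : h ∈ Q.N := (e.symm hh).2
    have hconj : h * k * h⁻¹ = a⁻¹ * k * a := by
      have := congrArg (fun x => ((e.symm x : ↥Q.N) : G2 F)) hhk
      simpa [hhdef] using this
    have hcomm : k * (a * h) = a * h * k := by
      calc k * (a * h) = a * (a⁻¹ * k * a) * h := by group
        _ = a * (h * k * h⁻¹) * h := by rw [hconj]
        _ = a * h * k := by group
    obtain ⟨x, y, hg, hkx, hm, hm3⟩ := torus_seven hq (hNpsl hkN) hk1 Nat.prime_three hord (by norm_num)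
    have hS := mem_pairSet_of_comm hg.1 hkx hk1 hcomm
    have hF : a * h ∈ pairFix x y := by
      by_contra hn
      have h' := inv_of_swap hg.1 hS hn hkx
      rw [← hcomm] at h'
      have h'' : k * k = 1 := mul_eq_one_iff_eq_inv.2 (mul_right_cancel h')
      exact hk1 (by rwa [h'', one_mul] at hk3)
    have heq : Subgroup.zpowers k = pairFix x y ⊓ psl F := Subgroup.eq_of_le_of_card_ge
      (Subgroup.zpowers_le.2 ⟨hkx, hNpsl hkN⟩) (by rw [Nat.card_zpowers, hord]; omega)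
    have hah : a * h ∈ Q.N := by
      have : a * h ∈ Subgroup.zpowers k := heq.symm.le ⟨hF, (psl F).mul_mem ha (hNpsl hhN)⟩
      exact Subgroup.zpowers_le.2 hkN this
    exact han ((Subgroup.mul_mem_cancel_right _ hhN).1 hah)
  -- some conjugate omits the four group
  obtain ⟨a, ha, haV⟩ : ∃ a ∈ psl F, ∃ v ∈ Q.V, a⁻¹ * v * a ∉ Q.N := by
    by_contra hcon
    push Not at hcon
    haveI := (psl_simple_noncomm (F := F) (by omega)).1
    set N' := down Q.N with hN'
    have hinv : ∀ x ∈ psl F, x ≠ 1 → x * x = 1 → x ∈ Q.N := fun x hx hx1 hx2 => by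
      obtain ⟨g, hg, hgx⟩ := invol_conj h2 (QPar.gI_mem (F := F)) hx QPar.gI_ne hx1 QPar.II hx2
      rw [← hgx]
      exact hcon g hg _ (Q.mem_V.2 (Or.inr (Or.inl rfl)))
    obtain ⟨j, hj⟩ : ∃ j : S2P F, incl j = QPar.gI := by
      have h : (QPar.gI : G2 F) ∈ (incl (F := F)).range := by rw [incl_range]; exact QPar.gI_mem
      exact h
    have hjc : j ∈ N'.normalCore := fun g => by
      show incl (g * j * g⁻¹) ∈ Q.N
      refine hinv _ (incl_mem _) ?_ ?_
      · rw [map_mul, map_mul, map_inv, hj]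
        exact fun h => QPar.gI_ne (conj_eq_one_iff.1 h)
      · rw [← map_mul, conj_mul, map_mul, map_mul, map_mul, hj, QPar.II, map_inv, mul_one, mul_inv_cancel]
    rcases Subgroup.Normal.eq_bot_or_eq_top (Subgroup.normalCore_normal N') with h | h
    · rw [h, Subgroup.mem_bot] at hjc
      exact QPar.gI_ne (F := F) (by rw [← hj, hjc, map_one])
    · have hle : psl F ≤ Q.N := fun x hx => by
        obtain ⟨y, rfl⟩ : x ∈ (incl (F := F)).range := by rw [incl_range]; exact hx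
        exact N'.normalCore_le (h ▸ Subgroup.mem_top y)
      have := Subgroup.card_le_of_le hle
      rw [h168, Q.card_N] at this
      omega
  obtain ⟨v, hvV, hva⟩ := haV
  have haN : a ∉ Q.N := fun h => hva (Q.V_le_N (by
    have := (Subgroup.mem_normalizer_iff.1 (Q.N.inv_mem h) v).1 hvV
    rwa [inv_inv] at this))
  set K := Q.N ⊓ Q.N.map (MulAut.conj a).toMonoidHom with hK
  have hK3 := hno3 a ha haN
  rw [← hK] at hK3
  have hKd := Subgroup.card_dvd_of_le (inf_le_left : K ≤ Q.N)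
  rw [Q.card_N] at hKd
  have hle := le_suborbit hNpsl ha haN (n := 7) (by rw [h168, Q.card_N])
  rw [Q.card_N, ← hK] at hle
  have h8 : Nat.card K ≠ 8 := by
    intro h8
    set f : ↥K →* Equiv.Perm (Fin 3) := Q.perm3.comp (Subgroup.inclusion (inf_le_left : K ≤ Q.N))
    have hr : Nat.card f.range ∣ 2 := by
      have h1 : Nat.card f.range ∣ 8 := h8 ▸ Subgroup.card_range_dvd f
      have h2' : Nat.card f.range ∣ 6 := by
        have := Subgroup.card_subgroup_dvd_card f.range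
        rwa [Nat.card_perm, Nat.card_fin] at this
      exact Nat.dvd_gcd h1 h2'
    have hker : 4 ≤ Nat.card f.ker := by
      have hi := f.ker.card_mul_index
      rw [Subgroup.index_ker, h8] at hi
      have := Nat.le_of_dvd two_pos hr
      nlinarith [Nat.card_pos (α := f.ker), Nat.card_pos (α := f.range)]
    have hle' : f.ker.map K.subtype ≤ Q.V := by
      rintro _ ⟨x, hx, rfl⟩
      exact Q.mem_V_of_perm3 (n := Subgroup.inclusion (inf_le_left : K ≤ Q.N) x) hx
    have heq := Subgroup.eq_of_le_of_card_ge hle' (by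
      rw [Q.card_V, Nat.card_congr ((f.ker.equivMapOfInjective _ K.subtype_injective).symm).toEquiv]; exact hker)
    obtain ⟨x, -, rfl⟩ := heq.symm.le hvV
    exact hva (mem_mapConj.1 x.2).2
  have h4 : Nat.card K = 4 := by
    obtain ⟨n, hn⟩ : ∃ n, Nat.card K = n := ⟨_, rfl⟩
    rw [hn] at hKd hK3 hle h8 ⊢
    have := Nat.le_of_dvd (by norm_num) hKd
    interval_cases n <;> omega
  refine not_bin_of_big_orbit hNpsl ha haN (n := 7) (by rw [h168, Q.card_N]) (by rw [Q.card_N, ← hK, h4]) ?_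
  rw [h168]
  decide

end CfsgLib.Classical.PslBin
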