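import Cfsg.Agent.Lib.Classical.PslBin.Abstract

/-!
# One long suborbit
-/

set_option autoImplicit false

namespace CfsgLib.Classical.PslBin

variable {G : Type*} [Group G] [Finite G]

/-- The suborbit of a point as a set of other points. -/
theorem exists_suborbit_map {M K : Subgroup G} (hKM : K ≤ M) {a : G} (haM : a ∈ M) (haK : a ∉ K) :
    ∃ f : ↥K ⧸ (K ⊓ K.map (MulAut.conj a).toMonoidHom).subgroupOf K →
        {w : ↥M ⧸ K.subgroupOf M // w ≠ ((1 : ↥M) : ↥M ⧸ K.subgroupOf M)},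
      Function.Injective f ∧
        ∀ k : ↥K, (f k).1 = ((⟨(k : G) * a, M.mul_mem (hKM k.2) haM⟩ : ↥M) : ↥M ⧸ K.subgroupOf M) := by
  set L := K ⊓ K.map (MulAut.conj a).toMonoidHom with hL
  let Ω := ↥M ⧸ K.subgroupOf M
  let base : Ω := ((1 : ↥M) : Ω)
  let pt : ↥K → Ω := fun k => ((⟨(k : G) * a, M.mul_mem (hKM k.2) haM⟩ : ↥M) : Ω)
  have hpt : ∀ k k' : ↥K, pt k = pt k' ↔ k⁻¹ * k' ∈ L.subgroupOf K := by
    intro k k'
    rw [Subgroup.mem_subgroupOf, hL, Subgroup.mem_inf, Subgroup.mem_map_equiv, MulAut.conj_symm_apply]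
    show ((_ : ↥M) : Ω) = _ ↔ _
    rw [QuotientGroup.eq, Subgroup.mem_subgroupOf]
    simp only [Subgroup.coe_mul, Subgroup.coe_inv, _root_.mul_inv_rev, mul_assoc]
    exact ⟨fun h => ⟨K.mul_mem (K.inv_mem k.2) k'.2, h⟩, fun h => h.2⟩
  let f : ↥K ⧸ L.subgroupOf K → {w : Ω // w ≠ base} := fun q => Quotient.liftOn' q
    (fun k => ⟨pt k, fun h => haK (by
      have h' := (QuotientGroup.eq.1 h.symm)
      rw [Subgroup.mem_subgroupOf] at h'
      simp only [inv_one, one_mul] at h'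
      have := K.mul_mem (K.inv_mem k.2) h'
      rwa [inv_mul_cancel_left] at this)⟩)
    fun k k' h => Subtype.ext ((hpt k k').2 (QuotientGroup.leftRel_apply.1 h))
  have hinj : Function.Injective f := by
    intro q q'
    induction q using QuotientGroup.induction_on with
    | H k =>
      induction q' using QuotientGroup.induction_on with
      | H k' => exact fun h => QuotientGroup.eq.2 ((hpt k k').1 (congrArg Subtype.val h))
  exact ⟨f, hinj, fun _ => rfl⟩

theorem card_others {M K : Subgroup G} {n : ℕ} (hKM : K ≤ M) (hn : Nat.card M = n * Nat.card K) :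
    Nat.card {w : ↥M ⧸ K.subgroupOf M // w ≠ ((1 : ↥M) : ↥M ⧸ K.subgroupOf M)} = n - 1 := by
  classical
  have h := (K.subgroupOf M).card_mul_index
  rw [Nat.card_congr (Subgroup.subgroupOfEquivOfLe hKM).toEquiv, hn, mul_comm n] at h
  haveI : Fintype (↥M ⧸ K.subgroupOf M) := Fintype.ofFinite _
  rw [Nat.card_eq_fintype_card, Fintype.card_subtype_compl, Fintype.card_subtype_eq, ← Nat.card_eq_fintype_card]
  exact congrArg (· - 1) (Nat.eq_of_mul_eq_mul_left Nat.card_pos h)

/-- A suborbit is at most as large as the set of other points. -/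
theorem le_suborbit {M K : Subgroup G} (hKM : K ≤ M) {a : G} (haM : a ∈ M) (haK : a ∉ K) {n : ℕ}
    (hn : Nat.card M = n * Nat.card K) :
    Nat.card K ≤ (n - 1) * Nat.card (K ⊓ K.map (MulAut.conj a).toMonoidHom : Subgroup G) := by
  set L := K ⊓ K.map (MulAut.conj a).toMonoidHom with hL
  obtain ⟨f, hf, -⟩ := exists_suborbit_map hKM haM haK
  have h1 := Nat.card_le_card_of_injective f hf
  rw [card_others hKM hn] at h1
  have h2 := (L.subgroupOf K).card_mul_index
  rw [Nat.card_congr (Subgroup.subgroupOfEquivOfLe (inf_le_left : L ≤ K)).toEquiv] at h2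
  rw [← h2, mul_comm (n - 1)]
  exact Nat.mul_le_mul_left _ h1

/-- An action with one suborbit besides the point and fewer elements than the symmetric group. -/
theorem not_bin_of_big_orbit {M K : Subgroup G} (hKM : K ≤ M) {a : G} (haM : a ∈ M) (haK : a ∉ K) {n : ℕ}
    (hn : Nat.card M = n * Nat.card K)
    (hK : Nat.card K = (n - 1) * Nat.card (K ⊓ K.map (MulAut.conj a).toMonoidHom : Subgroup G))
    (hlt : Nat.card M < n.factorial) : ¬ BinIn M K := by
  classical
  set L := K ⊓ K.map (MulAut.conj a).toMonoidHom with hL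
  have hrel : K.relIndex M = n := by
    have h := (K.subgroupOf M).card_mul_index
    rw [Nat.card_congr (Subgroup.subgroupOfEquivOfLe hKM).toEquiv, hn, mul_comm n] at h
    exact Nat.eq_of_mul_eq_mul_left Nat.card_pos h
  refine not_bin_of_two_transitive hKM (fun x hx y hy hxK hyK => ?_) (hrel.symm ▸ hlt)
  obtain ⟨f, hinj, hf⟩ := exists_suborbit_map hKM haM haK
  have hcard : Nat.card {w : ↥M ⧸ K.subgroupOf M // w ≠ ((1 : ↥M) : ↥M ⧸ K.subgroupOf M)} =
      Nat.card (↥K ⧸ L.subgroupOf K) := by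
    have h2 := (L.subgroupOf K).card_mul_index
    rw [Nat.card_congr (Subgroup.subgroupOfEquivOfLe (inf_le_left : L ≤ K)).toEquiv] at h2
    rw [card_others hKM hn]
    exact Nat.eq_of_mul_eq_mul_left (n := Nat.card L) Nat.card_pos ((mul_comm _ _).trans (hK.symm.trans h2.symm))
  have hsur := ((Nat.bijective_iff_injective_and_card f).2 ⟨hinj, hcard.symm⟩).2
  have reach : ∀ z ∈ M, z ∉ K → ∃ k ∈ K, a⁻¹ * k⁻¹ * z ∈ K := by
    intro z hz hzK
    obtain ⟨q, hq⟩ := hsur ⟨((⟨z, hz⟩ : ↥M) : ↥M ⧸ K.subgroupOf M), fun h => hzK (by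
      have h' := Subgroup.mem_subgroupOf.1 (QuotientGroup.eq.1 h.symm)
      simpa using h')⟩
    induction q using QuotientGroup.induction_on with
    | H k =>
      have hq' : ((⟨(k : G) * a, M.mul_mem (hKM k.2) haM⟩ : ↥M) : ↥M ⧸ K.subgroupOf M) = ((⟨z, hz⟩ : ↥M) : ↥M ⧸ K.subgroupOf M) :=
        (hf k).symm.trans (congrArg Subtype.val hq)
      have h' := Subgroup.mem_subgroupOf.1 (QuotientGroup.eq.1 hq')
      refine ⟨k, k.2, ?_⟩
      simpa [mul_assoc] using h'
  obtain ⟨k, hk, hk'⟩ := reach x hx hxK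
  obtain ⟨l, hl, hl'⟩ := reach y hy hyK
  refine ⟨l * k⁻¹, K.mul_mem hl (K.inv_mem hk), ?_⟩
  have := K.mul_mem (K.inv_mem hl') hk'
  rwa [show (a⁻¹ * l⁻¹ * y)⁻¹ * (a⁻¹ * k⁻¹ * x) = y⁻¹ * (l * k⁻¹) * x by group] at this

end CfsgLib.Classical.PslBin
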