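import Cfsg.Agent.Lib.Classical.PslBin.Borel
import Cfsg.Agent.Lib.Classical.PslBin.Pairs

/-!
# Triangles for subgroups of torus normalisers
-/

set_option autoImplicit false

namespace CfsgLib.Classical.PslBin

open Matrix
open CfsgLib.Perm.Dickson

variable {F : Type*} [Field F]

theorem pair_ne {a b : P2 (Kc F)} (hab : a ≠ b) (u : G2 F) : mapG (iF F) u • a ≠ mapG (iF F) u • b :=
  fun h => hab (MulAction.injective _ h)

theorem conj_mul_self {u g : G2 F} : u⁻¹ * g * u * (u⁻¹ * g * u) = 1 ↔ g * g = 1 := by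
  rw [show u⁻¹ * g * u * (u⁻¹ * g * u) = u⁻¹ * (g * g) * (u⁻¹)⁻¹ by group]
  exact conj_eq_one_iff

variable [Finite F]

/-- Commute or invert: the elements of a conjugate, seen from one of its rotations. -/
theorem commute_or_invert {H : Subgroup (G2 F)} {a b : P2 (Kc F)} (hab : a ≠ b) (hT : H ≤ pairSet a b)
    {u y d : G2 F} (hy : u⁻¹ * y * u ∈ pairFix a b) (hd : u⁻¹ * d * u ∈ H) :
    d * y = y * d ∨ d * y = y⁻¹ * d := by
  by_cases h : u⁻¹ * d * u ∈ pairFix a b
  · exact Or.inl (pairFix_comm (pair_ne hab u) (mem_pairFix_conj.1 h) (mem_pairFix_conj.1 hy))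
  · exact Or.inr (inv_of_swap (pair_ne hab u) (mem_pairSet_conj.1 (hT hd)) (fun e => h (mem_pairFix_conj.2 e))
      (mem_pairFix_conj.1 hy))

/-- A shared element of order at least three makes two tori equal. -/
theorem rot_eq {H : Subgroup (G2 F)} {a b : P2 (Kc F)} (hab : a ≠ b) (hT : H ≤ pairSet a b) {u d : G2 F}
    (hd : d ∈ pairFix a b) (hdu : u⁻¹ * d * u ∈ H) (h2 : d * d ≠ 1) :
    pairFix (mapG (iF F) u • a) (mapG (iF F) u • b) = pairFix a b := by
  have h1 : d ≠ 1 := fun h => h2 (by rw [h, mul_one])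
  by_cases h : u⁻¹ * d * u ∈ pairFix a b
  · exact pairFix_eq hab (pair_ne hab u) h1 hd (mem_pairFix_conj.1 h)
  · exact absurd (conj_mul_self.1 (sq_of_swap hab (hT hdu) h)) h2

/-- A reflection which is a product of two conjugates of rotations. -/
theorem not_bin_swap_product {H : Subgroup (G2 F)} (hH : H ≤ psl F) {a b : P2 (Kc F)} (hab : a ≠ b)
    (hT : H ≤ pairSet a b) {s : G2 F} (hs : s ∈ H) (hsn : s ∉ pairFix a b) {u v y : G2 F} (hu : u ∈ psl F)
    (hv : v ∈ psl F) (hb : u⁻¹ * y * u ∈ H) (hbT : u⁻¹ * y * u ∈ pairFix a b) (hc : v⁻¹ * (y⁻¹ * s) * v ∈ H)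
    (hcT : v⁻¹ * (y⁻¹ * s) * v ∈ pairFix a b) (hy2 : y * y ≠ 1) (hz2 : y⁻¹ * s * (y⁻¹ * s) ≠ 1)
    (hys : s * y ≠ y * s)
    (hj : ∀ j ∈ H, j ∈ pairFix a b → j * j = 1 → j ≠ 1 →
      (j * y ≠ y * j ∧ j * y ≠ y⁻¹ * j) ∧ (j * s * y ≠ y * (j * s) ∧ j * s * y ≠ y⁻¹ * (j * s))) :
    ¬ BinIn (psl F) H := by
  have hss : s * s = 1 := sq_of_swap hab (hT hs) hsn
  have hsi : s⁻¹ = s := inv_eq_of_mul_eq_one_right hss
  have noT : ∀ d : G2 F, u⁻¹ * d * u ∈ H → d * y ≠ y * d → d * y = y⁻¹ * d := fun d hd h =>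
    (commute_or_invert hab hT hbT hd).resolve_left h
  have yT : y ∉ pairFix a b := fun hy => hz2
    (sq_of_swap hab ((pairSet a b).mul_mem ((pairSet a b).inv_mem (pairFix_le_pairSet a b hy)) (hT hs))
      fun h => hsn ((Subgroup.mul_mem_cancel_left _ ((pairFix a b).inv_mem hy)).1 h))
  refine not_bin_of_witness hH hu hv hs hb hc fun e he he1 he2 => ?_
  by_cases hes : e = s
  · subst hes
    have h := noT e he1 hys
    refine hz2 ?_
    have h' : e * y⁻¹ = y * e := by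
      rw [mul_inv_eq_iff_eq_mul, mul_assoc, h, mul_inv_cancel_left]
    rw [mul_assoc, ← mul_assoc e, h', mul_assoc, inv_mul_cancel_left, hss]
  by_cases he0 : e = 1
  · subst he0
    rw [inv_one, one_mul] at he2
    rcases commute_or_invert hab hT hcT he2 with h | h
    · refine hys ?_
      rw [← mul_assoc, mul_assoc (y⁻¹) s s, hss, mul_one] at h
      have := congrArg (fun w => y * w * y) (mul_left_injective s |>.eq_iff.1
        (h.trans (show y⁻¹ = y⁻¹ * s * s by rw [mul_assoc, hss, mul_one])))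
      simpa [mul_assoc] using this.symm
    · refine hy2 ?_
      rw [_root_.mul_inv_rev, inv_inv, hsi, ← mul_assoc] at h
      have h2 : y⁻¹ = y := mul_left_cancel (mul_right_cancel h)
      rw [← inv_eq_iff_mul_eq_one, h2]
  by_cases heT : e ∈ pairFix a b
  · by_cases he2' : e * e = 1
    · obtain ⟨h1, -⟩ := hj e he heT he2' he0
      exact h1.2 (noT e he1 h1.1)
    · have := mem_pairFix_conj.1 hbT
      rw [rot_eq hab hT heT he1 he2'] at this
      exact yT this
  have hei : e⁻¹ = e := inv_eq_of_mul_eq_one_right (sq_of_swap hab (hT he) heT)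
  have hd : e⁻¹ * s ∈ pairFix a b := by rw [hei]; exact mul_mem_of_swap (hT he) heT (hT hs) hsn
  have hdH : e⁻¹ * s ∈ H := H.mul_mem (H.inv_mem he) hs
  by_cases hd2 : e⁻¹ * s * (e⁻¹ * s) = 1
  · obtain ⟨-, h1⟩ := hj _ hdH hd hd2 fun h => hes (inv_mul_eq_one.1 h)
    rw [show e⁻¹ * s * s = e by rw [mul_assoc, hss, mul_one, hei]] at h1
    exact h1.2 (noT e he1 h1.1)
  · have := mem_pairFix_conj.1 hcT
    rw [rot_eq hab hT hd he2 hd2] at this
    refine hy2 ?_
    have hyw : y⁻¹ = y⁻¹ * s * s := by rw [mul_assoc, hss, mul_one]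
    have h1 : y⁻¹ ∈ pairSet a b ∧ y⁻¹ ∉ pairFix a b := by
      rw [hyw]
      exact ⟨(pairSet a b).mul_mem (pairFix_le_pairSet a b this) (hT hs),
        fun h => hsn ((Subgroup.mul_mem_cancel_left _ this).1 h)⟩
    have h2 := sq_of_swap hab h1.1 h1.2
    rwa [← _root_.mul_inv_rev, inv_eq_one] at h2

/-- A rotation which is a product of two conjugate rotations without common inverter. -/
theorem not_bin_rot_product {H : Subgroup (G2 F)} (hH : H ≤ psl F) {a b : P2 (Kc F)} (hab : a ≠ b)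
    (hT : H ≤ pairSet a b) {x : G2 F} (hx : x ∈ H) (hxT : x ∈ pairFix a b) (hx2 : x * x ≠ 1) {u v y : G2 F}
    (hu : u ∈ psl F) (hv : v ∈ psl F) (hb : u⁻¹ * y * u ∈ H) (hbT : u⁻¹ * y * u ∈ pairFix a b)
    (hc : v⁻¹ * (y⁻¹ * x) * v ∈ H) (hcT : v⁻¹ * (y⁻¹ * x) * v ∈ pairFix a b) (hxy : x * y ≠ y * x)
    (hno : ∀ e ∈ psl F, e ≠ 1 → e * e = 1 → e * x = x⁻¹ * e → e * y ≠ y * e ∧ e * y ≠ y⁻¹ * e) :
    ¬ BinIn (psl F) H := by
  have yT : y ∉ pairFix a b := fun hy => hxy (pairFix_comm hab hxT hy)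
  refine not_bin_of_witness hH hu hv hx hb hc fun e he he1 he2 => ?_
  by_cases heT : e ∈ pairFix a b
  · by_cases he2' : e * e = 1
    · have hd : e⁻¹ * x ∈ pairFix a b := (pairFix a b).mul_mem ((pairFix a b).inv_mem heT) hxT
      have hd2 : e⁻¹ * x * (e⁻¹ * x) ≠ 1 := fun h => hx2 (by
        rw [inv_eq_of_mul_eq_one_right he2', mul_assoc, ← mul_assoc x, ← pairFix_comm hab heT hxT, mul_assoc e x x,
          ← mul_assoc, he2', one_mul] at h
        exact h)
      have := mem_pairFix_conj.1 hcT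
      rw [rot_eq hab hT hd he2 hd2] at this
      exact yT (by simpa [mul_assoc] using (pairFix a b).mul_mem hxT ((pairFix a b).inv_mem this))
    · have := mem_pairFix_conj.1 hbT
      rw [rot_eq hab hT heT he1 he2'] at this
      exact yT this
  obtain ⟨h1, h2⟩ := hno e (hH he) (fun h => heT (h ▸ (pairFix a b).one_mem)) (sq_of_swap hab (hT he) heT)
    (inv_of_swap hab (hT he) heT hxT)
  exact h2 ((commute_or_invert hab hT hbT he1).resolve_left h1)

/-- An odd rotation as a product of reflections of a larger dihedral group. -/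
theorem not_bin_reflections {H : Subgroup (G2 F)} (hH : H ≤ psl F) {a b : P2 (Kc F)} (hab : a ≠ b)
    (hT : H ≤ pairSet a b) (hinv : ∀ d ∈ pairFix a b, d * d = 1 → d = 1) {x : G2 F} (hx : x ∈ H)
    (hxT : x ∈ pairFix a b) (hx1 : x ≠ 1) {r : G2 F} (hr : r ∈ pairSet a b) (hrn : r ∉ pairFix a b) (hrH : r ∉ H)
    {u v : G2 F} (hu : u ∈ psl F) (hv : v ∈ psl F) (hb : u⁻¹ * r * u ∈ H) (hc : v⁻¹ * (r⁻¹ * x) * v ∈ H)
    (hA : pairFix (mapG (iF F) u • a) (mapG (iF F) u • b) ≠ pairFix a b)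
    (hB : pairFix (mapG (iF F) v • a) (mapG (iF F) v • b) ≠ pairFix a b) : ¬ BinIn (psl F) H := by
  refine not_bin_of_witness hH hu hv hx hb hc fun e he he1 he2 => ?_
  by_cases heT : e ∈ pairFix a b
  · by_cases he0 : e = 1
    · subst he0
      rw [inv_one, one_mul] at he2
      exact hB (rot_eq hab hT hxT he2 fun h => hx1 (hinv x hxT h))
    · exact hA (rot_eq hab hT heT he1 fun h => he0 (hinv e heT h))
  have hd : r * e ∈ pairFix a b := mul_mem_of_swap hr hrn (hT he) heT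
  have hne : r * e ≠ 1 := fun h => hrH (by rw [eq_inv_of_mul_eq_one_left h]; exact H.inv_mem he)
  refine hA (rot_eq hab hT hd ?_ fun h => hne (hinv _ hd h))
  rw [show u⁻¹ * (r * e) * u = u⁻¹ * r * u * (u⁻¹ * e * u) by group]
  exact H.mul_mem hb he1

/-- The four group. -/
theorem not_bin_four {H : Subgroup (G2 F)} (hH : H ≤ psl F) {a b : P2 (Kc F)} (hab : a ≠ b)
    (hT : H ≤ pairSet a b) (hexp : ∀ g ∈ H, g ∈ pairFix a b → g * g = 1) {j : G2 F} (hj : j ∈ H)
    (hjT : j ∈ pairFix a b) (hj1 : j ≠ 1) {r : G2 F} (hr : r ∈ pairSet a b) (hrn : r ∉ pairFix a b) (hrH : r ∉ H)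
    {u v : G2 F} (hu : u ∈ psl F) (hv : v ∈ psl F) (hb : u⁻¹ * r * u ∈ H) (hc : v⁻¹ * (r⁻¹ * j) * v ∈ H)
    (hA : u⁻¹ * j * u ∉ H) (hB : v⁻¹ * j * v ∉ H) : ¬ BinIn (psl F) H := by
  have hall : ∀ g ∈ H, g * g = 1 := fun g hg => by
    by_cases h : g ∈ pairFix a b
    · exact hexp g hg h
    · exact sq_of_swap hab (hT hg) h
  refine not_bin_of_witness hH hu hv hj hb hc fun e he he1 he2 => ?_
  by_cases heT : e ∈ pairFix a b
  · by_cases he0 : e = 1
    · subst he0
      rw [inv_one, one_mul] at he2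
      exact hB he2
    · rw [invol_unique hab heT hjT (hexp e he heT) (hexp j hj hjT) he0 hj1] at he1
      exact hA he1
  have hd : r * e ∈ pairFix a b := mul_mem_of_swap hr hrn (hT he) heT
  have hd2 : r * e * (r * e) = 1 := by
    rw [← conj_mul_self (u := u), show u⁻¹ * (r * e) * u = u⁻¹ * r * u * (u⁻¹ * e * u) by group]
    exact hall _ (H.mul_mem hb he1)
  refine hrH ?_
  by_cases hne : r * e = 1
  · rw [eq_inv_of_mul_eq_one_left hne]; exact H.inv_mem he
  · have := invol_unique hab hd hjT hd2 (hexp j hj hjT) hne hj1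
    rw [eq_mul_inv_of_mul_eq this]
    exact H.mul_mem hj (H.inv_mem he)

end CfsgLib.Classical.PslBin
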